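import Cfsg.Agent.R2.Spec.EE.CertSm_m3
import Cfsg.Agent.H378.TwRows
import Cfsg.Agent.S1066
import Cfsg.Agent.OddCyclic.ClaimC.SzIso
import Cfsg.Agent.S2238
import Cfsg.Agent.S1159
import Cfsg.Agent.R2.Spec.X4.H10.Num_m3
import Cfsg.Agent.H72.F4I.ExcRow
import Cfsg.Agent.H378.RegE7
import Cfsg.Agent.S2475
import Cfsg.Agent.H360.Iso.Sp
import Cfsg.Agent.H360.Iso.Lin
import Cfsg.Agent.H360.Iso.Uni
import Cfsg.Agent.H379.P4.TwoElt
import Cfsg.Agent.LieClassical.SympCenter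
import Cfsg.Agent.H72.F4I.Iso.Uni_m3
import Cfsg.Agent.H72.AdjPSUW
import Cfsg.Agent.S1059
import Cfsg.Agent.S1067
import Cfsg.Agent.H72.F4I.Num_m3
import Cfsg.Agent.H156.TDRow.Orth
import Cfsg.Agent.S0293
import Cfsg.Agent.S0294
import Cfsg.Agent.H72.AdjPSL
import Cfsg.Agent.H182.CentOrth
import Cfsg.Agent.R2.Spec.X1.TD.Spec_m3
import Cfsg.Agent.R2.Spec.X3.PairIF_m3
import Cfsg.Agent.H402.Rec.FactU_mg_m3
import Cfsg.Agent.H369.Ti.Elts
import Cfsg.Agent.H376.CocAlt_m3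
import Cfsg.Agent.H603.SporElim
import Cfsg.Prelude.Def_Classification2
import Cfsg.Agent.S1064
import Cfsg.Agent.Prune
set_option linter.all false

section
prune_inst 0x7fffedfcfbbe3bffffff7e7fffb8dffe1b95dfffefdff943ffe06bff9fff139a0bc5fbaf8de030fe0ed6e23410b87813fb7eeeffeb6fd87ffffdbff45ffbee5fe5f7bd0111d090240f746ffee3f07f8a7f3fffffffffffffffffffffffffffbeffbfffffffff

-- part: R2/Spec/X1/TRe/TE6_mg
section
prune_inst 0x12030441c40000000000004120002042000010000208001f80002000a065302800001004c8019020048b28010040008111000400240000004003000000201208028c60072f10c00a00011800004400000000000000000000000000000041004000000000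
set_option linter.all false
open scoped Cfsg.Agent.FastGrp

-- part: R2/Spec/X1/TRe/TE6
section
/-!
# Row `²E₆(u)` for the recognition of `³D₄(q)` by spectrum (helper488, for S3478)
-/

set_option autoImplicit false
set_option linter.unusedSectionVars false

namespace Cfsg.Agent.R2.Spec.X1.TRe

open Cfsg Cfsg.Lie
open Cfsg.Agent.R2.Spec.X1.TI Cfsg.Agent.R2.Spec.X1.TD

/-- `r ∣ u⁶ - u³ + 1` if `u` has order 18 modulo `r` -/
theorem dvd_phi18 {u r : ℕ} (hu : 1 ≤ u) (hr : r.Prime) (hd : orderOf ((u : ℕ) : ZMod r) = 18) :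
    r ∣ u ^ 3 * (u ^ 3 - 1) + 1 := by
  have := Fact.mk hr
  rw [← ZMod.natCast_eq_zero_iff]
  push_cast [Nat.cast_sub (Nat.one_le_pow 3 u hu)]
  have h1 : (u : ZMod r) ^ 18 = 1 := by rw [← hd]; exact pow_orderOf_eq_one _
  have h2 : (u : ZMod r) ^ 9 ≠ 1 := fun h => by
    have := orderOf_dvd_of_pow_eq_one h
    rw [hd] at this
    norm_num at this
  have h2' : (u : ZMod r) ^ 6 ≠ 1 := fun h => by
    have := orderOf_dvd_of_pow_eq_one h
    rw [hd] at this
    norm_num at this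
  have h3 : ((u : ZMod r) ^ 9 - 1) * ((u : ZMod r) ^ 9 + 1) = 0 := by
    linear_combination h1
  have h4 := (mul_eq_zero.1 h3).resolve_left (sub_ne_zero.2 h2)
  have h5 : ((u : ZMod r) ^ 3 + 1) * ((u : ZMod r) ^ 3 * ((u : ZMod r) ^ 3 - 1) + 1) = 0 := by
    linear_combination h4
  refine (mul_eq_zero.1 h5).resolve_left fun h6 => h2' ?_
  have h7 : (u : ZMod r) ^ 3 = -1 := eq_neg_of_add_eq_zero_left h6
  calc (u : ZMod r) ^ 6 = ((u : ZMod r) ^ 3) ^ 2 := by ring
    _ = 1 := by rw [h7]; ring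

/-- an odd prime divisor of `u⁴ + 1` -/
theorem exists_prime_four {u : ℕ} (hu : 2 ≤ u) : ∃ t : ℕ, t.Prime ∧ t ≠ 2 ∧ t ∣ u ^ 4 + 1 := by
  have h16 : 2 ^ 4 ≤ u ^ 4 := Nat.pow_le_pow_left hu 4
  by_contra hcon
  push Not at hcon
  have h1 : ∀ t : ℕ, t.Prime → t ∣ u ^ 4 + 1 → t = 2 := fun t ht hd => by
    by_contra h2
    exact hcon t ht h2 hd
  have h2 := Nat.eq_prime_pow_of_unique_prime_dvd (n := u ^ 4 + 1) (p := 2) (by omega) fun {t} ht hd => h1 t ht hd
  have h3 : 4 ∣ u ^ 4 + 1 := by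
    rw [h2]
    have h4 : 2 ≤ (u ^ 4 + 1).primeFactorsList.length := by
      by_contra h5
      have h6 : (u ^ 4 + 1).primeFactorsList.length ≤ 1 := by omega
      have h7 : 2 ^ (u ^ 4 + 1).primeFactorsList.length ≤ 2 ^ 1 := Nat.pow_le_pow_right (by norm_num) h6
      omega
    exact (by norm_num : (4 : ℕ) = 2 ^ 2) ▸ pow_dvd_pow 2 h4
  have h4 : (u ^ 4 + 1) % 4 = 0 := Nat.mod_eq_zero_of_dvd h3
  have h5 : u ^ 4 % 4 = ((u % 4) ^ 4) % 4 := by rw [Nat.pow_mod]
  have h6 : u % 4 < 4 := Nat.mod_lt _ (by norm_num)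
  interval_cases hv : u % 4 <;> (clear * - h2 h3 h5; omega)

universe v

/-- **Row `²E₆(u)`.** -/
theorem row_2E6 {p q : ℕ} {K : Type v} [Field K] [Fintype K] {u : ℕ} (hu : IsPrimePow u) (hK : Fintype.card K = u ^ 2)
    (h : Sit p q ↥(twistedE6 K u)) : False := by
  have hP := h.par
  have hu2 := hu.two_le
  have hcard := S1066.result hu hK
  have hn73 := mm_ge hP
  have h8 : 8 ≤ u ^ 3 := by
    calc 8 = 2 ^ 3 := by norm_num
      _ ≤ u ^ 3 := Nat.pow_le_pow_left hu2 3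
  by_cases h2 : u = 2
  · subst h2
    have h1 : R2.Spec.X1.TD.mm q ∣ 13 := by
      have h3 := h.mm_dvd_card
      have h4 : Nat.card ↥(twistedE6 K 2) = 13 * (2 ^ 36 * (33 * 63 * 255 * 513 * 315)) := by
        norm_num only [] at hcard ⊢
        omega
      rw [h4] at h3
      refine Nat.Coprime.dvd_of_dvd_mul_right ?_ h3
      refine h.coprime_of fun s hs hsn hsM => ?_
      have h5 := prime_mm hP hs hsn
      have h6 : s ∣ 2 ^ 36 * (3 ^ 9 * 5 ^ 2 * 7 ^ 2 * 11 * 17 * 19) := by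
        refine hsM.trans (dvd_of_eq ?_)
        norm_num
      have key : ∀ r : ℕ, r.Prime → r % 12 ≠ 1 → ∀ k : ℕ, ¬ s ∣ r ^ k := fun r hr hr1 k hk =>
        hr1 (by rw [← (Nat.prime_dvd_prime_iff_eq hs hr).1 (hs.dvd_of_dvd_pow hk)]; exact h5)
      simp only [hs.dvd_mul] at h6
      rcases h6 with h6 | (((((h6 | h6) | h6) | h6) | h6) | h6)
      · exact key 2 (by norm_num) (by norm_num) _ h6
      · exact key 3 (by norm_num) (by norm_num) _ h6
      · exact key 5 (by norm_num) (by norm_num) _ h6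
      · exact key 7 (by norm_num) (by norm_num) _ h6
      · exact key 11 (by norm_num) (by norm_num) 1 (by rw [pow_one]; exact h6)
      · exact key 17 (by norm_num) (by norm_num) 1 (by rw [pow_one]; exact h6)
      · exact key 19 (by norm_num) (by norm_num) 1 (by rw [pow_one]; exact h6)
    have := Nat.le_of_dvd (by norm_num) h1
    omega
  obtain ⟨s, hs, hsn, hs13, hsc⟩ := h.exists_prime
  have hod := ((H378.TwRows.near_2E6 hu hK hs hsc).resolve_left (h.not_near hs hsn)).resolve_right fun h3 => h2 h3.1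
  have hdN : s ∣ u ^ 3 * (u ^ 3 - 1) + 1 := dvd_phi18 (by omega) hs hod
  have hNZ : ((u ^ 3 * (u ^ 3 - 1) + 1 : ℕ) : ℤ) = 1 - (u : ℤ) ^ 3 + (u : ℤ) ^ 6 := by
    push_cast [Nat.cast_sub (show 1 ≤ u ^ 3 by omega)]
    ring
  have hE := H129.CycT.exact_tE6_18 hu hK hNZ
  have hg : Nat.gcd 3 (u + 1) = 1 ∨ Nat.gcd 3 (u + 1) = 3 := (Nat.dvd_prime Nat.prime_three).1 (Nat.gcd_dvd_left _ _)
  obtain ⟨v, hv⟩ : ∃ v, u ^ 3 = v + 1 := ⟨u ^ 3 - 1, by omega⟩
  rcases hg with hg | hg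
  · rw [hg, Nat.div_one] at hE
    have h1 := h.exact hE hs hdN hsn
    have h3 : u ^ 3 = q ^ 2 := by
      refine eq_sub hP (v := u ^ 3) ?_ (by omega)
      rw [← h1, hv, Nat.add_sub_cancel]
      ring
    obtain ⟨t, ht, ht2, htd⟩ := exists_prime_four hu2
    have := Fact.mk ht
    have hz : (u : ZMod t) ^ 4 = -1 := by
      have h4 := (ZMod.natCast_eq_zero_iff (u ^ 4 + 1) t).2 htd
      push_cast at h4
      exact eq_neg_of_add_eq_zero_left h4
    have h2t : (2 : ZMod t) ≠ 0 := by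
      have h4 : ((2 : ℕ) : ZMod t) ≠ 0 := fun h5 =>
        ht2 ((Nat.prime_dvd_prime_iff_eq ht Nat.prime_two).1 ((ZMod.natCast_eq_zero_iff 2 t).1 h5))
      exact_mod_cast h4
    have hu0 : (u : ZMod t) ≠ 0 := fun h4 => by
      rw [h4] at hz
      have : (1 : ZMod t) = 0 := by linear_combination hz
      exact one_ne_zero this
    have hn1 : ∀ m : ℕ, (m = 18 ∨ m = 9) → (u : ZMod t) ^ m ≠ 1 := fun m hm h4 => by
      have h5 : (u : ZMod t) ^ 8 = 1 := by
        calc (u : ZMod t) ^ 8 = ((u : ZMod t) ^ 4) ^ 2 := by ring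
          _ = 1 := by rw [hz]; ring
      have h6 : orderOf (u : ZMod t) ∣ 2 := by
        have h7 := Nat.dvd_gcd (orderOf_dvd_of_pow_eq_one h4) (orderOf_dvd_of_pow_eq_one h5)
        rcases hm with rfl | rfl
        · exact h7
        · exact h7.trans (by norm_num)
      have h7 : (u : ZMod t) ^ 2 = 1 := orderOf_dvd_iff_pow_eq_one.1 h6
      apply h2t
      have h8 : (u : ZMod t) ^ 4 = 1 := by
        calc (u : ZMod t) ^ 4 = ((u : ZMod t) ^ 2) ^ 2 := by ring
          _ = 1 := by rw [h7]; ring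
      linear_combination hz - h8
    have htc : t ∣ Nat.card ↥(twistedE6 K u) := by
      have h4 : t ∣ u ^ 8 - 1 := by
        have h5 : u ^ 8 - 1 = (u ^ 4 + 1) * (u ^ 4 - 1) := by
          have := Nat.sq_sub_sq (u ^ 4) 1
          rw [← pow_mul] at this
          simpa only [_root_.Nat.reduceMul, _root_.one_pow] using this
        rw [h5]
        exact htd.mul_right _
      rw [hg, one_mul] at hcard
      rw [hcard]
      exact ((h4.mul_left _).mul_right _).mul_right _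
    rcases h.prime ht htc with h4 | h4 | h4
    · -- `t ∣ n ∣ u⁹ + 1`
      rw [← h1] at h4
      have h5 := (ZMod.natCast_eq_zero_iff _ t).2 h4
      push_cast [Nat.cast_sub (show 1 ≤ u ^ 3 by omega)] at h5
      apply hn1 18 (Or.inl rfl)
      have h6 : (u : ZMod t) ^ 9 = -1 := by
        have : ((u : ZMod t) ^ 3 + 1) * ((u : ZMod t) ^ 3 * ((u : ZMod t) ^ 3 - 1) + 1) = 0 := by rw [h5, mul_zero]
        linear_combination this
      calc (u : ZMod t) ^ 18 = ((u : ZMod t) ^ 9) ^ 2 := by ring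
        _ = 1 := by rw [h6]; ring
    · -- `t ∣ q`
      have h5 : t ∣ u ^ 3 := by rw [h3]; exact dvd_pow h4 two_ne_zero
      have h6 := ht.dvd_of_dvd_pow h5
      exact hu0 ((ZMod.natCast_eq_zero_iff u t).2 h6)
    · -- `t ∣ q⁶ - 1 = u⁹ - 1`
      have h5 : q ^ 6 = u ^ 9 := by
        calc q ^ 6 = (q ^ 2) ^ 3 := by ring
          _ = u ^ 9 := by rw [← h3]; ring
      rw [h5] at h4
      have h6 := (ZMod.natCast_eq_zero_iff _ t).2 h4
      rw [Nat.cast_sub (Nat.one_le_pow _ _ (by omega))] at h6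
      push_cast at h6
      exact hn1 9 (Or.inr rfl) (sub_eq_zero.1 h6)
  · rw [hg] at hE
    have h3u : 3 ∣ u + 1 := Nat.gcd_eq_left_iff_dvd.1 hg
    have h3N : 3 ∣ u ^ 3 * (u ^ 3 - 1) + 1 := by
      rw [← Int.natCast_dvd_natCast, hNZ]
      obtain ⟨t, ht⟩ := h3u
      have hu1 : (u : ℤ) = 3 * t - 1 := by omega
      rw [hu1]
      refine ⟨243 * t ^ 6 - 486 * t ^ 5 + 405 * t ^ 4 - 189 * t ^ 3 + 54 * t ^ 2 - 9 * t + 1, ?_⟩
      push_cast
      ring
    obtain ⟨N, hN⟩ := h3N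
    rw [hN, Nat.mul_div_cancel_left _ (by norm_num)] at hE
    have hsN : s ∣ N := by
      rw [hN] at hdN
      refine ((Nat.Prime.dvd_mul hs).1 hdN).resolve_left fun h3 => ?_
      have := Nat.le_of_dvd (by norm_num) h3
      omega
    have h1 := h.exact hE hs hsN hsn
    refine ne_three hP v ?_
    rw [← h1, ← hN, hv, Nat.add_sub_cancel]
    ring

end Cfsg.Agent.R2.Spec.X1.TRe
end

-- part: R2/Spec/X1/TRe/SzRee
section
/-!
# Rows `Sz(u)` and `Ree(u)` for the recognition of `³D₄(q)` by spectrum (helper488, for S3478)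
-/

set_option autoImplicit false
set_option linter.unusedSectionVars false

namespace Cfsg.Agent.R2.Spec.X1.TRe

open Cfsg Cfsg.Lie
open Cfsg.Agent.R2.Spec.X1.TI Cfsg.Agent.R2.Spec.X1.TD

universe v

/-- **Row `Sz(u)`.** -/
theorem row_sz {p q : ℕ} {F : Type v} [Field F] [Fintype F] {m : ℕ} (hm : 1 ≤ m) (hF : Fintype.card F = 2 ^ (2 * m + 1))
    (h : Sit p q ↥(Lie.Sz F (2 ^ (m + 1)))) : False := by
  have hP := h.par
  obtain ⟨e⟩ := Cfsg.Agent.OddCyclic.ClaimC.SzIso.iso hm hF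
  have h := h.congr e.symm
  have hfin : Finite ↥(Cfsg.Sz F m) := inferInstance
  obtain ⟨x, hx⟩ := h.mm
  have hn73 := mm_ge hP
  have hodd := mm_odd hP
  have hmod := mm_mod hP
  have hx1 : x ≠ 1 := by
    rintro rfl
    rw [orderOf_one] at hx
    omega
  obtain ⟨U, ⟨hU, hxU⟩, -⟩ := Cfsg.Agent.S2238.result hm hF x hx1
  have hdU : R2.Spec.X1.TD.mm q ∣ Nat.card ↥U := by
    rw [← hx, ← Subgroup.orderOf_mk _ hxU]
    exact orderOf_dvd_natCard _
  rcases hU with ⟨P, rfl⟩ | ⟨hc, hN⟩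
  · obtain ⟨k, hk⟩ := IsPGroup.iff_card.1 P.isPGroup'
    rw [hk] at hdU
    have h1 : Nat.Coprime (R2.Spec.X1.TD.mm q) (2 ^ k) := (Nat.coprime_two_right.2 hodd).pow_right k
    have h2 := h1.eq_one_of_dvd hdU
    omega
  · obtain ⟨s, hs, hsn, hs13, hsc⟩ := h.exists_prime
    obtain ⟨c, hc⟩ := hc.exists_generator
    have hc' : orderOf (c : ↥(Cfsg.Sz F m)) = Nat.card ↥U := by
      rw [Subgroup.orderOf_coe]
      exact orderOf_eq_card_of_forall_mem_zpowers hc
    have hUn : Nat.card ↥U = R2.Spec.X1.TD.mm q :=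
      Nat.dvd_antisymm (h.dvd_mm ⟨_, hc'⟩ hs (hsn.trans hdU) hsn) hdU
    rw [hUn] at hN
    have e1 : 2 ^ (2 * m + 1) = 2 * (2 ^ m) ^ 2 := by ring
    have e2 : 2 ^ (m + 1) = 2 * 2 ^ m := by ring
    have hw : 2 ≤ 2 ^ m := by
      calc 2 = 2 ^ 1 := rfl
        _ ≤ 2 ^ m := Nat.pow_le_pow_right (by norm_num) hm
    have h2w : 2 ∣ 2 ^ m := dvd_pow_self 2 (by omega)
    rw [e1, e2] at hN
    generalize 2 ^ m = w at *
    have hww : 2 * w ≤ w ^ 2 := by nlinarith only [hw]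
    have h4 : 4 ∣ w ^ 2 := by
      have := pow_dvd_pow_of_dvd h2w 2
      exact this
    rcases hN with hN | hN | hN
    · omega
    · refine ne_half hP (2 * w + 1) ?_
      rw [hN]
      ring
    · refine ne_half hP (2 * w - 1) ?_
      rw [hN]
      obtain ⟨t, rfl⟩ : ∃ t, w = t + 1 := ⟨w - 1, by omega⟩
      have e3 : 2 * (t + 1) ^ 2 - 2 * (t + 1) + 1 = 2 * t ^ 2 + 2 * t + 1 := by
        have : 2 * (t + 1) ^ 2 = 2 * t ^ 2 + 2 * t + 2 * (t + 1) := by ring
        (clear * - this; omega)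
      have e4 : 2 * (t + 1) - 1 = 2 * t + 1 := by (clear * -; omega)
      rw [e3, e4]
      ring

/-- `n = 3 w (w ± 1) + 1`, `w` a power of 3, is impossible -/
theorem ne_ree {p q m P : ℕ} (hP : Par p q) (hm : 1 ≤ m) (hPw : P = 3 ^ m + 1 ∨ P = 3 ^ m - 1) :
    R2.Spec.X1.TD.mm q ≠ 3 ^ (m + 1) * P + 1 := by
  intro h1
  have h3w : 3 ∣ 3 ^ m := dvd_pow_self 3 (by omega)
  have hw : 3 ≤ 3 ^ m := by
    calc 3 = 3 ^ 1 := rfl
      _ ≤ 3 ^ m := Nat.pow_le_pow_right (by norm_num) hm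
  have hco : Nat.Coprime (3 ^ (m + 1)) P := by
    refine Nat.Coprime.pow_left _ ((Nat.Prime.coprime_iff_not_dvd Nat.prime_three).2 ?_)
    rcases hPw with rfl | rfl <;> omega
  have h2 := mm_eq hP.hq
  have hq9 : 9 ≤ q ^ 2 := by nlinarith only [hP.hq]
  rcases split hP (Nat.prime_three.isPrimePow.pow (by omega)) hco h1 with ⟨h3, h4⟩ | ⟨c, hc⟩
  · have e2 : 3 ^ (m + 1) = 3 * 3 ^ m := by ring
    rw [e2] at h3
    rcases hPw with h5 | h5 <;> (clear * - h3w hq9 h3 h4 h5; omega)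
  · have e2 : 3 ^ (m + 1) = 3 * 3 ^ m := by ring
    have hc0 : c ≠ 0 := by
      rintro rfl
      rcases hPw with h5 | h5 <;> omega
    have h5 : q ^ 2 ≤ P := hc ▸ Nat.le_mul_of_pos_right _ (by omega)
    have h6 : q ^ 2 * (q ^ 2 - 1) = 3 ^ (m + 1) * P := by omega
    have h7 : q ^ 2 - 1 < 3 ^ (m + 1) := by
      rw [e2]
      rcases hPw with h7 | h7 <;> (clear * - hq9 h5 h7; omega)
    have h8 : q ^ 2 * (q ^ 2 - 1) < P * 3 ^ (m + 1) := by
      calc q ^ 2 * (q ^ 2 - 1) < q ^ 2 * 3 ^ (m + 1) := Nat.mul_lt_mul_of_pos_left h7 (by omega)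
        _ ≤ P * 3 ^ (m + 1) := Nat.mul_le_mul_right _ h5
    rw [h6, mul_comm] at h8
    exact lt_irrefl _ h8

/-- **Row `Ree(u)`.** -/
theorem row_ree {p q : ℕ} {K : Type v} [Field K] [Fintype K] {m : ℕ} (hm : 1 ≤ m) (hF : Fintype.card K = 3 ^ (2 * m + 1))
    (h : Sit p q ↥(Lie.twistedG2 K (3 ^ m))) : False := by
  have hP := h.par
  have hfin : Finite ↥(Cfsg.Lie.twistedG2 K (3 ^ m)) := inferInstance
  have hn73 := mm_ge hP
  have hodd := mm_odd hP
  rw [Nat.odd_iff] at hodd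
  obtain ⟨s, hs, hsn, hs13, hsc⟩ := h.exists_prime
  have hS := Cfsg.Agent.S1159.result hm hF
  have key : ∀ N : ℕ, (∃ g : ↥(Cfsg.Lie.twistedG2 K (3 ^ m)), orderOf g = N) → R2.Spec.X1.TD.mm q ∣ N → N = R2.Spec.X1.TD.mm q :=
    fun N hN hd => Nat.dvd_antisymm (h.dvd_mm hN hs (hsn.trans hd) hsn) hd
  have hu4 : 3 ^ (2 * m + 1) % 4 = 3 := by
    rw [pow_succ, pow_mul, Nat.mul_mod, Nat.pow_mod]
    norm_num
  have e1 : 3 ^ (2 * m + 1) = 3 ^ (m + 1) * 3 ^ m := by rw [← pow_add]; congr 1; omega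
  have hw : 3 ≤ 3 ^ m := by
    calc 3 = 3 ^ 1 := rfl
      _ ≤ 3 ^ m := Nat.pow_le_pow_right (by norm_num) hm
  rcases (hS _).1 h.mm with h1 | h1 | h1 | h1 | h1 | h1
  · have := Nat.le_of_dvd (by norm_num) h1
    omega
  · have := Nat.le_of_dvd (by norm_num) h1
    omega
  · have h2 := key _ ((hS _).2 (Or.inr (Or.inr (Or.inl dvd_rfl)))) h1
    omega
  · have h2 := key _ ((hS _).2 (Or.inr (Or.inr (Or.inr (Or.inl dvd_rfl))))) h1
    omega
  · have h2 := key _ ((hS _).2 (Or.inr (Or.inr (Or.inr (Or.inr (Or.inl dvd_rfl)))))) h1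
    refine ne_ree hP hm (Or.inr rfl) ?_
    rw [← h2, e1, Nat.mul_sub, mul_one]
  · have h2 := key _ ((hS _).2 (Or.inr (Or.inr (Or.inr (Or.inr (Or.inr dvd_rfl)))))) h1
    refine ne_ree hP hm (Or.inl rfl) ?_
    rw [← h2, e1, Nat.mul_add, mul_one]

end Cfsg.Agent.R2.Spec.X1.TRe
end
end

-- part: R2/Spec/X1/E6/ERBase
section
set_option linter.all false
open scoped Cfsg.Agent.FastGrp

/-!
# Identification of `E₆(q)`, `²E₆(q)`: exceptional rows, base (helper77, statements S3480, S3481)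

* `isoN` : `Sit D S → IsoN S D.n`;
* `Sit.torAt`, `Sit.exact'` : a cyclic torus meeting `m`;
* `Dat.tab` : the numbers for `q < 8`.
-/

set_option autoImplicit false
set_option linter.unusedSectionVars false

namespace Cfsg.Agent.R2.Spec.X1.E6.ERBase

open Cfsg.Agent.R2.Spec.X1.E6 Cfsg.Agent.H129.CycT
open Cfsg.Agent.H134.TD (TorAt torAt_of_exact)
open Cfsg.Agent.H72.F4I.Iso

variable {D : Dat} {S : Type*} [Group S]

/-- the isolated number -/
theorem isoN (h : Sit D S) : IsoN S D.n :=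
  ⟨h.on, h.iso, D.n_odd, D.n_three, by have := D.one_lt_n; omega⟩

theorem ne_two {t : ℕ} (ht : t ∣ D.m) : t ≠ 2 := by
  rintro rfl
  exact D.m_odd ht

theorem ne_three {t : ℕ} (ht : t ∣ D.m) : t ≠ 3 := by
  rintro rfl
  exact D.m_three ht

/-- a prime of `m` does not divide `n` -/
theorem not_dvd_n {t : ℕ} (ht : t.Prime) (htm : t ∣ D.m) : ¬ t ∣ D.n := fun h =>
  ht.one_lt.ne' (Nat.dvd_one.1 (D.coprime_mn ▸ Nat.dvd_gcd htm h))

/-- a torus meeting `m` -/
theorem torAt [Finite S] (h : Sit D S) {N t : ℕ} (hT : TorAt S N t) (ht : t.Prime) (htN : t ∣ N) (htm : t ∣ D.m) :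
    D.m ∣ N ∧ N ∣ D.e := by
  obtain ⟨T, h1, rfl, h3⟩ := hT
  exact h.card_dvd h1 ht htN h3 htm

theorem exact' [Finite S] (h : Sit D S) {N t : ℕ} (hN : CycExact S N) (ht : t.Prime) (htN : t ∣ N) (htm : t ∣ D.m) :
    D.m ∣ N ∧ N ∣ D.e :=
  torAt h (torAt_of_exact hN ht) ht htN htm

/-! ### numbers -/

theorem isPrimePow_six : ¬ IsPrimePow 6 := by
  rintro ⟨p, k, hp, hk, h⟩
  have hp := hp.nat_prime
  have h2 : 2 ∣ p ^ k := by rw [h]; norm_num
  have h3 : 3 ∣ p ^ k := by rw [h]; norm_num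
  have h4 := (Nat.prime_dvd_prime_iff_eq Nat.prime_two hp).1 (Nat.prime_two.dvd_of_dvd_pow h2)
  have h5 := (Nat.prime_dvd_prime_iff_eq Nat.prime_three hp).1 (Nat.prime_three.dvd_of_dvd_pow h3)
  omega

/-- **The numbers for `q < 8`.** -/
theorem tab (D : Dat) (h : D.q < 8) :
    (D.q = 2 ∧ D.ε = 1 ∧ D.d = 1 ∧ D.n = 73 ∧ D.m = 13 ∧ D.e = 91) ∨
    (D.q = 2 ∧ D.ε = -1 ∧ D.d = 3 ∧ D.n = 19 ∧ D.m = 13 ∧ D.e = 39) ∨
    (D.q = 3 ∧ D.ε = 1 ∧ D.d = 1 ∧ D.n = 757 ∧ D.m = 73 ∧ D.e = 949) ∨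
    (D.q = 3 ∧ D.ε = -1 ∧ D.d = 1 ∧ D.n = 703 ∧ D.m = 73 ∧ D.e = 511) ∨
    (D.q = 4 ∧ D.ε = 1 ∧ D.d = 3 ∧ D.n = 1387 ∧ D.m = 241 ∧ D.e = 5061) ∨
    (D.q = 4 ∧ D.ε = -1 ∧ D.d = 1 ∧ D.n = 4033 ∧ D.m = 241 ∧ D.e = 3133) ∨
    (D.q = 5 ∧ D.ε = 1 ∧ D.d = 1 ∧ D.n = 15751 ∧ D.m = 601 ∧ D.e = 18631) ∨
    (D.q = 5 ∧ D.ε = -1 ∧ D.d = 3 ∧ D.n = 5167 ∧ D.m = 601 ∧ D.e = 12621) ∨
    (D.q = 7 ∧ D.ε = 1 ∧ D.d = 3 ∧ D.n = 39331 ∧ D.m = 2353 ∧ D.e = 134121) ∨
    (D.q = 7 ∧ D.ε = -1 ∧ D.d = 1 ∧ D.n = 117307 ∧ D.m = 2353 ∧ D.e = 101179) := by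
  have h2 := D.two_le
  have hpp := D.pp
  have hd3 := D.hd3
  have hn := D.hn
  have hm := D.hm
  have he := D.he
  have hdd := D.hd
  generalize D.m = m at *
  generalize D.e = e at *
  generalize D.n = n at *
  generalize D.q = q at *
  generalize D.d = d at *
  have hq : q = 2 ∨ q = 3 ∨ q = 4 ∨ q = 5 ∨ q = 6 ∨ q = 7 := by omega
  rcases hq with rfl | rfl | rfl | rfl | rfl | rfl <;> rcases D.eps with he' | he' <;> rw [he'] at hd3 hn he <;>
    push_cast at hd3 hn hm he ⊢ <;> rw [hm] at he <;> norm_num at hd3 hn hm he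
  all_goals first
    | exact absurd hpp isPrimePow_six
    | (rcases hdd with rfl | rfl <;> push_cast at hn <;> norm_num [he'] <;> omega)

end Cfsg.Agent.R2.Spec.X1.E6.ERBase
end

-- part: R2/Spec/X1/TI/Psl2
section
prune_inst 0x12030440c40000000000004500002042000010000208001e94002000a004302800001000c801100104ca2801044000811000040024000000400000000000120802bc602f2fd0d08a00011801004400000000000000000000000000000000004000000000
set_option linter.all false
open scoped Cfsg.Agent.FastGrp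

-- part: R2/Spec/X1/TI/Exc
section
/-!
# Identification of `³D₄(q)`: the rows of `G₂(u)`, `F₄(u)`, `³D₄(u)` (helper134, statement S3478)

* `row_G2`, `row_F4` : `False`; `row_3D4` : `u = q`.
-/

set_option autoImplicit false
set_option linter.unusedSectionVars false

namespace Cfsg.Agent.R2.Spec.X1.TI

open Cfsg Cfsg.Lie Subgroup
open Cfsg.Agent.R2.Spec.X1.TD Cfsg.Agent.H129 Cfsg.Agent.H129.CycT Cfsg.Agent.H564.NearTwo
open Cfsg.Agent.H378 Cfsg.Agent.H378.ExcAdj Cfsg.Agent.H378.CycTab Cfsg.Agent.H378.ExcNear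
open Cfsg.Agent.H378.AdjTab

universe u

variable {p q : ℕ}

/-- a cyclic subgroup of order `N` containing the centralizers of its elements of order `r` -/
def TorAt (G : Type*) [Group G] (N r : ℕ) : Prop :=
  ∃ T : Subgroup G, IsCyclic ↥T ∧ Nat.card ↥T = N ∧ ∀ y ∈ T, orderOf y = r → centralizer {y} ≤ T

theorem Sit.torAt {S : Type*} [Group S] [Finite S] (h : Sit p q S) {N s : ℕ} (hT : TorAt S N s) (hs : s.Prime)
    (hsN : s ∣ N) (hsn : s ∣ R2.Spec.X1.TD.mm q) : N = R2.Spec.X1.TD.mm q := by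
  obtain ⟨T, h1, rfl, h3⟩ := hT
  exact h.card_eq h1 hs hsN h3 hsn

/-- a cyclic torus of `G₂(u)` or `F₄(u)` (`d = 1`) gives an element of order `N` -/
theorem order_of_torus {G : Type*} [Group G] {N : ℕ} {T : Subgroup G} (hc : IsCyclic ↥T) (h1 : Nat.card ↥T ∣ N)
    (h2 : N ∣ 1 * Nat.card ↥T) : ∃ x : G, orderOf x = N := by
  rw [one_mul] at h2
  have h3 := Nat.dvd_antisymm h1 h2
  obtain ⟨t, ht⟩ := hc.exists_generator
  exact ⟨t, by
    rw [Subgroup.orderOf_coe, ← h3]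
    exact orderOf_eq_card_of_forall_mem_zpowers ht⟩

/-! ### numbers -/

theorem cube_sub (b : ℕ) : (b + 3) ^ 3 - 1 = b ^ 3 + 9 * b ^ 2 + 27 * b + 26 := by
  have : (b + 3) ^ 3 = (b ^ 3 + 9 * b ^ 2 + 27 * b + 26) + 1 := by ring
  omega

theorem one_eq (b : ℕ) : ((b + 3) ^ 3 - 1) * (b + 3 + 1) = b ^ 4 + 13 * b ^ 3 + 63 * b ^ 2 + 134 * b + 104 := by
  rw [cube_sub]
  ring

theorem two_eq (b : ℕ) : ((b + 3) ^ 3 + 1) * (b + 3 - 1) = b ^ 4 + 11 * b ^ 3 + 45 * b ^ 2 + 82 * b + 56 := by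
  have : b + 3 - 1 = b + 2 := by omega
  rw [this]
  ring

theorem mm_poly (b : ℕ) : mm (b + 3) = b ^ 4 + 12 * b ^ 3 + 53 * b ^ 2 + 102 * b + 73 := by
  have h1 := mm_add_sq (q := b + 3) (by omega)
  have h2 : (b + 3) ^ 4 + 1 = (b ^ 4 + 12 * b ^ 3 + 53 * b ^ 2 + 102 * b + 73) + (b + 3) ^ 2 := by ring
  omega

theorem three_eq (b : ℕ) : (b + 3) * ((b + 3) ^ 3 - 1) = b ^ 4 + 12 * b ^ 3 + 54 * b ^ 2 + 107 * b + 78 := by
  rw [cube_sub]
  ring

theorem four_eq (b : ℕ) : (b + 3) * ((b + 3) ^ 3 + 1) = b ^ 4 + 12 * b ^ 3 + 54 * b ^ 2 + 109 * b + 84 := by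
  ring

/-- an element order `a` with `5 n ≤ 7 a`, in terms of `b = q - 3` -/
theorem Om.large' {b a : ℕ} (h : Par p (b + 3)) (ho : Om p (b + 3) a)
    (h7 : 5 * (b ^ 4 + 12 * b ^ 3 + 53 * b ^ 2 + 102 * b + 73) ≤ 7 * a) :
    a = b ^ 4 + 12 * b ^ 3 + 53 * b ^ 2 + 102 * b + 73 ∨ a = b ^ 4 + 13 * b ^ 3 + 63 * b ^ 2 + 134 * b + 104 ∨
      a = b ^ 4 + 11 * b ^ 3 + 45 * b ^ 2 + 82 * b + 56 ∨ a = b ^ 4 + 12 * b ^ 3 + 54 * b ^ 2 + 107 * b + 78 ∨
      a = b ^ 4 + 12 * b ^ 3 + 54 * b ^ 2 + 109 * b + 84 := by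
  have h1 := Om.large h ho (by rw [mm_poly]; exact h7)
  rw [mm_poly, one_eq, two_eq, three_eq, four_eq] at h1
  exact h1

section G2

variable {F : Type u} [Field F] [Fintype F] {v N : ℕ}

theorem order_G2_3 (hq : Fintype.card F = v) (hN : (N : ℤ) = 1 + (v : ℤ) + (v : ℤ) ^ 2) :
    ∃ x : ↥(chevG2.group F), orderOf x = N := by
  have : Finite CoxeterMatrix.G₂.Group := Nat.finite_of_card_ne_zero (by rw [cardW_G2]; norm_num)
  obtain ⟨T, h1, h2, h3, -⟩ := UntwT.untw_T typeG2 CoxeterMatrix.G₂.toCoxeterSystem (by norm_num) hq TorusChar.invC_G2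
    one_ne_zero DataG2.hA DataG2.chainOK DataG2.cycOK DataG2.rootOK (by rw [DataG2.fN_eq, hN])
    (UntwData.coprime_of_eq (a := 1 + (v : ℤ)) (by rw [hN]; ring)) (d := 1) (Or.inl rfl)
  exact order_of_torus h1 h2 h3

theorem order_G2_6 (hq : Fintype.card F = v) (hN : (N : ℤ) = 1 - (v : ℤ) + (v : ℤ) ^ 2) :
    ∃ x : ↥(chevG2.group F), orderOf x = N := by
  have : Finite CoxeterMatrix.G₂.Group := Nat.finite_of_card_ne_zero (by rw [cardW_G2]; norm_num)
  obtain ⟨T, h1, h2, h3, -⟩ := UntwT.untw_T typeG2 CoxeterMatrix.G₂.toCoxeterSystem (by norm_num) hq TorusChar.invC_G2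
    one_ne_zero DataG2h.hA DataG2h.chainOK DataG2h.cycOK DataG2h.rootOK (by rw [DataG2h.fN_eq, hN])
    (UntwData.coprime_of_eq (a := -1 + (v : ℤ)) (by rw [hN]; ring)) (d := 1) (Or.inl rfl)
  exact order_of_torus h1 h2 h3

theorem tor_G2_3 (hq : Fintype.card F = v) (hN : (N : ℤ) = 1 + (v : ℤ) + (v : ℤ) ^ 2) {r : ℕ} (hr : r.Prime)
    (hrN : r ∣ N) (hr3 : r ≠ 3) : TorAt ↥(chevG2.group F) N r := by
  have : Finite CoxeterMatrix.G₂.Group := Nat.finite_of_card_ne_zero (by rw [cardW_G2]; norm_num)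
  obtain ⟨T, h1, h2, h3, h4, -⟩ := UntwT.untw_T typeG2 CoxeterMatrix.G₂.toCoxeterSystem (by norm_num) hq
    TorusChar.invC_G2 one_ne_zero DataG2.hA DataG2.chainOK DataG2.cycOK DataG2.rootOK (by rw [DataG2.fN_eq, hN])
    (UntwData.coprime_of_eq (a := 1 + (v : ℤ)) (by rw [hN]; ring)) (d := 1) (Or.inl rfl)
  rw [one_mul] at h3
  exact ⟨T, h1, Nat.dvd_antisymm h2 h3, h4 r hr (good_G2_3 hN hr hrN hr3).1 (good_G2_3 hN hr hrN hr3).2⟩

theorem tor_G2_6 (hq : Fintype.card F = v) (hN : (N : ℤ) = 1 - (v : ℤ) + (v : ℤ) ^ 2) {r : ℕ} (hr : r.Prime)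
    (hrN : r ∣ N) (hr3 : r ≠ 3) : TorAt ↥(chevG2.group F) N r := by
  have : Finite CoxeterMatrix.G₂.Group := Nat.finite_of_card_ne_zero (by rw [cardW_G2]; norm_num)
  obtain ⟨T, h1, h2, h3, h4, -⟩ := UntwT.untw_T typeG2 CoxeterMatrix.G₂.toCoxeterSystem (by norm_num) hq
    TorusChar.invC_G2 one_ne_zero DataG2h.hA DataG2h.chainOK DataG2h.cycOK DataG2h.rootOK (by rw [DataG2h.fN_eq, hN])
    (UntwData.coprime_of_eq (a := -1 + (v : ℤ)) (by rw [hN]; ring)) (d := 1) (Or.inl rfl)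
  rw [one_mul] at h3
  exact ⟨T, h1, Nat.dvd_antisymm h2 h3, h4 r hr (good_G2_6 hN hr hrN hr3).1 (good_G2_6 hN hr hrN hr3).2⟩

/-- **`G₂(u)`** -/
theorem row_G2 (h : Sit p q ↥(chevG2.group F)) : False := by
  have hq := h.par.hq
  have hq5 := h.par.q5
  obtain ⟨s, hs, hsn, hs13, hsd⟩ := h.exists_prime
  obtain ⟨v, hv⟩ : ∃ v, Fintype.card F = v := ⟨_, rfl⟩
  have hv' : Nat.card F = v := by rw [Nat.card_eq_fintype_card, hv]
  have hv2 : 2 ≤ v := by rw [← hv]; exact Fintype.one_lt_card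
  have hle : v ≤ v ^ 2 := Nat.le_self_pow (by norm_num) _
  have hN3 : ((v ^ 2 + v + 1 : ℕ) : ℤ) = 1 + (v : ℤ) + (v : ℤ) ^ 2 := by push_cast; ring
  have hN6 : ((v ^ 2 - v + 1 : ℕ) : ℤ) = 1 - (v : ℤ) + (v : ℤ) ^ 2 := by push_cast [Nat.cast_sub hle]; ring
  have hmm := mm_add_sq hq
  rcases (near_G2 F hs hsd).resolve_left (h.not_near hs hsn) with h1 | h1
  · rw [hv'] at h1
    have h2 := dvd3 hs h1
    rw [pv3] at h2
    have h3 : s ∣ v ^ 2 + v + 1 := by exact_mod_cast h2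
    have h4 := h.torAt (tor_G2_3 hv hN3 hs h3 (by omega)) hs h3 hsn
    have h5 := eq_add h.par h4.symm
    have h6 := h.ord (order_G2_6 hv hN6)
    obtain ⟨b, rfl⟩ : ∃ b, q = b + 3 := ⟨q - 3, by omega⟩
    have h8 : v = b ^ 2 + 6 * b + 8 := by
      have : (b + 3) ^ 2 = b ^ 2 + 6 * b + 9 := by ring
      (clear * - h5 this; omega)
    have ha : v ^ 2 - v + 1 = b ^ 4 + 12 * b ^ 3 + 51 * b ^ 2 + 90 * b + 57 := by
      rw [h8]
      have : (b ^ 2 + 6 * b + 8) ^ 2 = (b ^ 4 + 12 * b ^ 3 + 51 * b ^ 2 + 90 * b + 56) + (b ^ 2 + 6 * b + 8) := by ring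
      (clear * - this; omega)
    rw [ha] at h6
    rcases Om.large' h.par h6 (by (clear * -; omega)) with h10 | h10 | h10 | h10 | h10
    · (clear * - h10; omega)
    · (clear * - h10; omega)
    · (clear * - h10; omega)
    · (clear * - h4 h5 h10; omega)
    · (clear * - h10; omega)
  · rw [hv'] at h1
    have h2 := dvd6 hs h1
    rw [pv6] at h2
    have h3 : s ∣ v ^ 2 - v + 1 := by
      have : (s : ℤ) ∣ ((v ^ 2 - v + 1 : ℕ) : ℤ) := by
        rw [hN6]
        have e : 1 - (v : ℤ) + (v : ℤ) ^ 2 = (v : ℤ) ^ 2 - v + 1 := by ring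
        rw [e]
        exact h2
      exact Int.natCast_dvd_natCast.1 this
    have h4 := h.torAt (tor_G2_6 hv hN6 hs h3 (by omega)) hs h3 hsn
    have h5 := eq_sub h.par (v := v) (by omega) (by omega)
    have h6 := h.ord (order_G2_3 hv hN3)
    obtain ⟨b, rfl⟩ : ∃ b, q = b + 3 := ⟨q - 3, by omega⟩
    have ha : v ^ 2 + v + 1 = b ^ 4 + 12 * b ^ 3 + 55 * b ^ 2 + 114 * b + 91 := by
      rw [h5]
      ring
    rw [ha] at h6
    rcases Om.large' h.par h6 (by omega) with h10 | h10 | h10 | h10 | h10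
    · omega
    · have e : b ^ 3 + 8 * b ^ 2 + 20 * b + 13 = 0 := by omega
      omega
    · omega
    · omega
    · omega

end G2

section F4

variable {F : Type u} [Field F] [Fintype F] {v N : ℕ}

theorem order_F4_8 (hq : Fintype.card F = v) (hN : (N : ℤ) = 1 + (v : ℤ) ^ 4) :
    ∃ x : ↥(chevF4.group F), orderOf x = N := by
  have : Finite CoxeterMatrix.F₄.Group := Nat.finite_of_card_ne_zero (by rw [cardW_F4]; norm_num)
  obtain ⟨T, h1, h2, h3, -⟩ := UntwT.untw_T typeF4 CoxeterMatrix.F₄.toCoxeterSystem (by norm_num) hq TorusChar.invC_F4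
    one_ne_zero DataF4.hA DataF4.chainOK DataF4.cycOK DataF4.rootOK (by rw [DataF4.fN_eq, hN])
    (UntwData.coprime_of_eq (a := (v : ℤ) ^ 3) (by rw [hN]; ring)) (d := 1) (Or.inl rfl)
  exact order_of_torus h1 h2 h3

theorem tor_F4_8 (hq : Fintype.card F = v) (hN : (N : ℤ) = 1 + (v : ℤ) ^ 4) {r : ℕ} (hr : r.Prime)
    (hrN : r ∣ N) (hr2 : r ≠ 2) : TorAt ↥(chevF4.group F) N r := by
  have : Finite CoxeterMatrix.F₄.Group := Nat.finite_of_card_ne_zero (by rw [cardW_F4]; norm_num)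
  obtain ⟨T, h1, h2, h3, h4, -⟩ := UntwT.untw_T typeF4 CoxeterMatrix.F₄.toCoxeterSystem (by norm_num) hq
    TorusChar.invC_F4 one_ne_zero DataF4.hA DataF4.chainOK DataF4.cycOK DataF4.rootOK (by rw [DataF4.fN_eq, hN])
    (UntwData.coprime_of_eq (a := (v : ℤ) ^ 3) (by rw [hN]; ring)) (d := 1) (Or.inl rfl)
  rw [one_mul] at h3
  exact ⟨T, h1, Nat.dvd_antisymm h2 h3, h4 r hr (good_F4_8 hN hr hrN hr2).1 (good_F4_8 hN hr hrN hr2).2⟩

/-- **`F₄(u)`** -/
theorem row_F4 (h : Sit p q ↥(chevF4.group F)) : False := by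
  have hq := h.par.hq
  have hq5 := h.par.q5
  obtain ⟨s, hs, hsn, hs13, hsd⟩ := h.exists_prime
  obtain ⟨v, hv⟩ : ∃ v, Fintype.card F = v := ⟨_, rfl⟩
  have hv' : Nat.card F = v := by rw [Nat.card_eq_fintype_card, hv]
  have hv2 : 2 ≤ v := by rw [← hv]; exact Fintype.one_lt_card
  have hvp : IsPrimePow v := hv ▸ FiniteField.isPrimePow_card F
  have hN8 : ((v ^ 4 + 1 : ℕ) : ℤ) = 1 + (v : ℤ) ^ 4 := by push_cast; ring
  have hmm := mm_add_sq hq
  rcases (near_F4 F hs hsd).resolve_left (h.not_near hs hsn) with h1 | h1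
  · rw [hv'] at h1
    have h2 := dvd8 hs h1
    rw [pv8] at h2
    have h3 : s ∣ v ^ 4 + 1 := by exact_mod_cast h2
    have h4 := h.torAt (tor_F4_8 hv hN8 hs h3 (by omega)) hs h3 hsn
    exact ne_pow_add_one h.par hvp (m := 4) (by norm_num) h4.symm
  · rw [hv'] at h1
    have h2 := dvd12 hs h1
    rw [pv12] at h2
    have hle : v ^ 2 ≤ v ^ 4 := Nat.pow_le_pow_right (by omega) (by norm_num)
    have hN12 : ((v ^ 4 - v ^ 2 + 1 : ℕ) : ℤ) = 1 - (v : ℤ) ^ 2 + (v : ℤ) ^ 4 := by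
      push_cast [Nat.cast_sub hle]; ring
    have h3 : s ∣ v ^ 4 - v ^ 2 + 1 := by
      have : (s : ℤ) ∣ ((v ^ 4 - v ^ 2 + 1 : ℕ) : ℤ) := by
        rw [hN12]
        have e : 1 - (v : ℤ) ^ 2 + (v : ℤ) ^ 4 = (v : ℤ) ^ 4 - (v : ℤ) ^ 2 + 1 := by ring
        rw [e]
        exact h2
      exact Int.natCast_dvd_natCast.1 this
    have h4 := h.exact (exact_F4_12 hv hN12) hs h3 hsn
    have h5 : v ^ 2 = q ^ 2 := eq_sub h.par (v := v ^ 2) (by
      have : (v ^ 2) ^ 2 = v ^ 4 := by ring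
      (clear * - hle h4 this; omega)) (by nlinarith only [hv2])
    have h6 : v = q := Nat.pow_left_injective (n := 2) (by norm_num) h5
    have h7 := h.ord (order_F4_8 hv hN8)
    subst h6
    obtain ⟨b, rfl⟩ : ∃ b, v = b + 3 := ⟨v - 3, by omega⟩
    have ha : (b + 3) ^ 4 + 1 = b ^ 4 + 12 * b ^ 3 + 54 * b ^ 2 + 108 * b + 82 := by ring
    rw [ha] at h7
    rcases Om.large' h.par h7 (by omega) with h10 | h10 | h10 | h10 | h10
    · omega
    · omega
    · omega
    · omega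
    · omega

end F4

section TD4

variable {K : Type u} [Field K] [Fintype K] {v : ℕ}

/-- **`³D₄(u)`** : `u = q` -/
theorem row_3D4 (hv : IsPrimePow v) (hK : Fintype.card K = v ^ 3) (h : Sit p q ↥(twistedD4 K v)) : v = q := by
  have hq := h.par.hq
  have hq5 := h.par.q5
  obtain ⟨s, hs, hsn, hs13, hsd⟩ := h.exists_prime
  have hv2 : 2 ≤ v := hv.two_le
  have hmm := mm_add_sq hq
  have h1 := (TwRows.near_3D4 hv hK hs hsd).resolve_left (h.not_near hs hsn)
  have h2 := dvd12 hs h1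
  rw [pv12] at h2
  have hle : v ^ 2 ≤ v ^ 4 := Nat.pow_le_pow_right (by omega) (by norm_num)
  have hN12 : ((v ^ 4 - v ^ 2 + 1 : ℕ) : ℤ) = 1 - (v : ℤ) ^ 2 + (v : ℤ) ^ 4 := by
    push_cast [Nat.cast_sub hle]; ring
  have h3 : s ∣ v ^ 4 - v ^ 2 + 1 := by
    have : (s : ℤ) ∣ ((v ^ 4 - v ^ 2 + 1 : ℕ) : ℤ) := by
      rw [hN12]
      have e : 1 - (v : ℤ) ^ 2 + (v : ℤ) ^ 4 = (v : ℤ) ^ 4 - (v : ℤ) ^ 2 + 1 := by ring
      rw [e]
      exact h2
    exact Int.natCast_dvd_natCast.1 this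
  have h4 := h.exact (exact_tD4_12 hv hK hN12) hs h3 hsn
  have h5 : v ^ 2 = q ^ 2 := eq_sub h.par (v := v ^ 2) (by
    have : (v ^ 2) ^ 2 = v ^ 4 := by ring
    omega) (by nlinarith only [hv2])
  exact Nat.pow_left_injective (n := 2) (by norm_num) h5

end TD4

end Cfsg.Agent.R2.Spec.X1.TI
end

-- part: R2/Spec/X1/TI/Psl2
section
/-!
# Identification of `³D₄(q)`: `PSL₂(u)` (helper134, statement S3478)
-/

set_option autoImplicit false
set_option linter.unusedSectionVars false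

namespace Cfsg.Agent.R2.Spec.X1.TI

open Cfsg Cfsg.Agent.R2.Spec.X1.TD

variable {p q : ℕ}

/-- `(n-1)/2` is not an element order -/
theorem not_om_half {a : ℕ} (h : Par p q) (ha : 2 * a + 1 = mm q) : ¬ Om p q a := by
  intro ho
  have hq := h.hq
  have hq5 := h.q5
  have h1 := mm_eq hq
  have h25 : 25 ≤ q ^ 2 := by nlinarith only [hq5]
  have h8 : q ^ 2 ∣ a := by
    have h2 : q ^ 2 ∣ 2 * a := ⟨q ^ 2 - 1, by omega⟩
    refine Nat.Coprime.dvd_of_dvd_mul_left ?_ h2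
    apply Nat.Coprime.pow_left
    exact (Nat.coprime_two_right.2 (Nat.odd_iff.2 h.q_odd))
  have h9 := Nat.le_of_dvd (by omega) (Om.sq h ho h8)
  have h10 : q ^ 2 * 24 ≤ q ^ 2 * (q ^ 2 - 1) := Nat.mul_le_mul_left _ (by omega)
  omega

theorem not_om_succ (h : Par p q) : ¬ Om p q (mm q + 1) := by
  intro ho
  have hq := h.hq
  have hq5 := h.q5
  obtain ⟨b, rfl⟩ : ∃ b, q = b + 3 := ⟨q - 3, by omega⟩
  rw [mm_poly] at ho
  rcases Om.large' h ho (by omega) with h10 | h10 | h10 | h10 | h10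
  · omega
  · omega
  · omega
  · omega
  · omega

/-- **`PSL₂(u)`** -/
theorem row_psl2 {F : Type*} [Field F] [Fintype F] (h4 : 4 ≤ Fintype.card F)
    (h : Sit p q (Matrix.ProjectiveSpecialLinearGroup (Fin 2) F)) : False := by
  obtain ⟨l, hl⟩ := CharP.exists F
  have hlp : Fact l.Prime := ⟨CharP.char_is_prime F l⟩
  obtain ⟨f, hlp', hf⟩ := FiniteField.card F l
  obtain ⟨u, hu⟩ : ∃ u, Fintype.card F = u := ⟨_, rfl⟩
  have hspec := S2475.result (F := F) l h4
  rw [hu] at hspec h4 hf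
  have hu' : IsPrimePow u := hu ▸ FiniteField.isPrimePow_card F
  have hin : ∀ m : ℕ, (m ∣ l ∨ m ∣ (u - 1) / Nat.gcd 2 (u - 1) ∨ m ∣ (u + 1) / Nat.gcd 2 (u - 1)) →
      ∃ x : Matrix.ProjectiveSpecialLinearGroup (Fin 2) F, orderOf x = m := fun m hm => by
    have : m ∈ Set.range (orderOf : Matrix.ProjectiveSpecialLinearGroup (Fin 2) F → ℕ) := by rw [hspec]; exact hm
    exact this
  have h73 := mm_ge h.par
  have hmod := mm_mod h.par
  have hmem : mm q ∣ l ∨ mm q ∣ (u - 1) / Nat.gcd 2 (u - 1) ∨ mm q ∣ (u + 1) / Nat.gcd 2 (u - 1) := by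
    have : mm q ∈ Set.range (orderOf : Matrix.ProjectiveSpecialLinearGroup (Fin 2) F → ℕ) := h.mm
    rw [hspec] at this
    exact this
  obtain ⟨s, hs, hsn, hs13, hsd⟩ := h.exists_prime
  have hd : (u % 2 = 0 ∧ Nat.gcd 2 (u - 1) = 1) ∨ (u % 2 = 1 ∧ Nat.gcd 2 (u - 1) = 2) := by
    rcases Nat.mod_two_eq_zero_or_one u with h2 | h2
    · refine Or.inl ⟨h2, ?_⟩
      have : ¬ 2 ∣ u - 1 := by omega
      exact (Nat.Prime.coprime_iff_not_dvd Nat.prime_two).2 this
    · refine Or.inr ⟨h2, Nat.gcd_eq_left (by omega)⟩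
  rcases hmem with hm | hm | hm
  · -- the characteristic
    have h1 : mm q = l := (Nat.prime_dvd_prime_iff_eq (by
      have := (Nat.dvd_prime hlp').1 hm
      rcases this with h2 | h2
      · omega
      · rw [h2]; exact hlp') hlp').1 hm
    have hl1 : l % 2 = 1 := by omega
    have hu1 : u % 2 = 1 := by
      rw [hf, Nat.pow_mod, hl1, Nat.one_pow]
    obtain ⟨-, hd⟩ := hd.resolve_left (by omega)
    rw [hd] at hin
    have h2 : l - 1 ∣ u - 1 := by
      rw [hf]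
      simpa only [_root_.one_pow] using Nat.sub_dvd_pow_sub_pow l 1 (f : ℕ)
    obtain ⟨a, ha⟩ : ∃ a, mm q = 2 * a + 1 := ⟨mm q / 2, by omega⟩
    refine not_om_half h.par ha.symm (h.ord (hin a (Or.inr (Or.inl ?_))))
    obtain ⟨w, hw⟩ : ∃ w, u - 1 = 2 * w := ⟨(u - 1) / 2, by omega⟩
    have h3 : (u - 1) / 2 = w := by omega
    rw [h3]
    have h4 : l - 1 = 2 * a := by omega
    rw [h4, hw] at h2
    exact Nat.dvd_of_mul_dvd_mul_left (by norm_num) h2
  · have h1 : (u - 1) / Nat.gcd 2 (u - 1) = mm q :=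
      Nat.dvd_antisymm (h.dvd_mm (hin _ (Or.inr (Or.inl dvd_rfl))) hs (hsn.trans hm) hsn) hm
    rcases hd with ⟨h2, h3⟩ | ⟨h2, h3⟩
    · rw [h3, Nat.div_one] at h1
      have hl2 : l = 2 := by
        by_contra hne
        have hl1 : l % 2 = 1 := Nat.odd_iff.1 (hlp'.odd_of_ne_two hne)
        have : u % 2 = 1 := by rw [hf, Nat.pow_mod, hl1, Nat.one_pow]
        omega
      subst hl2
      have hf2 : 2 ≤ (f : ℕ) := by
        by_contra hlt
        have : (f : ℕ) ≤ 1 := by omega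
        have : u ≤ 2 ^ 1 := by rw [hf]; exact Nat.pow_le_pow_right (by norm_num) this
        omega
      have : 4 ∣ u := by
        rw [hf]
        exact (show (4 : ℕ) = 2 ^ 2 by norm_num) ▸ pow_dvd_pow 2 hf2
      omega
    · rw [h3] at h1 hin
      refine not_om_succ h.par (h.ord (hin _ (Or.inr (Or.inr ?_))))
      rw [← h1]
      have : (u - 1) / 2 + 1 = (u + 1) / 2 := by (clear * - h2; omega)
      rw [this]
  · have h1 : (u + 1) / Nat.gcd 2 (u - 1) = mm q :=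
      Nat.dvd_antisymm (h.dvd_mm (hin _ (Or.inr (Or.inr dvd_rfl))) hs (hsn.trans hm) hsn) hm
    rcases hd with ⟨h2, h3⟩ | ⟨h2, h3⟩
    · rw [h3, Nat.div_one] at h1
      exact ne_pow_add_one h.par hu' (m := 1) one_ne_zero (by rw [pow_one]; exact h1.symm)
    · rw [h3] at h1 hin
      have h5 : (u - 1) / 2 = mm q - 1 := by (clear * - h1; omega)
      have h6 := h.ord (hin (mm q - 1) (Or.inr (Or.inl (by rw [h5]))))
      have h7 := mm_eq h.par.hq
      have hq5 := h.par.q5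
      have h25 : 25 ≤ q ^ 2 := by nlinarith only [hq5]
      have h8 := Nat.le_of_dvd (by omega) (Om.sq h.par h6 ⟨q ^ 2 - 1, by omega⟩)
      have h9 : q ^ 2 * 24 ≤ q ^ 2 * (q ^ 2 - 1) := Nat.mul_le_mul_left _ (by omega)
      omega

end Cfsg.Agent.R2.Spec.X1.TI
end
end

-- part: R2/Spec/X1/TRd/Lin
section
prune_inst 0x1202044144000000018000432001a04a000010000230001e800000008004342a04007010c801102104c328010040000000000400040000004003000000201208028840070910d08800011801005400000000000000000000000000000000004000000000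
set_option linter.all false
open scoped Cfsg.Agent.FastGrp

-- part: R2/Spec/X1/TRd/Cl
section
/-!
# S3478, identification rows `PSL_m`, `PSU_m`, `Ω_{2m+1}`, `PSp_{2m}` (helper458)
-/

set_option autoImplicit false

namespace Cfsg.Agent.R2.Spec.X1.TRd

open Cfsg Cfsg.Agent.R2.Spec.X1.TI Cfsg.Agent.H360.Iso Cfsg.Agent.R2.Spec.X1.TD
open Cfsg.Agent.H948.UBase Cfsg.Agent.H948.UProd

section

variable {p q : ℕ} {S : Type*} [Group S]

/-- `mm q` is an isolated number -/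
theorem isoN (h : Sit p q S) : IsoN S (R2.Spec.X1.TD.mm q) where
  elt := h.mm
  iso := fun x _ hr hrn hrx => h.dvd_mm ⟨x, rfl⟩ hr hrx hrn
  not_two_dvd := fun h2 => by
    have := mm_mod h.par
    omega
  not_three_dvd := fun h3 => by
    have := mm_mod h.par
    omega
  big := by
    have := mm_ge h.par
    omega

theorem five_sq {Q : ℤ} (h : 5 ≤ Q) : 5 * Q ≤ Q ^ 2 := by
  rw [sq]
  exact mul_le_mul_of_nonneg_right h (by omega)

theorem five_cube {Q : ℤ} (h : 5 ≤ Q) : 5 * Q ^ 2 ≤ Q ^ 3 := by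
  have : Q ^ 3 = Q * Q ^ 2 := by ring
  rw [this]
  exact mul_le_mul_of_nonneg_right h (sq_nonneg Q)

theorem five_four {Q : ℤ} (h : 5 ≤ Q) : 5 * Q ^ 3 ≤ Q ^ 4 := by
  have : Q ^ 4 = Q * Q ^ 3 := by ring
  rw [this]
  exact mul_le_mul_of_nonneg_right h (pow_nonneg (by omega) 3)

/-- numbers -/
theorem nums (h : Par p q) : ∃ n Q D D' : ℤ, n = (R2.Spec.X1.TD.mm q : ℕ) ∧ Q = q ∧ 5 ≤ Q ∧ n = Q ^ 4 - Q ^ 2 + 1 ∧
    D = Q ^ 3 + Q ^ 2 - Q - 2 ∧ D' = Q ^ 3 - Q ^ 2 - Q + 2 ∧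
    (((q ^ 3 - 1) * (q + 1) : ℕ) : ℤ) = n + D ∧ (((q ^ 3 + 1) * (q - 1) : ℕ) : ℤ) = n - D' ∧
    ((q * (q ^ 3 - 1) : ℕ) : ℤ) = n + (Q ^ 2 - Q - 1) ∧ ((q * (q ^ 3 + 1) : ℕ) : ℤ) = n + (Q ^ 2 + Q - 1) := by
  have hq := h.hq
  have h1 : 1 ≤ q ^ 3 := Nat.one_le_pow _ _ (by omega)
  refine ⟨_, _, _, _, rfl, rfl, by exact_mod_cast h.q5, mm_cast hq, rfl, rfl, ?_, ?_, ?_, ?_⟩
  · push_cast [h1]
    rw [mm_cast hq]
    ring
  · have h1 : 1 ≤ q := by omega
    push_cast [h1]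
    rw [mm_cast hq]
    ring
  · push_cast [h1]
    rw [mm_cast hq]
    ring
  · push_cast [h1]
    rw [mm_cast hq]
    ring

/-- two element orders at distance at most two, one of them `n` -/
theorem no_near (h : Par p q) {a : ℕ} (ho : Om p q a) (h1 : a ≠ R2.Spec.X1.TD.mm q) (h2 : a ≤ R2.Spec.X1.TD.mm q + 2)
    (h3 : R2.Spec.X1.TD.mm q ≤ a + 2) : False := by
  have h73 := mm_ge h
  obtain ⟨n, Q, D, D', hn, hQ, hQ3, hnQ, hD, hD', hA, hB, hA4, hA5⟩ := nums h
  have e1 : 5 * Q ≤ Q ^ 2 := five_sq hQ3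
  have e2 : 5 * Q ^ 2 ≤ Q ^ 3 := five_cube hQ3
  have h2' : (a : ℤ) ≤ n + 2 := by rw [hn]; exact_mod_cast h2
  have h3' : n ≤ (a : ℤ) + 2 := by rw [hn]; exact_mod_cast h3
  rcases Om.large h ho (by (clear * - h3 h73; omega)) with h4 | h4 | h4 | h4 | h4
  · exact h1 h4
  · rw [← h4] at hA
    (clear * - h2 h3 hn hQ3 hD hA e1 e2; omega)
  · rw [← h4] at hB
    (clear * - h3 hn hQ3 hD' hB e1 e2; omega)
  · rw [← h4] at hA4
    (clear * - h2 hn hQ3 hA4 e1; omega)
  · rw [← h4] at hA5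
    (clear * - h2 hn hQ3 hA5 e1; omega)

theorem not_twin [Finite S] (h : Sit p q S) {A B : ℕ} (hAB : A + 1 = B ∨ A + 2 = B)
    (ht : Twin S (R2.Spec.X1.TD.mm q) A B) : False := by
  obtain ⟨h1 | h1, hA, hB⟩ := ht
  · exact no_near h.par (h.ord hB) (by omega) (by omega) (by omega)
  · exact no_near h.par (h.ord hA) (by omega) (by omega) (by omega)

end

/-- **`Ω_{2m+1}(u)`** -/
theorem row_omega_odd {p q : ℕ} {F : Type*} [Field F] [Fintype F] {m : ℕ} (hm : 3 ≤ m) (hF : Odd (Fintype.card F))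
    (h : Sit p q (Cfsg.POmega F (Cfsg.quadFormOdd m F))) : False := by
  classical
  have hfin : Finite (Cfsg.POmega F (Cfsg.quadFormOdd m F)) := inferInstance
  obtain ⟨A, B, hAB, ht⟩ := omegaOdd (by rwa [Nat.card_eq_fintype_card]) hm (isoN h)
  exact not_twin h hAB ht

/-- an order `a` with `w (a - n) = n + s`, `1 ≤ s ≤ w + 1`, `s ∣ w + 1`  -/
theorem no_above {p q : ℕ} (h : Par p q) {a : ℕ} (ho : Om p q a) {w s : ℤ} (hw : 1 ≤ w) (hs : 1 ≤ s) (hsw : s ≤ w + 1)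
    (hsd : s ∣ w + 1)
    (heq : w * ((a : ℤ) - (R2.Spec.X1.TD.mm q : ℕ)) = (R2.Spec.X1.TD.mm q : ℕ) + s) : False := by
  have h73 := mm_ge h
  obtain ⟨n, Q, D, D', hn, hQ, hQ3, hnQ, hD, hD', hA, hB, hA4, hA5⟩ := nums h
  rw [← hn] at heq
  have h73' : 73 ≤ n := by rw [hn]; exact_mod_cast h73
  have e1 : 5 * Q ≤ Q ^ 2 := five_sq hQ3
  have e2 : 5 * Q ^ 2 ≤ Q ^ 3 := five_cube hQ3
  have e3 : 5 * Q ^ 3 ≤ Q ^ 4 := five_four hQ3
  have hpos : n < a := by
    by_contra hc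
    have : w * ((a : ℤ) - n) ≤ 0 := mul_nonpos_of_nonneg_of_nonpos (by omega) (by omega)
    omega
  rcases Om.large h ho (by (clear * - hn hpos; omega)) with h4 | h4 | h4 | h4 | h4
  · rw [h4] at hpos
    omega
  · rw [← h4] at hA
    have h5 : w * D = n + s := by rw [← heq, hA]; ring
    have h6 : (Q - 1) * D = Q ^ 4 - 2 * Q ^ 2 - Q + 2 := by rw [hD]; ring
    rcases le_or_gt w (Q - 1) with h7 | h7
    · have := mul_le_mul_of_nonneg_right h7 (show 0 ≤ D by omega)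
      (clear * - hs hQ3 hnQ e1 h5 h6 this; omega)
    · have h8 := mul_le_mul_of_nonneg_right (show Q ≤ w by (clear * - hnQ h7; omega)) (show 0 ≤ D - 1 by omega)
      have h9 : w * (D - 1) = w * D - w := by ring
      have h10 : Q * (D - 1) = Q ^ 4 + Q ^ 3 - Q ^ 2 - 3 * Q := by rw [hD]; ring
      (clear * - hsw hnQ hD hA hB e1 e2 hpos h5 h8 h9 h10; omega)
  · rw [← h4] at hB
    (clear * - hQ3 hD' hB e1 e2 hpos; omega)
  · -- `a = Q⁴ - Q`
    rw [← h4] at hA4
    have h5 : w * (Q ^ 2 - Q - 1) = n + s := by rw [← heq, hA4]; ring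
    obtain ⟨t, ht⟩ : ∃ t, t = w - (Q ^ 2 + Q + 1) := ⟨_, rfl⟩
    have h6 : t * (Q ^ 2 - Q - 1) = 2 * Q + 2 + s := by rw [ht]; linear_combination h5 + hnQ
    have ht0 : 1 ≤ t := by
      by_contra hc
      have := mul_nonpos_of_nonpos_of_nonneg (show t ≤ 0 by omega) (show 0 ≤ Q ^ 2 - Q - 1 by (clear * - hA4 hpos; omega))
      (clear * - hs hQ3 h6 this; omega)
    have ht2 : t ≤ 2 := by
      by_contra hc
      have h7 := mul_le_mul_of_nonneg_right (show 3 ≤ t by omega) (show 0 ≤ Q ^ 2 - Q - 2 by (clear * - hA4 hpos; omega))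
      have h8 : t * (Q ^ 2 - Q - 2) = t * (Q ^ 2 - Q - 1) - t := by ring
      rw [h8, h6] at h7
      (clear * - hsw hQ3 e1 ht h7; omega)
    obtain ⟨z, hz⟩ := hsd
    have ht' : t = 1 ∨ t = 2 := by omega
    rcases ht' with rfl | rfl
    · -- `s = Q² - 3 Q - 3` divides `Q² + Q + 3`
      have h7 : s = Q ^ 2 - 3 * Q - 3 := by linarith only [h6]
      have h8 : w + 1 = Q ^ 2 + Q + 3 := by linarith only [ht]
      rw [h7, h8] at hz
      have h9 : (Q ^ 2 - 3 * Q - 3) ∣ 4 * Q + 6 := ⟨z - 1, by linear_combination hz⟩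
      have h10 := Int.le_of_dvd (by linarith only [hQ3]) h9
      have h11 : Q ≤ 8 := by
        by_contra hc
        have h13 : 9 * Q ≤ Q ^ 2 := by
          rw [sq]
          exact mul_le_mul_of_nonneg_right (by (clear * - hc; omega)) (by (clear * - hQ; omega))
        linarith only [h10, hc, h13]
      have hodd := h.q_odd
      have h12 : Q = 5 ∨ Q = 7 := by clear hz h6 h5 heq h10 h9 h7 h8; (clear * - hQ hQ3 h11 hodd; omega)
      obtain ⟨y, hy⟩ := h9
      rcases h12 with h12 | h12 <;> rw [h12] at hy <;> clear * - hy <;> omega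
    · have h7 : s = 2 * Q ^ 2 - 4 * Q - 4 := by linarith only [h6]
      have h8 : w + 1 = Q ^ 2 + Q + 4 := by linarith only [ht]
      have h9 : Q ≤ 6 := by
        by_contra hc
        have h13 : 7 * Q ≤ Q ^ 2 := by
          rw [sq]
          exact mul_le_mul_of_nonneg_right (by (clear * - hc; omega)) (by (clear * - hQ; omega))
        linarith only [hsw, ht, h6, hc, h13]
      have h12 : Q = 5 ∨ Q = 6 := by clear hz h6 h5 heq h7 h8; (clear * - hQ3 h9; omega)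
      rw [h7, h8] at hz
      rcases h12 with h12 | h12 <;> rw [h12] at hz <;> clear * - hz <;> omega
  · -- `a = Q⁴ + Q`
    rw [← h4] at hA5
    have h5 : w * (Q ^ 2 + Q - 1) = n + s := by rw [← heq, hA5]; ring
    obtain ⟨t, ht⟩ : ∃ t, t = w - (Q ^ 2 - Q + 1) := ⟨_, rfl⟩
    have h6 : t * (Q ^ 2 + Q - 1) = s - 2 * Q + 2 := by rw [ht]; linear_combination h5 + hnQ
    have ht0 : 0 ≤ t := by
      by_contra hc
      have h7 := mul_le_mul_of_nonneg_right (show t ≤ -1 by omega) (show 0 ≤ Q ^ 2 + Q - 1 by (clear * - hD' hA5 hpos; omega))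
      (clear * - hs hsw hD' ht h6 hc h7; omega)
    have ht1 : t < 1 := by
      by_contra hc
      have h7 := mul_le_mul_of_nonneg_right (show 1 ≤ t by omega) (show 0 ≤ Q ^ 2 + Q - 2 by (clear * - hD' hA5 hpos; omega))
      have h8 : t * (Q ^ 2 + Q - 2) = t * (Q ^ 2 + Q - 1) - t := by ring
      rw [h8, h6] at h7
      (clear * - hsw hQ3 ht h7; omega)
    obtain rfl : t = 0 := by omega
    rw [zero_mul] at h6
    obtain ⟨z, hz⟩ := hsd
    have h7 : s = 2 * (Q - 1) := by linarith only [h6]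
    have h8 : w + 1 = Q * (Q - 1) + 2 := by linear_combination -ht
    rw [h7, h8] at hz
    have h9 : (Q - 1) ∣ 2 := ⟨2 * z - Q, by linear_combination hz⟩
    have := Int.le_of_dvd (by norm_num) h9
    (clear * - hQ3 this; omega)

/-- an order `a` with `w (n - a) = n - 1`, `4 ≤ w` -/
theorem no_below {p q : ℕ} (h : Par p q) {a : ℕ} (ho : Om p q a) {w : ℤ} (hw : 4 ≤ w)
    (heq : w * ((R2.Spec.X1.TD.mm q : ℕ) - (a : ℤ)) = (R2.Spec.X1.TD.mm q : ℕ) - 1) : False := by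
  have h73 := mm_ge h
  obtain ⟨n, Q, D, D', hn, hQ, hQ3, hnQ, hD, hD', hA, hB, hA4, hA5⟩ := nums h
  rw [← hn] at heq
  have h73' : 73 ≤ n := by rw [hn]; exact_mod_cast h73
  have e1 : 5 * Q ≤ Q ^ 2 := five_sq hQ3
  have e2 : 5 * Q ^ 2 ≤ Q ^ 3 := five_cube hQ3
  have e3 : 5 * Q ^ 3 ≤ Q ^ 4 := five_four hQ3
  have hpos : (a : ℤ) < n := by
    by_contra hc
    have : w * (n - (a : ℤ)) ≤ 0 := mul_nonpos_of_nonneg_of_nonpos (by omega) (by omega)
    omega
  have hge : 4 * (n - (a : ℤ)) ≤ n - 1 := by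
    rw [← heq]
    exact mul_le_mul_of_nonneg_right hw (by omega)
  rcases Om.large h ho (by (clear * - hn hge; omega)) with h4 | h4 | h4 | h4 | h4
  · rw [h4] at hpos
    omega
  · rw [← h4] at hA
    (clear * - hQ3 hD hA e1 e2 hpos; omega)
  · rw [← h4] at hB
    have h5 : w * D' = n - 1 := by rw [← heq, hB]; ring
    have h6 : (Q + 1) * D' = Q ^ 4 - 2 * Q ^ 2 + Q + 2 := by rw [hD']; ring
    rcases le_or_gt w (Q + 1) with h7 | h7
    · have := mul_le_mul_of_nonneg_right h7 (show 0 ≤ D' by (clear * - hB hpos; omega))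
      linarith only [hQ3, hnQ, e1, h5, h6, this]
    · have h8 := mul_le_mul_of_nonneg_right (show Q + 2 ≤ w by (clear * - hA4 hA5 h5 h7; omega)) (show 0 ≤ D' by omega)
      have h10 : (Q + 2) * D' = Q ^ 4 + Q ^ 3 - 3 * Q ^ 2 + 4 := by rw [hD']; ring
      (clear * - hQ3 hnQ hD' hB e2 hpos h5 h8 h10; omega)
  · rw [← h4] at hA4
    (clear * - hQ3 hA4 e1 hpos; omega)
  · rw [← h4] at hA5
    (clear * - hQ3 hA5 e1 hpos; omega)

end Cfsg.Agent.R2.Spec.X1.TRd
end

-- part: R2/Spec/X1/TRd/Lin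
section
/-!
# S3478, identification rows `PSL_m`, `PSU_m` (helper458, tasks 1845, 1846)
-/

set_option autoImplicit false

namespace Cfsg.Agent.R2.Spec.X1.TRd

open Cfsg Cfsg.Agent.R2.Spec.X1.TI Cfsg.Agent.H360.Iso Cfsg.Agent.R2.Spec.X1.TD
open Cfsg.Agent.H948.UBase Cfsg.Agent.H948.UProd

theorem mm_mod_eight {p q : ℕ} (h : Par p q) : R2.Spec.X1.TD.mm q % 8 = 1 := by
  have e := mm_eq h.hq
  obtain ⟨c, hc⟩ : Odd q := Nat.odd_iff.2 h.q_odd
  obtain ⟨d, hd⟩ := Nat.even_mul_succ_self c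
  have h1 : q ^ 2 - 1 = 8 * d := by
    rw [hc]
    have : (2 * c + 1) ^ 2 = 8 * d + 1 := by linarith only [hd]
    omega
  rw [h1] at e
  rw [e, mul_left_comm]
  omega

/-- **`PSL_m(u)`** -/
theorem row_psl {p q : ℕ} {F : Type*} [Field F] [Fintype F] {m : ℕ} (hm : 3 ≤ m)
    (h : Sit p q (Matrix.ProjectiveSpecialLinearGroup (Fin m) F)) : False := by
  have hu2 : 2 ≤ Nat.card F := Finite.one_lt_card
  have hup : IsPrimePow (Nat.card F) := by
    rw [Nat.card_eq_fintype_card]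
    exact FiniteField.isPrimePow_card F
  have hmod := mm_mod h.par
  rcases psl_row hm (isoN h) with ⟨h1, x, hx⟩ | ⟨hd, h1, x, hx⟩
  · obtain ⟨u, hu⟩ : ∃ u, u = Nat.card F := ⟨_, rfl⟩
    rw [← hu] at h1 hx hu2 hup
    obtain ⟨g, hg⟩ : ∃ g, g = Nat.gcd m (u - 1) := ⟨_, rfl⟩
    rw [← hg] at h1 hx
    have hp1 : 1 ≤ u ^ m := Nat.one_le_pow _ _ (by omega)
    have hp2 : 1 ≤ u ^ (m - 1) := Nat.one_le_pow _ _ (by omega)
    have e1 : g * R2.Spec.X1.TD.mm q * (u - 1) + 1 = u ^ m := by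
      rw [mul_comm g, h1]
      omega
    have e2 : g * orderOf x + 1 = u ^ (m - 1) := by
      rw [mul_comm g, hx]
      omega
    have hg1 : 1 ≤ g := by
      rw [hg]
      exact Nat.gcd_pos_of_pos_left _ (by omega)
    rcases Nat.lt_or_ge 3 u with hu4 | hu4
    · exact dead_lin h.par hu4 hm hg1 e1 e2 (h.om x)
    · have hu' : u = 2 ∨ u = 3 := by omega
      rcases hu' with rfl | rfl
      · have hg' : g = 1 := by rw [hg]; simp
        rw [hg', one_mul] at e1 e2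
        exact dead_plus h.par hup hm (Or.inl rfl) e1 (by rw [one_mul]; exact e2) (h.om x)
      · rcases Nat.even_or_odd m with hme | hmo
        · exfalso
          have hg' : g = 2 := by
            rw [hg]
            exact Nat.gcd_eq_right (even_iff_two_dvd.1 hme)
          rw [hg'] at e1
          obtain ⟨c, rfl⟩ := hme
          have h9 : 3 ^ (c + c) = 9 ^ c := by
            rw [← two_mul, pow_mul]
            norm_num
          have h8 : 9 ^ c % 8 = 1 := by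
            rw [Nat.pow_mod]
            norm_num
          rw [h9] at e1
          omega
        · have hg' : g = 1 := by
            rw [hg]
            exact (Nat.coprime_two_right.2 hmo)
          rw [hg', one_mul] at e1 e2
          exact dead_plus h.par hup hm (Or.inl rfl) e1 (by rw [one_mul]; exact e2) (h.om x)
  · obtain ⟨v, hv⟩ : ∃ v, Nat.card F = v + 1 := ⟨Nat.card F - 1, by omega⟩
    rw [hv, Nat.add_sub_cancel] at h1 hx
    have hp1 : 1 ≤ (v + 1) ^ m := Nat.one_le_pow _ _ (by omega)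
    have hp2 : 1 ≤ (v + 1) ^ (m - 1) := Nat.one_le_pow _ _ (by omega)
    have hv0 : (v : ℤ) ≠ 0 := by
      have : v ≠ 0 := by omega
      exact_mod_cast this
    have e1 : (R2.Spec.X1.TD.mm q : ℤ) * v + 1 = (v + 1) ^ (m - 1) := by
      have : R2.Spec.X1.TD.mm q * v + 1 = (v + 1) ^ (m - 1) := by omega
      exact_mod_cast this
    have e2 : (orderOf x : ℤ) * v ^ 2 + 1 = (v + 1) ^ m := by
      have : orderOf x * v ^ 2 + 1 = (v + 1) ^ m := by omega
      exact_mod_cast this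
    have e3 : ((v : ℤ) + 1) ^ m = (v + 1) * (v + 1) ^ (m - 1) := by
      rw [← pow_succ', Nat.sub_add_cancel (by omega)]
    refine no_above h.par (h.om x) (w := v) (s := 1) (by omega) le_rfl (by omega) (one_dvd _) ?_
    apply mul_left_cancel₀ hv0
    linear_combination e2 - e1 + e3 - (v : ℤ) * e1 

/-- **`PSU_m(u)`** -/
theorem row_psu {p q : ℕ} {F : Type*} [Field F] [Fintype F] {m u : ℕ} (hF : Fintype.card F = u ^ 2) (hm : 3 ≤ m)
    (hne : ¬ (m = 3 ∧ u = 2)) (h : Sit p q (Cfsg.PSU m F u)) : False := by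
  have hu : 2 ≤ u := LieClassical.HermBasic.two_le hF
  have hup : IsPrimePow u := by
    have h1 : IsPrimePow (Fintype.card F) := FiniteField.isPrimePow_card F
    rw [hF] at h1
    exact (isPrimePow_pow_iff two_ne_zero).1 h1
  have hmod := mm_mod h.par
  have hmod8 := mm_mod_eight h.par
  have h73 := mm_ge h.par
  rcases psu_row hF hm hne (isoN h) with ⟨h1, x, hx⟩ | ⟨hm4, hd, h1, x, hx⟩ | ⟨-, -, h1⟩ | ⟨-, -, h1⟩
  · obtain ⟨g, hg⟩ : ∃ g, g = Nat.gcd m (u + 1) := ⟨_, rfl⟩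
    rw [← hg] at h1 hx
    have hg1 : 1 ≤ g := by
      rw [hg]
      exact Nat.gcd_pos_of_pos_left _ (by omega)
    obtain ⟨s, hs⟩ : g ∣ u + 1 := hg ▸ Nat.gcd_dvd_right _ _
    have hs0 : 0 < s := by
      rcases Nat.eq_zero_or_pos s with h3 | h3
      · rw [h3] at hs; omega
      · exact h3
    have hsu : s ≤ u + 1 := Nat.le_of_dvd (by omega) ⟨g, by rw [hs, mul_comm]⟩
    have hp1 : 1 ≤ u ^ m := Nat.one_le_pow _ _ (by omega)
    have hp2 : 1 ≤ u ^ (m - 1) := Nat.one_le_pow _ _ (by omega)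
    rcases Nat.even_or_odd m with hme | hmo
    · -- `m` even
      rw [H948.UMain.ph_odd (by
        rw [Nat.not_even_iff_odd]
        obtain ⟨c, rfl⟩ := hme
        exact ⟨c - 1, by omega⟩), Nat.sub_add_cancel (by omega)] at h1
      rw [H948.UMain.ph_even (by
        obtain ⟨c, rfl⟩ := hme
        exact ⟨c - 1, by omega⟩), show m - 2 + 1 = m - 1 by omega] at hx
      have e1 : (R2.Spec.X1.TD.mm q : ℤ) * g * (u + 1) + 1 = (u : ℤ) ^ m := by
        have : R2.Spec.X1.TD.mm q * g * (u + 1) + 1 = u ^ m := by omega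
        exact_mod_cast this
      have e2 : (orderOf x : ℤ) * g = (u : ℤ) ^ (m - 1) + 1 := by exact_mod_cast hx
      have e3 : (u : ℤ) ^ m = u * (u : ℤ) ^ (m - 1) := by
        rw [← pow_succ', Nat.sub_add_cancel (by omega)]
      have e4 : (u : ℤ) + 1 = g * s := by exact_mod_cast hs
      have hg0 : (g : ℤ) ≠ 0 := by
        have : g ≠ 0 := by omega
        exact_mod_cast this
      refine no_above h.par (h.om x) (w := u) (s := s) (by omega) (by omega) (by omega)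
        ⟨(g : ℤ), by rw [e4]; ring⟩ ?_
      apply mul_left_cancel₀ hg0
      linear_combination (u : ℤ) * e2 - e1 - e3 + e4
    · -- `m` odd
      rw [H948.UMain.ph_even (by
        obtain ⟨c, rfl⟩ := hmo
        exact ⟨c, by omega⟩), Nat.sub_add_cancel (by omega)] at h1
      rw [H948.UMain.ph_odd (by
        rw [Nat.not_even_iff_odd]
        obtain ⟨c, rfl⟩ := hmo
        exact ⟨c - 1, by (clear * - hm; omega)⟩), show m - 2 + 1 = m - 1 by omega] at hx
      exact dead_uni h.par hup hm hmo hg1 (by rw [mul_comm g, h1]) (by rw [mul_comm g, hx]; omega) (h.om x)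
  · have hp1 : 1 ≤ u ^ m := Nat.one_le_pow _ _ (by omega)
    have hp2 : 1 ≤ u ^ (m - 1) := Nat.one_le_pow _ _ (by omega)
    rcases Nat.even_or_odd m with hme | hmo
    · rw [H948.UMain.ph_even (by
        obtain ⟨c, rfl⟩ := hme
        exact ⟨c - 1, by omega⟩), show m - 2 + 1 = m - 1 by omega] at h1
      obtain ⟨y, hy⟩ := exists_blockU hF (n := m) (k := m - 2) (by omega) (by omega)
      rw [H948.UMain.ph_odd (by
        rw [Nat.not_even_iff_odd]
        obtain ⟨c, rfl⟩ := hme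
        exact ⟨c - 2, by omega⟩), show m - 2 - 1 + 1 = m - 2 by omega] at hy
      have hp3 : 1 ≤ u ^ (m - 2) := Nat.one_le_pow _ _ (by omega)
      refine dead_uni h.par hup (k := m - 1) (d := 1) (a := orderOf y) (by omega) ?_ le_rfl (by rw [one_mul, h1]) ?_ (h.om y)
      · obtain ⟨c, rfl⟩ := hme
        exact ⟨c - 1, by omega⟩
      · rw [hy, show m - 1 - 1 = m - 2 by omega]
        omega
    · rw [H948.UMain.ph_odd (by
        rw [Nat.not_even_iff_odd]
        obtain ⟨c, rfl⟩ := hmo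
        exact ⟨c - 1, by omega⟩), show m - 2 + 1 = m - 1 by omega] at h1
      rw [H948.UMain.ph_even (by
        obtain ⟨c, rfl⟩ := hmo
        exact ⟨c, by omega⟩), Nat.sub_add_cancel (by omega)] at hx
      rcases Nat.lt_or_ge 2 u with hu3 | hu3
      · have e1 : (R2.Spec.X1.TD.mm q : ℤ) * (u + 1) + 1 = (u : ℤ) ^ (m - 1) := by
          have : R2.Spec.X1.TD.mm q * (u + 1) + 1 = u ^ (m - 1) := by omega
          exact_mod_cast this
        have e2 : (orderOf x : ℤ) * (u + 1) ^ 2 = (u : ℤ) ^ m + 1 := by exact_mod_cast hx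
        have e3 : (u : ℤ) ^ m = u * (u : ℤ) ^ (m - 1) := by
          rw [← pow_succ', Nat.sub_add_cancel (by omega)]
        have hu0 : (u : ℤ) + 1 ≠ 0 := by omega
        refine no_below h.par (h.om x) (w := u + 1) (by omega) ?_
        apply mul_left_cancel₀ hu0
        linear_combination -e2 - e3 + (u : ℤ) * e1
      · obtain rfl : u = 2 := by omega
        have h8 : 8 ∣ 2 ^ (m - 1) := (show (8 : ℕ) = 2 ^ 3 by norm_num) ▸ pow_dvd_pow 2 (by omega)
        (clear * - hmod8 h1 h8; omega)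
  · omega
  · omega

end Cfsg.Agent.R2.Spec.X1.TRd
end
end

-- part: R2/Spec/X1/TRb/Psp_mg
section
prune_inst 0x12000400440000000000004100018062200000000200001c800000008004f02800001000c801100000c228010040040000000400040000004000000000001208002460072d1ad08900011800004400000000000000000000000000000000004000000000
set_option linter.all false
open scoped Cfsg.Agent.FastGrp

-- part: R2/Spec/X1/TRb/Psp
section
/-!
# S3478, identification row `PSp_2m(u)` (helper269, for helper134)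

`row_psp` : `PSp_2m(u)` does not have the element orders of `³D₄(q)`.
-/

set_option autoImplicit false
set_option linter.unusedSectionVars false

namespace Cfsg.Agent.R2.Spec.X1.TRb.Psp

open Cfsg Cfsg.Agent.R2.Spec.X1.TI Cfsg.Agent.R2.Spec.X1.TD Cfsg.Agent.H150 Cfsg.Agent.H377

variable {F : Type*} [Field F] [Fintype F]

theorem sq_of_center {m : ℕ} (hm : 1 ≤ m) {z : Matrix.symplecticGroup (Fin m) F}
    (hz : z ∈ Subgroup.center (Matrix.symplecticGroup (Fin m) F)) : z ^ 2 = 1 := by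
  have h1 := Cfsg.Agent.LieClassical.SympCenter.card_center (F := F) hm
  have h2 : Nat.card (Subgroup.center (Matrix.symplecticGroup (Fin m) F)) ∣ 2 := by
    rw [h1]
    exact Nat.gcd_dvd_left _ _
  have h3 : (⟨z, hz⟩ : Subgroup.center (Matrix.symplecticGroup (Fin m) F)) ^ 2 = 1 := by
    obtain ⟨k, hk⟩ := h2
    rw [hk, pow_mul, pow_card_eq_one', one_pow]
  exact congrArg Subtype.val h3

/-- an element of `Sp` of the same order -/
theorem exists_sp {m N : ℕ} (hm : 1 ≤ m) (hN : 0 < N) (hg : ∃ g : PSp m F, orderOf g = N) :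
    ∃ S : Matrix.symplecticGroup (Fin m) F, orderOf S = N := by
  obtain ⟨g, hg⟩ := hg
  obtain ⟨S, rfl⟩ := QuotientGroup.mk'_surjective _ g
  have h1 : N ∣ orderOf S := by
    rw [← hg]
    exact orderOf_map_dvd _ S
  have h2 : S ^ N ∈ Subgroup.center (Matrix.symplecticGroup (Fin m) F) := by
    apply (QuotientGroup.eq_one_iff _).1
    change QuotientGroup.mk' _ (S ^ N) = 1
    rw [map_pow, ← hg, pow_orderOf_eq_one]
  have h3 : S ^ (N * 2) = 1 := by
    rw [pow_mul]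
    exact sq_of_center hm h2
  have h4 : orderOf S ∣ N * 2 := orderOf_dvd_of_pow_eq_one h3
  obtain ⟨k, hk⟩ := h1
  have hk2 : k ∣ 2 := by
    rw [hk] at h4
    exact Nat.dvd_of_mul_dvd_mul_left hN h4
  have hk0 : k ≠ 0 := by
    rintro rfl
    simp at hk2
  refine ⟨S ^ k, ?_⟩
  rw [orderOf_pow_of_dvd hk0 (by rw [hk]; exact dvd_mul_left _ _), hk,
    Nat.mul_div_cancel _ (Nat.pos_of_ne_zero hk0)]

/-- `Sp_2m` is a subgroup of `PSp_2(m+1)` -/
theorem exists_up {m N : ℕ} (hm : 1 ≤ m) (S : Matrix.symplecticGroup (Fin m) F)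
    (hS : orderOf S = N) : ∃ g : PSp (m + 1) F, orderOf g = N := by
  refine exists_psp_of_prod hm S 1 fun j => ?_
  have h1 : (spLin (1 : Matrix.symplecticGroup (Fin 1) F)) ^ j = 1 := by
    rw [spLin_pow_eq_one_iff, one_pow]
  rw [h1, spLin_pow_eq_one_iff, ← orderOf_dvd_iff_pow_eq_one, hS]
  constructor
  · rintro (⟨h2, -⟩ | ⟨h2, h3⟩)
    · exact h2
    · rw [← hS, orderOf_dvd_iff_pow_eq_one, ← spLin_pow_eq_one_iff, h2]
      have h4 : (1 : F) = -1 := by
        have h5 := congrArg (fun f : Module.End F (Fin 1 ⊕ Fin 1 → F) => f (fun _ => 1) (Sum.inl 0)) h3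
        simpa only [_root_.Fin.isValue, _root_.Module.End.one_apply, _root_.LinearMap.neg_apply, _root_.Pi.neg_apply] using h5
      apply LinearMap.ext
      intro x
      change -x = x
      funext i
      change - x i = x i
      linear_combination (-x i) * h4
  · intro h2
    exact Or.inl ⟨h2, rfl⟩

/-- elements of order `u ^ m - 1` or its half -/
theorem exists_tor {m N : ℕ} (hm : 1 ≤ m) (hN0 : 0 < N)
    (hN : (Odd N ∧ N ∣ Nat.card F ^ m - 1) ∨ 2 * N ∣ Nat.card F ^ m - 1) :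
    ∃ g : PSp (m + 1) F, orderOf g = N := by
  obtain ⟨S, hS⟩ := exists_sp hm hN0 (exists_psp_tor_plus hm hN0 hN)
  exact exists_up hm S hS

theorem row_psp {p q : ℕ} {m : ℕ} (hm : 2 ≤ m) (_hne : m = 2 → 3 ≤ Fintype.card F)
    (h : Sit p q (Cfsg.PSp m F)) : False := by
  classical
  have hpar := h.par
  have hfin : Finite (Cfsg.PSp m F) := inferInstance
  obtain ⟨s0, hs0, hs0n, hs013, -⟩ := h.exists_prime
  have hodd := mm_odd hpar
  have h73 := mm_ge hpar
  have hu : IsPrimePow (Nat.card F) := by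
    rw [Nat.card_eq_fintype_card]
    exact Fintype.isPrimePow_card_of_field
  have hadj : ∀ s, s.Prime → s ∣ R2.Spec.X1.TD.mm q → ¬ H94.PG.Adj (PSp m F) s 2 := by
    intro s hs hd ha
    have h2 := h.adj_dvd hd ha
    have := Nat.odd_iff.1 hodd
    omega
  have hs2 : ∀ s, s.Prime → s ∣ R2.Spec.X1.TD.mm q → s ≠ 2 := fun s hs hd => by
    have := h.two_lt hs hd
    omega
  have hsmall : ∀ i, 1 ≤ i → i < m → Nat.Coprime (R2.Spec.X1.TD.mm q) (Nat.card F ^ (2 * i) - 1) := by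
    intro i hi him
    exact Sit.coprime_of h fun s hs hd hds => hadj s hs hd
      (psp_adj_two_of_dvd hi him hs (hs2 s hs hd) hds)
  have hchar : Nat.Coprime (R2.Spec.X1.TD.mm q) (Nat.card F) :=
    Sit.coprime_of h fun s hs hd hds => hadj s hs hd (psp_adj_two_of_char hm hs (hs2 s hs hd) hds)
  set u := Nat.card F with hudef
  have hu2 : 2 ≤ u := hu.two_le
  have hdvd : R2.Spec.X1.TD.mm q ∣ u ^ (2 * m) - 1 := by
    have h1 : R2.Spec.X1.TD.mm q ∣ Nat.card (Matrix.symplecticGroup (Fin m) F) :=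
      h.mm_dvd_card.trans (Subgroup.card_quotient_dvd_card _)
    rw [Cfsg.Agent.S0245.result (F := F) rfl m, ← Nat.card_eq_fintype_card, ← hudef] at h1
    have h2 := (Nat.Coprime.pow_right (m ^ 2) hchar).dvd_of_dvd_mul_left h1
    obtain ⟨m', rfl⟩ : ∃ m', m = m' + 1 := ⟨m - 1, by omega⟩
    rw [Finset.prod_range_succ] at h2
    refine Nat.Coprime.dvd_of_dvd_mul_left (Nat.Coprime.prod_right fun i hi => ?_) h2
    rw [Finset.mem_range] at hi
    exact hsmall (i + 1) (by omega) (by omega)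
  have hfac : u ^ (2 * m) - 1 = (u ^ m + 1) * (u ^ m - 1) := by
    rw [mul_comm 2, pow_mul, ← Nat.sq_sub_sq, one_pow]
  rw [hfac] at hdvd
  have hum : u ≤ u ^ m := by
    calc u = u ^ 1 := (pow_one u).symm
      _ ≤ u ^ m := Nat.pow_le_pow_right (by omega) (by omega)
  have hn2 : Nat.Coprime (R2.Spec.X1.TD.mm q) 2 := Nat.coprime_two_right.2 hodd
  rcases Nat.even_or_odd m with hme | hmo
  · -- `m` even
    obtain ⟨k, hk⟩ := hme
    have h1 : Nat.Coprime (R2.Spec.X1.TD.mm q) (u ^ m - 1) := by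
      have := hsmall k (by omega) (by omega)
      rwa [show 2 * k = m by omega] at this
    have h2 : R2.Spec.X1.TD.mm q ∣ u ^ m + 1 := h1.dvd_of_dvd_mul_right hdvd
    rcases Nat.even_or_odd u with hue | huo
    · have hNo : Odd (u ^ m + 1) := (hue.pow_of_ne_zero (by omega)).add_one
      have h3 := h.dvd_mm (exists_psp_tor_minus (F := F) (m := m) (by omega) (N := u ^ m + 1)
        (by omega) (Or.inl ⟨hNo, dvd_rfl⟩)) hs0 (hs0n.trans h2) hs0n
      exact ne_pow_add_one hpar hu (by omega) (Nat.dvd_antisymm h2 h3)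
    · obtain ⟨N, hN⟩ : 2 ∣ u ^ m + 1 := (huo.pow.add_one).two_dvd
      have h4 : R2.Spec.X1.TD.mm q ∣ N := by
        rw [hN] at h2
        exact hn2.dvd_of_dvd_mul_left h2
      have h3 := h.dvd_mm (exists_psp_tor_minus (F := F) (m := m) (by omega) (N := N)
        (by omega) (Or.inr (by rw [← hudef, hN]))) hs0 (hs0n.trans h4) hs0n
      have h5 := Nat.dvd_antisymm h4 h3
      apply ne_half hpar (u ^ k)
      rw [h5, ← hN, ← pow_mul, hk, mul_two]
  · -- `m` odd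
    have hm3 : 3 ≤ m := by
      obtain ⟨k, hk⟩ := hmo
      omega
    have hco2 : Nat.Coprime (R2.Spec.X1.TD.mm q) (u ^ 2 - 1) := by
      have := hsmall 1 le_rfl (by omega)
      rwa [mul_one] at this
    have hsq : u ^ 2 - 1 = (u + 1) * (u - 1) := by
      have := Nat.sq_sub_sq u 1
      rwa [one_pow] at this
    have hcop : Nat.Coprime (R2.Spec.X1.TD.mm q) (u ^ m + 1) := by
      refine Sit.coprime_of h fun s hs hd hds => ?_
      have hdiv : u + 1 ∣ u ^ m + 1 := by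
        have := Odd.nat_add_dvd_pow_add_pow u 1 hmo
        rwa [one_pow] at this
      rcases Nat.even_or_odd u with hue | huo
      · have hNo : Odd (u ^ m + 1) := (hue.pow_of_ne_zero (by omega)).add_one
        have h3 := h.dvd_mm (exists_psp_tor_minus (F := F) (m := m) (by omega) (N := u ^ m + 1)
          (by omega) (Or.inl ⟨hNo, dvd_rfl⟩)) hs hds hd
        have h4 : u + 1 ∣ Nat.gcd (R2.Spec.X1.TD.mm q) (u ^ 2 - 1) :=
          Nat.dvd_gcd (hdiv.trans h3) (hsq ▸ Nat.dvd_mul_right _ _)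
        rw [Nat.Coprime.gcd_eq_one hco2] at h4
        have := Nat.le_of_dvd one_pos h4
        omega
      · obtain ⟨N, hN⟩ : 2 ∣ u ^ m + 1 := (huo.pow.add_one).two_dvd
        obtain ⟨v, hv⟩ : 2 ∣ u + 1 := huo.add_one.two_dvd
        have hsN : s ∣ N := by
          rw [hN] at hds
          exact ((Nat.coprime_primes hs Nat.prime_two).2 (hs2 s hs hd)).dvd_of_dvd_mul_left hds
        have h3 := h.dvd_mm (exists_psp_tor_minus (F := F) (m := m) (by omega) (N := N)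
          (by omega) (Or.inr (by rw [← hudef, hN]))) hs hsN hd
        have hvN : v ∣ N := by
          rw [hv, hN] at hdiv
          exact Nat.dvd_of_mul_dvd_mul_left two_pos hdiv
        have h4 : v ∣ 1 := by
          rw [← hco2]
          refine Nat.dvd_gcd (hvN.trans h3) ?_
          rw [hsq, hv, mul_assoc]
          exact (Dvd.intro_left 2 rfl).trans (by rw [← mul_assoc]; exact Nat.dvd_mul_right _ _)
        have := Nat.le_of_dvd one_pos h4
        omega
    have hdvd' : R2.Spec.X1.TD.mm q ∣ u ^ m - 1 := hcop.dvd_of_dvd_mul_left hdvd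
    have hdiv : u - 1 ∣ u ^ m - 1 := by
      have := Nat.sub_dvd_pow_sub_pow u 1 m
      rwa [one_pow] at this
    have hum1 : 0 < u ^ (m - 1) - 1 := by
      have : u ^ 1 ≤ u ^ (m - 1) := Nat.pow_le_pow_right (by omega) (by omega)
      rw [pow_one] at this
      omega
    rcases Nat.even_or_odd u with hue | huo
    · have hpe : Even (u ^ m) := hue.pow_of_ne_zero (by omega)
      have hNo : Odd (u ^ m - 1) := Nat.Even.sub_odd (by omega) hpe odd_one
      have h3 := h.dvd_mm (exists_psp_tor_plus (F := F) (m := m) (by omega) (N := u ^ m - 1)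
        (by omega) (Or.inl ⟨hNo, dvd_rfl⟩)) hs0 (hs0n.trans hdvd') hs0n
      have h4 : u - 1 ∣ Nat.gcd (R2.Spec.X1.TD.mm q) (u ^ 2 - 1) :=
        Nat.dvd_gcd (hdiv.trans h3) (hsq ▸ Nat.dvd_mul_left _ _)
      rw [Nat.Coprime.gcd_eq_one hco2] at h4
      have hu1 : u = 2 := by
        have := Nat.le_of_dvd one_pos h4
        omega
      have h5 := Nat.dvd_antisymm hdvd' h3
      have hNo' : Odd (u ^ (m - 1) - 1) :=
        Nat.Even.sub_odd (by omega) (hue.pow_of_ne_zero (by omega)) odd_one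
      have ha := exists_tor (F := F) (m := m - 1) (N := u ^ (m - 1) - 1) (by omega) hum1
        (Or.inl ⟨hNo', dvd_rfl⟩)
      rw [show m - 1 + 1 = m by omega] at ha
      refine dead_plus hpar (u := u) (k := m) (c := 1) (a := u ^ (m - 1) - 1) hu hm3 (Or.inl rfl)
        ?_ ?_ (h.ord ha)
      · rw [h5, hu1]
        have : 1 ≤ 2 ^ m := Nat.one_le_two_pow
        omega
      · (clear * - hum1; omega)
    · have hpo : Odd (u ^ m) := huo.pow
      obtain ⟨N, hN⟩ : 2 ∣ u ^ m - 1 := (Nat.Odd.sub_odd hpo odd_one).two_dvd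
      obtain ⟨v, hv⟩ : 2 ∣ u - 1 := (Nat.Odd.sub_odd huo odd_one).two_dvd
      have h4 : R2.Spec.X1.TD.mm q ∣ N := by
        rw [hN] at hdvd'
        exact hn2.dvd_of_dvd_mul_left hdvd'
      have h3 := h.dvd_mm (exists_psp_tor_plus (F := F) (m := m) (by omega) (N := N)
        (by omega) (Or.inr (by rw [← hudef, hN]))) hs0 (hs0n.trans h4) hs0n
      have h5 := Nat.dvd_antisymm h4 h3
      have hvN : v ∣ N := by
        rw [hv, hN] at hdiv
        exact Nat.dvd_of_mul_dvd_mul_left two_pos hdiv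
      have h6 : v ∣ 1 := by
        rw [← hco2]
        refine Nat.dvd_gcd (h5 ▸ hvN) ?_
        rw [hsq, hv]
        exact Dvd.intro_left ((u + 1) * 2) (by ring)
      have hv1 : v = 1 := Nat.dvd_one.1 h6
      have hu3 : u = 3 := by omega
      obtain ⟨N', hN'⟩ : 2 ∣ u ^ (m - 1) - 1 := (Nat.Odd.sub_odd huo.pow odd_one).two_dvd
      have ha := exists_tor (F := F) (m := m - 1) (N := N') (by omega) (by omega)
        (Or.inr (by rw [← hudef, hN']))
      rw [show m - 1 + 1 = m by omega] at ha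
      refine dead_plus hpar (u := u) (k := m) (c := 2) (a := N') hu hm3 (Or.inr ⟨rfl, huo⟩)
        ?_ ?_ (h.ord ha)
      · rw [hu3] at hN
        rw [h5, hu3]
        have : 1 ≤ 3 ^ m := Nat.one_le_pow _ _ (by norm_num)
        (clear * - hN this; omega)
      · (clear * - hum1 hN'; omega)

end Cfsg.Agent.R2.Spec.X1.TRb.Psp
end

-- part: R2/Spec/X1/TRf/E78
section
/-!
# S3478, rows `E₇(u)` and `E₈(u)` (helper528)

A group `E₇(u)` or `E₈(u)` does not have the element orders of `³D₄(q)` (`Cfsg.Agent.R2.Spec.X1.TI.Sit`).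
-/

set_option autoImplicit false
set_option linter.unusedSectionVars false

namespace Cfsg.Agent.R2.Spec.X1.TRf.E78

open Cfsg Cfsg.Lie
open Cfsg.Agent.R2.Spec.X1.TD Cfsg.Agent.R2.Spec.X1.TI Cfsg.Agent.H129 Cfsg.Agent.H129.CycT Cfsg.Agent.H378.CycTab
open Cfsg.Agent.H378.SmallTor Cfsg.Agent.H378.AdjTab

universe u

/-! ### arithmetic -/

theorem mm_mono {q c : ℕ} (hc : 2 < c) (h : c ≤ q) : mm c ≤ mm q := by
  have h1 := mm_eq hc
  have h2 := mm_eq (show 2 < q by omega)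
  have h3 : c ^ 2 ≤ q ^ 2 := Nat.pow_le_pow_left h 2
  rw [h1, h2]
  have := Nat.mul_le_mul h3 (Nat.sub_le_sub_right h3 1)
  omega

theorem ne_1093 {q : ℕ} (hq : 2 < q) : mm q ≠ 1093 := by
  intro h
  rcases Nat.lt_or_ge q 6 with h6 | h6
  · interval_cases q <;> revert h <;> decide
  · have := mm_mono (by norm_num) h6
    rw [h] at this
    revert this
    decide

theorem ne_757 {q : ℕ} (hq : 2 < q) : mm q ≠ 757 := by
  intro h
  rcases Nat.lt_or_ge q 6 with h6 | h6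
  · interval_cases q <;> revert h <;> decide
  · have := mm_mono (by norm_num) h6
    rw [h] at this
    revert this
    decide

theorem ne_331 {q : ℕ} (hq : 2 < q) : mm q ≠ 331 := by
  intro h
  rcases Nat.lt_or_ge q 6 with h6 | h6
  · interval_cases q <;> revert h <;> decide
  · have := mm_mono (by norm_num) h6
    rw [h] at this
    revert this
    decide

theorem ne_8401 {q : ℕ} (hq : 2 < q) : mm q ≠ 8401 := by
  intro h
  rcases Nat.lt_or_ge q 11 with h6 | h6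
  · interval_cases q <;> revert h <;> decide
  · have := mm_mono (by norm_num) h6
    rw [h] at this
    revert this
    decide

theorem eq_three {q : ℕ} (hq : 2 < q) (h : mm q = 73) : q = 3 := by
  rcases Nat.lt_or_ge q 4 with h6 | h6
  · omega
  · have := mm_mono (by norm_num) h6
    rw [h] at this
    exact absurd this (by decide)

/-- two coprime large members of `Om` -/
theorem two_large {p q : ℕ} (h : Par p q) {a b : ℕ} (ha : Om p q a) (hb : Om p q b) (h1 : 5 * mm q ≤ 7 * a)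
    (h2 : 5 * mm q ≤ 7 * b) (ha' : a ≠ mm q) (hb' : b ≠ mm q) (hco : Nat.Coprime a b) : False := by
  have hq := h.hq
  have d1 : q + 1 ∣ q ^ 3 + 1 := ⟨q ^ 2 - q + 1, by
    have hle : q ≤ q ^ 2 := Nat.le_self_pow two_ne_zero q
    zify [hle]
    ring⟩
  have d2 : q - 1 ∣ q ^ 3 - 1 := by simpa only [_root_.one_pow] using Nat.sub_dvd_pow_sub_pow q 1 3
  have key : ∀ c : ℕ, Om p q c → 5 * mm q ≤ 7 * c → c ≠ mm q →
      (q + 1 ∣ c ∧ (q - 1 ∣ c ∨ q ∣ c)) ∨ (q - 1 ∣ c ∧ q ∣ c) := by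
    intro c hc h5 hne
    rcases Om.large h hc h5 with h6 | h6 | h6 | h6 | h6
    · exact absurd h6 hne
    · rw [h6]; exact Or.inl ⟨Dvd.intro_left _ rfl, Or.inl (Dvd.dvd.mul_right d2 _)⟩
    · rw [h6]; exact Or.inl ⟨Dvd.dvd.mul_right d1 _, Or.inl (Dvd.intro_left _ rfl)⟩
    · rw [h6]; exact Or.inr ⟨Dvd.dvd.mul_left d2 _, Dvd.intro _ rfl⟩
    · rw [h6]; exact Or.inl ⟨Dvd.dvd.mul_left d1 _, Or.inr (Dvd.intro _ rfl)⟩
  have kill : ∀ d : ℕ, 2 ≤ d → d ∣ a → d ∣ b → False := by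
    intro d hd hda hdb
    have h3 := Nat.dvd_gcd hda hdb
    rw [hco] at h3
    have := Nat.dvd_one.1 h3
    omega
  rcases key a ha h1 ha' with ⟨a1, a2 | a2⟩ | ⟨a1, a2⟩ <;> rcases key b hb h2 hb' with ⟨b1, b2 | b2⟩ | ⟨b1, b2⟩
  · exact kill _ (by omega) a1 b1
  · exact kill _ (by omega) a1 b1
  · exact kill _ (by omega) a2 b1
  · exact kill _ (by omega) a1 b1
  · exact kill _ (by omega) a1 b1
  · exact kill _ (by omega) a2 b2
  · exact kill _ (by omega) a1 b2
  · exact kill _ (by omega) a2 b2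
  · exact kill _ (by omega) a1 b1

theorem coprime_of_two {A B : ℕ} (hA : ¬ 2 ∣ A)
    (h : ∀ t : ℕ, t.Prime → ((A : ℕ) : ZMod t) = 0 → ((B : ℕ) : ZMod t) = 0 → (2 : ZMod t) = 0) : Nat.Coprime A B := by
  refine Nat.coprime_of_dvd fun t ht h1 h2 => ?_
  have h3 := h t ht ((ZMod.natCast_eq_zero_iff _ _).2 h1) ((ZMod.natCast_eq_zero_iff _ _).2 h2)
  have h4 : t ∣ 2 := (ZMod.natCast_eq_zero_iff 2 t).1 (by exact_mod_cast h3)
  have h5 := (Nat.prime_dvd_prime_iff_eq ht Nat.prime_two).1 h4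
  subst h5
  exact hA h1

section

variable {w A B C : ℕ}

theorem odd20 (hA : (A : ℤ) = 1 - (w : ℤ) ^ 2 + (w : ℤ) ^ 4 - (w : ℤ) ^ 6 + (w : ℤ) ^ 8) : ¬ 2 ∣ A := by
  intro h
  have h1 := H129.RealT.zmod_of_dvd hA h
  push_cast at h1
  revert h1
  generalize (w : ZMod 2) = x
  revert x
  decide

theorem odd24 (hA : (A : ℤ) = 1 - (w : ℤ) ^ 4 + (w : ℤ) ^ 8) : ¬ 2 ∣ A := by
  intro h
  have h1 := H129.RealT.zmod_of_dvd hA h
  push_cast at h1
  revert h1
  generalize (w : ZMod 2) = x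
  revert x
  decide

theorem cast_zmod {t : ℕ} {z : ℤ} (hA : (A : ℤ) = z) (h : ((A : ℕ) : ZMod t) = 0) : ((z : ℤ) : ZMod t) = 0 := by
  rw [← hA]
  exact_mod_cast h

theorem co_20_24 (hA : (A : ℤ) = 1 - (w : ℤ) ^ 2 + (w : ℤ) ^ 4 - (w : ℤ) ^ 6 + (w : ℤ) ^ 8)
    (hB : (B : ℤ) = 1 - (w : ℤ) ^ 4 + (w : ℤ) ^ 8) : Nat.Coprime A B := by
  refine coprime_of_two (odd20 hA) fun t _ h1 h2 => ?_
  have h3 := cast_zmod hA h1
  have h4 := cast_zmod hB h2
  push_cast at h3 h4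
  generalize (w : ZMod t) = x at h3 h4
  have e1 : x ^ 10 = -1 := by linear_combination (x ^ 2 + 1) * h3
  have e2 : x ^ 12 = -1 := by linear_combination (x ^ 4 + 1) * h4
  have e3 : x ^ 2 = 1 := by linear_combination x ^ 2 * e1 - e2
  have e4 : x ^ 10 = 1 := by
    calc x ^ 10 = (x ^ 2) ^ 5 := by ring
      _ = 1 := by rw [e3, one_pow]
  linear_combination e1 - e4

theorem co_20_30 (hA : (A : ℤ) = 1 - (w : ℤ) ^ 2 + (w : ℤ) ^ 4 - (w : ℤ) ^ 6 + (w : ℤ) ^ 8)
    (hB : (B : ℤ) = 1 + (w : ℤ) - (w : ℤ) ^ 3 - (w : ℤ) ^ 4 - (w : ℤ) ^ 5 + (w : ℤ) ^ 7 + (w : ℤ) ^ 8) :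
    Nat.Coprime A B := by
  refine coprime_of_two (odd20 hA) fun t _ h1 h2 => ?_
  have h3 := cast_zmod hA h1
  have h4 := cast_zmod hB h2
  push_cast at h3 h4
  generalize (w : ZMod t) = x at h3 h4
  have e1 : x ^ 10 = -1 := by linear_combination (x ^ 2 + 1) * h3
  have e2 : x ^ 15 = -1 := by linear_combination (x ^ 7 - x ^ 6 + x ^ 5 + x ^ 2 - x + 1) * h4
  have e3 : x ^ 5 = 1 := by linear_combination x ^ 5 * e1 - e2
  have e4 : x ^ 10 = 1 := by
    calc x ^ 10 = (x ^ 5) ^ 2 := by ring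
      _ = 1 := by rw [e3, one_pow]
  linear_combination e1 - e4

theorem co_24_30 (hA : (A : ℤ) = 1 - (w : ℤ) ^ 4 + (w : ℤ) ^ 8)
    (hB : (B : ℤ) = 1 + (w : ℤ) - (w : ℤ) ^ 3 - (w : ℤ) ^ 4 - (w : ℤ) ^ 5 + (w : ℤ) ^ 7 + (w : ℤ) ^ 8) :
    Nat.Coprime A B := by
  refine coprime_of_two (odd24 hA) fun t _ h1 h2 => ?_
  have h3 := cast_zmod hA h1
  have h4 := cast_zmod hB h2
  push_cast at h3 h4
  generalize (w : ZMod t) = x at h3 h4
  have e1 : x ^ 12 = -1 := by linear_combination (x ^ 4 + 1) * h3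
  have e2 : x ^ 15 = -1 := by linear_combination (x ^ 7 - x ^ 6 + x ^ 5 + x ^ 2 - x + 1) * h4
  have e3 : x ^ 3 = 1 := by linear_combination x ^ 3 * e1 - e2
  have e4 : x ^ 12 = 1 := by
    calc x ^ 12 = (x ^ 3) ^ 4 := by ring
      _ = 1 := by rw [e3, one_pow]
  linear_combination e1 - e4

end

/-! ### `E₇` -/

variable {p q : ℕ} {F : Type u} [Field F] [Fintype F]

theorem exists_of_exact {G : Type*} [Group G] {N : ℕ} (h : CycExact G N) : ∃ x : G, orderOf x = N := by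
  obtain ⟨T, hc, hN, -⟩ := h
  obtain ⟨t, ht⟩ := hc.exists_generator
  exact ⟨t, by rw [Subgroup.orderOf_coe, ← hN]; exact orderOf_eq_card_of_forall_mem_zpowers ht⟩

theorem row_E7 (h : Sit p q ↥(Lie.chevE7.group F)) : False := by
  have : Finite ↥(Lie.chevE7.group F) := inferInstance
  obtain ⟨s, hs, hsn, hs13, hsd⟩ := h.exists_prime
  have hnn := h.not_near hs hsn
  obtain ⟨u, hu⟩ : ∃ u, Fintype.card F = u := ⟨_, rfl⟩
  have hcu : Nat.card F = u := by rw [Nat.card_eq_fintype_card, hu]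
  have hu2 : 2 ≤ u := by rw [← hu]; exact Fintype.one_lt_card
  rcases H378.ExcNear.near_E7 F hs hsd with h1 | ⟨h3, h1⟩
  · exact hnn h1
  rw [hcu] at h3 h1
  have hmod := mm_mod h.par
  obtain ⟨N7, hN7⟩ : ∃ N : ℕ, N = 1 + u + u ^ 2 + u ^ 3 + u ^ 4 + u ^ 5 + u ^ 6 := ⟨_, rfl⟩
  obtain ⟨N9, hN9⟩ : ∃ N : ℕ, N = 1 + u ^ 3 + u ^ 6 := ⟨_, rfl⟩
  have hx7 : CycExact ↥(Lie.chevE7.group F) N7 := exact_E7_7 hu h3 (by rw [hN7]; push_cast; ring)
  have hx9 : CycExact ↥(Lie.chevE7.group F) N9 := exact_E7_9 hu h3 (by rw [hN9]; push_cast; ring)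
  rcases h1 with h1 | h1
  · have hd := dvd7 hs h1
    have hd' : s ∣ N7 := by
      rw [← Int.natCast_dvd_natCast, hN7]
      rw [pv7] at hd
      convert hd using 1
      push_cast
      ring
    have he := h.exact hx7 hs hd' hsn
    interval_cases u
    · omega
    · exact ne_1093 h.par.hq (by rw [← he, hN7]; norm_num)
  · have hd := dvd9 hs h1
    have hd' : s ∣ N9 := by
      rw [← Int.natCast_dvd_natCast, hN9]
      rw [pv9] at hd
      convert hd using 1
      push_cast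
      ring
    have he := h.exact hx9 hs hd' hsn
    interval_cases u
    · have hq3 := eq_three h.par.hq (by rw [← he, hN9]; norm_num)
      have := h.par.q5
      omega
    · exact ne_757 h.par.hq (by rw [← he, hN9]; norm_num)

/-! ### `E₈` -/

theorem torus_E8_20 {w : ℕ} (hq : Fintype.card F = w) {N : ℕ}
    (hN : (N : ℤ) = 1 - (w : ℤ) ^ 2 + (w : ℤ) ^ 4 - (w : ℤ) ^ 6 + (w : ℤ) ^ 8) :
    ∃ T : Subgroup ↥(chevE8.group F), IsCyclic ↥T ∧ Nat.card ↥T = N ∧
      ∀ r : ℕ, r.Prime → r ∣ N → r ≠ 5 → ∀ y ∈ T, orderOf y = r → Subgroup.centralizer {y} ≤ T := by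
  have := finite_W8
  obtain ⟨T, h1, h2, h3, h4, -⟩ := UntwT.untw_T typeE8 CoxeterMatrix.E₈.toCoxeterSystem (by norm_num) hq
    TorusChar.invC_E8 one_ne_zero DataE8b.hA DataE8b.chainOK DataE8b.cycOK DataE8b.rootOK
    (by rw [DataE8b.fN_eq, hN])
    (UntwData.coprime_of_eq (a := -(w : ℤ) + (w : ℤ) ^ 3 - (w : ℤ) ^ 5 + (w : ℤ) ^ 7) (by rw [hN]; ring)) (d := 1)
    (Or.inl rfl)
  exact ⟨T, h1, Nat.dvd_antisymm h2 (by rwa [one_mul] at h3), fun r hr hrN h5 =>
    h4 r hr (good_E8_20 hN hr hrN h5).1 (good_E8_20 hN hr hrN h5).2⟩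

theorem nn15 (v : ℕ) : ∃ N : ℕ, (N : ℤ) = 1 - ((v + 2 : ℕ) : ℤ) + ((v + 2 : ℕ) : ℤ) ^ 3 - ((v + 2 : ℕ) : ℤ) ^ 4 +
    ((v + 2 : ℕ) : ℤ) ^ 5 - ((v + 2 : ℕ) : ℤ) ^ 7 + ((v + 2 : ℕ) : ℤ) ^ 8 := by
  refine ⟨_, Int.toNat_of_nonneg ?_⟩
  push_cast
  ring_nf
  positivity

theorem nn20 (v : ℕ) : ∃ N : ℕ, (N : ℤ) = 1 - ((v + 2 : ℕ) : ℤ) ^ 2 + ((v + 2 : ℕ) : ℤ) ^ 4 - ((v + 2 : ℕ) : ℤ) ^ 6 +
    ((v + 2 : ℕ) : ℤ) ^ 8 := by
  refine ⟨_, Int.toNat_of_nonneg ?_⟩
  push_cast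
  ring_nf
  positivity

theorem nn24 (v : ℕ) : ∃ N : ℕ, (N : ℤ) = 1 - ((v + 2 : ℕ) : ℤ) ^ 4 + ((v + 2 : ℕ) : ℤ) ^ 8 := by
  refine ⟨_, Int.toNat_of_nonneg ?_⟩
  push_cast
  ring_nf
  positivity

theorem nn30 (v : ℕ) : ∃ N : ℕ, (N : ℤ) = 1 + ((v + 2 : ℕ) : ℤ) - ((v + 2 : ℕ) : ℤ) ^ 3 - ((v + 2 : ℕ) : ℤ) ^ 4 -
    ((v + 2 : ℕ) : ℤ) ^ 5 + ((v + 2 : ℕ) : ℤ) ^ 7 + ((v + 2 : ℕ) : ℤ) ^ 8 := by
  refine ⟨_, Int.toNat_of_nonneg ?_⟩
  push_cast
  ring_nf
  positivity

section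

variable {v N15 N20 N24 N30 : ℕ}

theorem ge15 (hN15 : (N15 : ℤ) = 1 - ((v + 2 : ℕ) : ℤ) + ((v + 2 : ℕ) : ℤ) ^ 3 - ((v + 2 : ℕ) : ℤ) ^ 4 +
    ((v + 2 : ℕ) : ℤ) ^ 5 - ((v + 2 : ℕ) : ℤ) ^ 7 + ((v + 2 : ℕ) : ℤ) ^ 8) : 151 ≤ N15 := by
  zify
  rw [hN15, ← sub_nonneg]
  clear hN15
  push_cast
  ring_nf
  positivity

theorem lt1520 (hN15 : (N15 : ℤ) = 1 - ((v + 2 : ℕ) : ℤ) + ((v + 2 : ℕ) : ℤ) ^ 3 - ((v + 2 : ℕ) : ℤ) ^ 4 +
    ((v + 2 : ℕ) : ℤ) ^ 5 - ((v + 2 : ℕ) : ℤ) ^ 7 + ((v + 2 : ℕ) : ℤ) ^ 8)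
    (hN20 : (N20 : ℤ) = 1 - ((v + 2 : ℕ) : ℤ) ^ 2 + ((v + 2 : ℕ) : ℤ) ^ 4 - ((v + 2 : ℕ) : ℤ) ^ 6 +
    ((v + 2 : ℕ) : ℤ) ^ 8) : N15 < N20 := by
  zify
  rw [hN15, hN20, ← sub_pos]
  clear hN15 hN20
  push_cast
  ring_nf
  positivity

theorem lt2024 (hN20 : (N20 : ℤ) = 1 - ((v + 2 : ℕ) : ℤ) ^ 2 + ((v + 2 : ℕ) : ℤ) ^ 4 - ((v + 2 : ℕ) : ℤ) ^ 6 +
    ((v + 2 : ℕ) : ℤ) ^ 8) (hN24 : (N24 : ℤ) = 1 - ((v + 2 : ℕ) : ℤ) ^ 4 + ((v + 2 : ℕ) : ℤ) ^ 8) : N20 < N24 := by
  zify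
  rw [hN20, hN24, ← sub_pos]
  clear hN20 hN24
  push_cast
  ring_nf
  positivity

theorem le2420 (hN20 : (N20 : ℤ) = 1 - ((v + 2 : ℕ) : ℤ) ^ 2 + ((v + 2 : ℕ) : ℤ) ^ 4 - ((v + 2 : ℕ) : ℤ) ^ 6 +
    ((v + 2 : ℕ) : ℤ) ^ 8) (hN24 : (N24 : ℤ) = 1 - ((v + 2 : ℕ) : ℤ) ^ 4 + ((v + 2 : ℕ) : ℤ) ^ 8) :
    5 * N24 ≤ 7 * N20 := by
  zify
  rw [hN20, hN24, ← sub_nonneg]
  clear hN20 hN24
  push_cast
  ring_nf
  positivity

theorem lt2430 (hN24 : (N24 : ℤ) = 1 - ((v + 2 : ℕ) : ℤ) ^ 4 + ((v + 2 : ℕ) : ℤ) ^ 8)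
    (hN30 : (N30 : ℤ) = 1 + ((v + 2 : ℕ) : ℤ) - ((v + 2 : ℕ) : ℤ) ^ 3 - ((v + 2 : ℕ) : ℤ) ^ 4 -
    ((v + 2 : ℕ) : ℤ) ^ 5 + ((v + 2 : ℕ) : ℤ) ^ 7 + ((v + 2 : ℕ) : ℤ) ^ 8) : N24 < N30 := by
  zify
  rw [hN24, hN30, ← sub_pos]
  clear hN24 hN30
  push_cast
  ring_nf
  positivity

theorem le3020 (hv : 2 ≤ v) (hN20 : (N20 : ℤ) = 1 - ((v + 2 : ℕ) : ℤ) ^ 2 + ((v + 2 : ℕ) : ℤ) ^ 4 -
    ((v + 2 : ℕ) : ℤ) ^ 6 + ((v + 2 : ℕ) : ℤ) ^ 8)
    (hN30 : (N30 : ℤ) = 1 + ((v + 2 : ℕ) : ℤ) - ((v + 2 : ℕ) : ℤ) ^ 3 - ((v + 2 : ℕ) : ℤ) ^ 4 -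
    ((v + 2 : ℕ) : ℤ) ^ 5 + ((v + 2 : ℕ) : ℤ) ^ 7 + ((v + 2 : ℕ) : ℤ) ^ 8) : 5 * N30 ≤ 7 * N20 := by
  obtain ⟨y, rfl⟩ : ∃ y, v = y + 2 := ⟨v - 2, by omega⟩
  zify
  rw [hN20, hN30, ← sub_nonneg]
  clear hN20 hN30
  push_cast
  ring_nf
  positivity

end

theorem row_E8 (h : Sit p q ↥(Lie.chevE8.group F)) : False := by
  have : Finite ↥(Lie.chevE8.group F) := inferInstance
  obtain ⟨s, hs, hsn, hs13, hsd⟩ := h.exists_prime
  have hnn := h.not_near hs hsn
  obtain ⟨u, hu⟩ : ∃ u, Fintype.card F = u := ⟨_, rfl⟩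
  have hcu : Nat.card F = u := by rw [Nat.card_eq_fintype_card, hu]
  have hu2 : 2 ≤ u := by rw [← hu]; exact Fintype.one_lt_card
  obtain ⟨v, rfl⟩ : ∃ v, u = v + 2 := ⟨u - 2, by omega⟩
  have h1 := (H378.ExcNear.near_E8 F hs hsd).resolve_left hnn
  rw [hcu] at h1
  obtain ⟨N15, hN15⟩ := nn15 v
  obtain ⟨N20, hN20⟩ := nn20 v
  obtain ⟨N24, hN24⟩ := nn24 v
  obtain ⟨N30, hN30⟩ := nn30 v
  have l15 := ge15 hN15
  have l1520 := lt1520 hN15 hN20
  have l2024 := lt2024 hN20 hN24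
  have l2430 := lt2430 hN24 hN30
  have l2420 := le2420 hN20 hN24
  -- the element orders
  obtain ⟨T20, hT20c, hT20, hT20'⟩ := torus_E8_20 (F := F) hu hN20
  have x15 : CycExact ↥(chevE8.group F) N15 := exact_E8_15 hu hN15
  have x24 : CycExact ↥(chevE8.group F) N24 := exact_E8_24 hu hN24
  have x30 : CycExact ↥(chevE8.group F) N30 := exact_E8_30 hu hN30
  have o20 : Om p q N20 := by
    obtain ⟨t, ht⟩ := hT20c.exists_generator
    exact h.ord ⟨t, by rw [Subgroup.orderOf_coe, ← hT20]; exact orderOf_eq_card_of_forall_mem_zpowers ht⟩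
  have o24 : Om p q N24 := h.ord (exists_of_exact x24)
  have o30 : Om p q N30 := h.ord (exists_of_exact x30)
  have hP := h.par
  have c1 := co_20_24 hN20 hN24
  have c2 := co_24_30 hN24 hN30
  have c3 := co_20_30 hN20 hN30
  rcases h1 with h1 | h1 | h1 | h1
  · have hd := dvd15 hs h1
    have hd' : s ∣ N15 := by
      rw [← Int.natCast_dvd_natCast, hN15]
      rw [pv15] at hd
      refine hd.trans (dvd_of_eq ?_)
      ring
    have he := h.exact x15 hs hd' hsn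
    clear hN15 hN20 hN24 hN30 x15 x24 x30 hT20' h
    exact two_large hP o20 o24 (by omega) (by omega) (by omega) (by omega) c1
  · have hd := dvd20 hs h1
    have hd' : s ∣ N20 := by
      rw [← Int.natCast_dvd_natCast, hN20]
      rw [pv20] at hd
      refine hd.trans (dvd_of_eq ?_)
      ring
    have he := h.card_eq hT20c hs (by rw [hT20]; exact hd') (hT20' s hs hd' (by omega)) hsn
    rw [hT20] at he
    clear hN15 hN20 hN24 hN30 x15 x24 x30 hT20' h
    exact two_large hP o24 o30 (by omega) (by omega) (by omega) (by omega) c2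
  · have hd := dvd24 hs h1
    have hd' : s ∣ N24 := by
      rw [← Int.natCast_dvd_natCast, hN24]
      rw [pv24] at hd
      refine hd.trans (dvd_of_eq ?_)
      ring
    have he := h.exact x24 hs hd' hsn
    clear hN15 hN20 hN24 hN30 x15 x24 x30 hT20' h
    exact two_large hP o20 o30 (by omega) (by omega) (by omega) (by omega) c3
  · have hd := dvd30 hs h1
    have hd' : s ∣ N30 := by
      rw [← Int.natCast_dvd_natCast, hN30]
      rw [pv30] at hd
      refine hd.trans (dvd_of_eq ?_)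
      ring
    have he := h.exact x30 hs hd' hsn
    rcases Nat.lt_or_ge v 2 with hv | hv
    · obtain rfl | rfl : v = 0 ∨ v = 1 := by (clear * - hN24 hv; omega)
      · refine ne_331 h.par.hq ?_
        rw [← he]
        zify
        rw [hN30]
        norm_num
      · refine ne_8401 h.par.hq ?_
        rw [← he]
        zify
        rw [hN30]
        norm_num
    · have l3020 := le3020 hv hN20 hN30
      clear hN15 hN20 hN24 hN30 x15 x24 x30 hT20' h
      exact two_large hP o20 o24 (by omega) (by omega) (by omega) (by omega) c1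

end Cfsg.Agent.R2.Spec.X1.TRf.E78
end
end

-- part: R2/Spec/X1/E6/I9/Uni_mg
section
prune_inst 0x2000401c40000000000000020002002000010000000000400000000800000280400000088001121008000000000000000000000000000000000000000200000002840070c10008800010000000400000000000000000000000000000000004000000000
set_option linter.all false
open scoped Cfsg.Agent.FastGrp

-- part: R2/Spec/X1/E6/I9/Uni
section
/-!
# `E₆(q)`, `²E₆(q)`, row `PSU_k(u)`, `k ≥ 3` (helper977, S3480, S3481)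
-/

set_option autoImplicit false

namespace Cfsg.Agent.R2.Spec.X1.E6.I9

open Cfsg Cfsg.Agent.R2.Spec.X1.E6 Cfsg.Agent.H72.F4I.Iso Cfsg.Agent.H94.PG
open Cfsg.Agent.H948.UBase Cfsg.Agent.H948.UProd Cfsg.Agent.H948.UTorus Cfsg.Agent.H948.UMain

section num

variable {D : Dat}

theorem uni_exc {n g u k : ℕ} (hu : 2 ≤ u) (hk : 3 ≤ k) (hgk : g ∣ k) (hgu : g ∣ u + 1)
    (h1 : n * g * (u + 1) = u ^ k + 1 ∨ n * g * (u + 1) + 1 = u ^ k)
    (h : n = 73 ∧ g = 5 ∨ n = 73 ∧ g = 8 ∨ n = 19 ∧ g = 2) : False := by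
  have hk4 : 4 ≤ k := by
    by_contra hcon
    obtain rfl : k = 3 := by omega
    rcases h with ⟨-, rfl⟩ | ⟨-, rfl⟩ | ⟨-, rfl⟩ <;> revert hgk <;> decide
  have hC : n * g ≤ 584 := by rcases h with ⟨rfl, rfl⟩ | ⟨rfl, rfl⟩ | ⟨rfl, rfl⟩ <;> norm_num
  have h2 : u ^ k ≤ n * g * (u + 1) + 1 := by omega
  have h3 : u ^ k ≤ 584 * (u + 1) + 1 := h2.trans (Nat.add_le_add_right (Nat.mul_le_mul_right _ hC) 1)
  have hu8 : u ≤ 8 := by
    by_contra hcon
    have h4 : u ^ 4 ≤ u ^ k := Nat.pow_le_pow_right (by omega) hk4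
    have h5 : 9 ^ 3 * u ≤ u ^ 4 := by
      rw [pow_succ u 3]
      exact Nat.mul_le_mul_right u (Nat.pow_le_pow_left (by omega) 3)
    omega
  have hk12 : k ≤ 12 := by
    by_contra hcon
    have h4 : 2 ^ 13 ≤ 2 ^ k := Nat.pow_le_pow_right (by norm_num) (by omega)
    have h5 : 2 ^ k ≤ u ^ k := Nat.pow_le_pow_left hu k
    omega
  have key : ∀ x ∈ [(73, 5), (73, 8), (19, 2)], ∀ u ∈ [2, 3, 4, 5, 6, 7, 8], ∀ k ∈ [4, 5, 6, 7, 8, 9, 10, 11, 12],
      (x.1 * x.2 * (u + 1) = u ^ k + 1 ∨ x.1 * x.2 * (u + 1) + 1 = u ^ k) → ¬ x.2 ∣ k := by decide +kernel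
  refine key (n, g) ?_ u ?_ k ?_ h1 hgk
  · rcases h with ⟨rfl, rfl⟩ | ⟨rfl, rfl⟩ | ⟨rfl, rfl⟩ <;> decide
  · clear key h1 h2 h3 hgu
    interval_cases u <;> decide
  · clear key h1 h2 h3
    interval_cases k <;> decide

/-- the numbers, first case -/
theorem uni_dead_one {g u k : ℕ} {B : ℤ} (hu : 2 ≤ u) (hk : 3 ≤ k) (hg0 : 0 < g) (hgk : g ∣ k) (hgu : g ∣ u + 1)
    (h1 : D.n * g * (u + 1) = u ^ k + 1 ∨ D.n * g * (u + 1) + 1 = u ^ k) (hB : B = 1 ∨ B = -1)
    (h2 : (D.m : ℤ) ∣ g * D.n + B) : False := by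
  have hdead : g = 1 ∨ (g : ℤ) + 1 ≤ D.q → False := fun h => by
    refine dead_one (D := D) (A := g) (B := B) (by exact_mod_cast hg0) hB ?_ h2
    rcases h with h | h
    · left; exact_mod_cast h
    · exact Or.inr h
  have hg1 : g ≠ 1 := fun h => hdead (Or.inl h)
  have hgq : D.q ≤ g := by
    by_contra hcon
    exact hdead (Or.inr (by exact_mod_cast (by omega : g + 1 ≤ D.q)))
  have hgk' : g ≤ k := Nat.le_of_dvd (by omega) hgk
  have hgu' : g ≤ u + 1 := Nat.le_of_dvd (by omega) hgu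
  have hn := n_le (D := D)
  rcases Nat.lt_or_ge g 9 with hg9 | hg9
  · have hsm := small D (by omega)
    have hm := D.hm
    have hexc := fun h => uni_exc hu hk hgk hgu h1 h
    obtain ⟨n, hn'⟩ : ∃ n, D.n = n := ⟨_, rfl⟩
    obtain ⟨m, hm'⟩ : ∃ m : ℤ, (D.m : ℤ) = m := ⟨_, rfl⟩
    rw [hn'] at h2 hsm hexc
    rw [hm'] at h2 hm
    simp only [List.mem_cons, List.not_mem_nil, or_false, Prod.mk.injEq] at hsm
    have h25 : n = 73 → g = 5 → False := fun h1 h2 => hexc (Or.inl ⟨h1, h2⟩)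
    have h28 : n = 73 → g = 8 → False := fun h1 h2 => hexc (Or.inr (Or.inl ⟨h1, h2⟩))
    have h22 : n = 19 → g = 2 → False := fun h1 h2 => hexc (Or.inr (Or.inr ⟨h1, h2⟩))
    rcases hsm with ⟨h3, -, -, h4⟩ | ⟨h3, -, -, h4⟩ | ⟨h3, -, -, h4⟩ | ⟨h3, -, -, h4⟩ | ⟨h3, -, -, h4⟩ |
      ⟨h3, -, -, h4⟩ | ⟨h3, -, -, h4⟩ | ⟨h3, -, -, h4⟩ | ⟨h3, -, -, h4⟩ | ⟨h3, -, -, h4⟩ | ⟨h3, -, -, h4⟩ |
      ⟨h3, -, -, h4⟩ |
        ⟨h3, -, -, h4⟩ | ⟨h3, -, -, h4⟩ <;> rw [h3] at hm hgq <;> norm_num at hm <;> subst hm <;> subst h4 <;> clear hn hexc hdead h1 <;>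
      rcases hB with rfl | rfl <;>
      interval_cases g <;> [(norm_num only [] at h2); (norm_num only [] at h2); (norm_num only [] at h2); exact h25 rfl rfl; (norm_num only [] at h2); (norm_num only [] at h2);
                            exact h28 rfl rfl; (norm_num only [] at h2); (norm_num only [] at h2); (norm_num only [] at h2); exact h25 rfl rfl; (norm_num only [] at h2);
                            (norm_num only [] at h2); exact h28 rfl rfl; exact h22 rfl rfl; (norm_num only [] at h2); (norm_num only [] at h2); (norm_num only [] at h2);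
                            (norm_num only [] at h2); (norm_num only [] at h2); (norm_num only [] at h2); exact h22 rfl rfl; (norm_num only [] at h2); (norm_num only [] at h2);
                            (norm_num only [] at h2); (norm_num only [] at h2); (norm_num only [] at h2); (norm_num only [] at h2); (norm_num only [] at h2);
                            (norm_num only [] at h2); (norm_num only [] at h2); (norm_num only [] at h2); (norm_num only [] at h2); (norm_num only [] at h2);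
                            (norm_num only [] at h2); (norm_num only [] at h2); (norm_num only [] at h2); (norm_num only [] at h2); (norm_num only [] at h2);
                            (norm_num only [] at h2); (norm_num only [] at h2); (norm_num only [] at h2); (norm_num only [] at h2); (norm_num only [] at h2);
                            (norm_num only [] at h2); (norm_num only [] at h2); (norm_num only [] at h2); (norm_num only [] at h2); (norm_num only [] at h2);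
                            (norm_num only [] at h2); (norm_num only [] at h2); (norm_num only [] at h2); (norm_num only [] at h2); (norm_num only [] at h2);
                            (norm_num only [] at h2); (norm_num only [] at h2); (norm_num only [] at h2); (norm_num only [] at h2); (norm_num only [] at h2);
                            (norm_num only [] at h2); (norm_num only [] at h2); (norm_num only [] at h2); (norm_num only [] at h2); (norm_num only [] at h2);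
                            (norm_num only [] at h2); (norm_num only [] at h2); (norm_num only [] at h2); (norm_num only [] at h2); (norm_num only [] at h2);
                            (norm_num only [] at h2); (norm_num only [] at h2); (norm_num only [] at h2); (norm_num only [] at h2); (norm_num only [] at h2);
                            (norm_num only [] at h2); (norm_num only [] at h2); (norm_num only [] at h2); (norm_num only [] at h2); (norm_num only [] at h2);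
                            (norm_num only [] at h2); (norm_num only [] at h2); (norm_num only [] at h2); (norm_num only [] at h2); (norm_num only [] at h2);
                            (norm_num only [] at h2); (norm_num only [] at h2); (norm_num only [] at h2); (norm_num only [] at h2); (norm_num only [] at h2);
                            (norm_num only [] at h2); (norm_num only [] at h2); (norm_num only [] at h2); (norm_num only [] at h2); (norm_num only [] at h2);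
                            (norm_num only [] at h2); (norm_num only [] at h2); (norm_num only [] at h2); (norm_num only [] at h2); (norm_num only [] at h2);
                            (norm_num only [] at h2)]
  · -- `g ≥ 9`
    have h3 : u ^ k ≤ D.n * g * (u + 1) + 1 := by omega
    have h4 : D.n ≤ (u + 1) ^ 6 + (u + 1) ^ 3 + 1 := hn.trans (by
      have : D.q ≤ u + 1 := hgq.trans hgu'
      gcongr)
    have h5 : D.n * g * (u + 1) ≤ ((u + 1) ^ 6 + (u + 1) ^ 3 + 1) * (u + 1) * (u + 1) := by gcongr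
    have h6 : u ^ 9 ≤ u ^ k := Nat.pow_le_pow_right (by omega) (by omega)
    have hu8 : 8 ≤ u := by omega
    obtain ⟨v, rfl⟩ : ∃ v, u = v + 8 := ⟨u - 8, by omega⟩
    have h7 : ((v + 8 + 1) ^ 6 + (v + 8 + 1) ^ 3 + 1) * (v + 8 + 1) * (v + 8 + 1) + 1 < (v + 8) ^ 9 := by
      have e1 : ((v + 8 + 1) ^ 6 + (v + 8 + 1) ^ 3 + 1) * (v + 8 + 1) * (v + 8 + 1) + 1 =
        v^8 + 72*v^7 + 2268*v^6 + 40825*v^5 + 459315*v^4 + 3307554*v^3 + 14887639*v^2 + 38296575*v + 43105852 := by ring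
      have e2 : (v + 8) ^ 9 = v^9 + 72*v^8 + 2304*v^7 + 43008*v^6 + 516096*v^5 + 4128768*v^4 + 22020096*v^3 +
        75497472*v^2 + 150994944*v + 134217728 := by ring
      rw [e1, e2]
      have := Nat.zero_le (v ^ 9)
      omega
    omega

/-- the numbers, second case -/
theorem uni_dead_two {u k : ℕ} {B : ℤ} (hu : 2 ≤ u) (hk : 4 ≤ k) (hk' : u + 1 ∣ k)
    (h1 : D.n * (u + 1) = u ^ (k - 1) + 1 ∨ D.n * (u + 1) + 1 = u ^ (k - 1)) (hB : B = 1 ∨ B = -1)
    (h2 : (D.m : ℤ) ∣ u * D.n + B) : False := by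
  have hqu : D.q ≤ u := by
    by_contra hcon
    exact dead_one (D := D) (A := u) (B := B) (by exact_mod_cast (by omega : 0 < u)) hB
      (Or.inr (by exact_mod_cast (by omega : u + 1 ≤ D.q))) h2
  have hn := n_le (D := D)
  have h3 : u ^ (k - 1) ≤ D.n * (u + 1) + 1 := by omega
  have hk8 : k ≤ 8 := by
    by_contra hcon
    have h5 : u ^ 8 ≤ u ^ (k - 1) := Nat.pow_le_pow_right (by omega) (by omega)
    have h6 : D.n ≤ u ^ 6 + u ^ 3 + 1 := hn.trans (by gcongr)
    have h7 : D.n * (u + 1) ≤ (u ^ 6 + u ^ 3 + 1) * (u + 1) := Nat.mul_le_mul_right _ h6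
    obtain ⟨v, rfl⟩ : ∃ v, u = v + 2 := ⟨u - 2, by omega⟩
    have h8 : ((v + 2) ^ 6 + (v + 2) ^ 3 + 1) * (v + 2 + 1) + 1 < (v + 2) ^ 8 := by
      have e1 : ((v + 2) ^ 6 + (v + 2) ^ 3 + 1) * (v + 2 + 1) + 1 =
        v^7 + 15*v^6 + 96*v^5 + 341*v^4 + 729*v^3 + 942*v^2 + 685*v + 220 := by ring
      have e2 : (v + 2) ^ 8 = v^8 + 16*v^7 + 112*v^6 + 448*v^5 + 1120*v^4 + 1792*v^3 + 1792*v^2 + 1024*v + 256 := by
        ring
      rw [e1, e2]
      have := Nat.zero_le (v ^ 8)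
      (clear * -; omega)
    omega
  have hu7 : u ≤ 7 := by
    have := Nat.le_of_dvd (by omega) hk'
    omega
  have hsm := small D (by omega)
  obtain ⟨n, hn'⟩ : ∃ n, D.n = n := ⟨_, rfl⟩
  rw [hn'] at hsm h1
  simp only [List.mem_cons, List.not_mem_nil, or_false, Prod.mk.injEq] at hsm
  have key : ∀ n ∈ [73, 19, 757, 703, 1387, 4033, 15751, 5167, 39331, 117307, 262657, 87211, 532171, 530713],
    ∀ u ∈ [2, 3, 4, 5, 6, 7], ∀ k ∈ [4, 5, 6, 7, 8], (n * (u + 1) = u ^ (k - 1) + 1 ∨ n * (u + 1) + 1 = u ^ (k - 1)) →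
      ¬ u + 1 ∣ k := by
    decide +kernel
  have hnm : n ∈ [73, 19, 757, 703, 1387, 4033, 15751, 5167, 39331, 117307, 262657, 87211, 532171, 530713] := by
    rcases hsm with ⟨-, -, -, h4⟩ | ⟨-, -, -, h4⟩ | ⟨-, -, -, h4⟩ | ⟨-, -, -, h4⟩ | ⟨-, -, -, h4⟩ |
      ⟨-, -, -, h4⟩ | ⟨-, -, -, h4⟩ | ⟨-, -, -, h4⟩ | ⟨-, -, -, h4⟩ | ⟨-, -, -, h4⟩ | ⟨-, -, -, h4⟩ |
      ⟨-, -, -, h4⟩ |
        ⟨-, -, -, h4⟩ | ⟨-, -, -, h4⟩ <;> rw [h4] <;> decide
  refine key n hnm u ?_ k ?_ h1 hk'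
  · clear key hnm h1 h2 h3 hk'
    interval_cases u <;> decide
  · clear key hnm h1 h2 h3 hk'
    interval_cases k <;> decide

end num

section row

variable {D : Dat} {F : Type*} [Field F] [Fintype F] {k u : ℕ}

/-- `PSU_3(u)`: the primes `≥ 5` of `u + 1` are adjacent to `2` -/
theorem adj_two_three (hF : Fintype.card F = u ^ 2) {t : ℕ} (ht : t.Prime) (ht5 : 5 ≤ t) (hd : t ∣ u + 1) :
    Adj (PSU 3 F u) t 2 := by
  obtain ⟨T⟩ := exists_tor hF (m := 2) (by omega)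
  have hd2 : t ∣ u ^ 2 - 1 := by
    rw [sq_sub_one u (by have := LieClassical.HermBasic.two_le hF; omega)]
    exact hd.mul_right _
  obtain ⟨c, hc, hc1⟩ := exists_unit_order hF hd2
  have hcq : c ^ (u + 1) = 1 := by
    obtain ⟨b, hb⟩ := hd
    rw [hb, pow_mul, hc1, one_pow]
  obtain ⟨z, hz⟩ := T.scal c hcq
  refine adj_two_of_scal_ext hF T le_rfl ht (by omega) hz ?_ ?_
  · rintro ⟨d, hd'⟩
    obtain ⟨x, hx⟩ := exists_ne_zero (by norm_num) T
    have h3 := hd' (x, 1)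
    have h4 : T.ρ z x = d • x := congrArg Prod.fst h3
    have h5 : ((LinearMap.det (T.ρ z))⁻¹ • (1 : Module.End F F)) 1 = d • (1 : F) := congrArg Prod.snd h3
    rw [LinearMap.smul_apply, Module.End.one_apply, smul_eq_mul, smul_eq_mul, mul_one, mul_one, hz,
      LinearMap.det_smul, map_one, mul_one, T.dim] at h5
    rw [hz, LinearMap.smul_apply, Module.End.one_apply] at h4
    have h6 : c = d := by
      have h7 : (c - d) • x = 0 := by rw [sub_smul, h4, sub_self]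
      rcases smul_eq_zero.1 h7 with h8 | h8
      · exact sub_eq_zero.1 h8
      · exact absurd h8 hx
    rw [← h6] at h5
    have hc0 : c ≠ 0 := by
      rintro rfl
      rw [zero_pow (by omega)] at hcq
      exact zero_ne_one hcq
    have h9 : c ^ (2 + 1) = 1 := by
      have : c ^ 2 * (c ^ 2)⁻¹ = 1 := mul_inv_cancel₀ (pow_ne_zero _ hc0)
      rw [h5] at this
      rw [pow_succ]; exact this
    have h10 : t ∣ 2 + 1 := by
      rw [← hc]
      exact orderOf_dvd_of_pow_eq_one h9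
    have := Nat.le_of_dvd (by norm_num) h10
    omega
  · rw [ext_pow]
    have : z ^ t = 1 := by
      apply T.inj
      rw [map_pow, hz, map_one, smul_pow, one_pow, hc1, one_smul]
    rw [this, ext_one]
    exact isScal_one

/-- **Row `PSU_k(u)`.** -/
theorem row_psu (hF : Fintype.card F = u ^ 2) (hk : 3 ≤ k) (hne : ¬ (k = 3 ∧ u = 2)) (h : Sit D (PSU k F u)) :
    False := by
  have hu2 : 2 ≤ u := LieClassical.HermBasic.two_le hF
  have hfin : Finite (PSU k F u) := inferInstance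
  have hrow := psu_row hF hk hne (isoN h)
  have ht2 : ∀ {t : ℕ}, t.Prime → t ∣ D.m → t ≠ 2 := fun {t} ht htm => by
    have := D.prime_m_ge ht htm
    omega
  -- the primes of `m`
  have c0 : ∀ t : ℕ, t.Prime → t ∣ D.m → ¬ t ∣ u := fun t ht htm hd =>
    h.not_adj_two_m htm (adj_two_of_char hF hk ht (ht2 ht htm) hd)
  have c2 : ∀ t i : ℕ, t.Prime → t ∣ D.m → 4 ≤ k → i < k - 2 → ¬ t ∣ ph u i := fun t i ht htm hk4 hi hd =>
    h.not_adj_two_m htm (adj_two_of_lt hF hk4 ht (ht2 ht htm) hi hd)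
  have c1 : ∀ t : ℕ, t.Prime → t ∣ D.m → ¬ t ∣ u + 1 := by
    intro t ht htm hd
    rcases Nat.lt_or_ge k 4 with hk4 | hk4
    · obtain rfl : k = 3 := by omega
      exact h.not_adj_two_m htm (adj_two_three hF ht (by have := D.prime_m_ge ht htm; omega) hd)
    · exact c2 t 0 ht htm hk4 (by omega) (by rw [ph_zero]; exact hd)
  -- Lagrange
  have hred : D.m ∣ ph u (k - 2) * ph u (k - 1) := by
    have h1 : D.m ∣ Nat.card (SU k F u) := h.m_dvd_card.trans (Subgroup.card_quotient_dvd_card _)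
    rw [card_SU hF (by omega)] at h1
    have h2 := dvd_of_primes h1 fun r hr hrk hd => c0 r hr hrk (hr.dvd_of_dvd_pow hd)
    obtain ⟨t, rfl⟩ : ∃ t, k = t + 3 := ⟨k - 3, by omega⟩
    have e : t + 3 - 1 = t + 1 + 1 := by omega
    rw [e, Finset.prod_range_succ, Finset.prod_range_succ, mul_assoc] at h2
    have e2 : t + 3 - 2 = t + 1 := by omega
    rw [e, e2]
    refine dvd_of_primes h2 fun r hr hrk => not_dvd_prod (fun i hi => ?_) hr
    rw [Finset.mem_range] at hi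
    exact c2 r (i + 1) hr hrk (by omega) (by omega)
  have hg0 : 0 < Nat.gcd k (u + 1) := Nat.gcd_pos_of_pos_left _ (by omega)
  have hgu : Nat.gcd k (u + 1) ∣ u + 1 := Nat.gcd_dvd_right _ _
  have hco : IsCoprime (D.m : ℤ) ((u : ℤ) + 1) := by
    have h1 : Nat.Coprime D.m (u + 1) := coprime_m c1
    have h2 := Nat.isCoprime_iff_coprime.2 h1
    rwa [Nat.cast_add, Nat.cast_one] at h2
  have e1 : (u : ℤ) ^ k = u * (u : ℤ) ^ (k - 1) := by rw [← pow_succ', Nat.sub_add_cancel (by omega)]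
  have p1 := ph_cast (q := u) (by omega) (k - 1)
  have p2 := ph_cast (q := u) (by omega) (k - 2)
  rw [show k - 1 + 1 = k by omega] at p1
  rw [show k - 2 + 1 = k - 1 by omega] at p2
  have hs : (-1 : ℤ) ^ k = - (-1) ^ (k - 1) := by
    obtain ⟨j, rfl⟩ : ∃ j, k = j + 1 := ⟨k - 1, by omega⟩
    rw [pow_succ, Nat.add_sub_cancel]
    ring
  have hphn : ∀ i, ph u i = u ^ (i + 1) + 1 ∨ ph u i + 1 = u ^ (i + 1) := fun i => by
    unfold ph
    have : 1 ≤ u ^ (i + 1) := Nat.one_le_pow _ _ (by omega)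
    split_ifs
    · exact Or.inl rfl
    · right; omega
  have hsgn : ∀ j : ℕ, (-1 : ℤ) ^ j = 1 ∨ (-1 : ℤ) ^ j = -1 := fun j => neg_one_pow_eq_or ℤ j
  rcases hrow with ⟨h1, -⟩ | ⟨hk4, hd, h1, -⟩ | ⟨-, -, h1⟩ | ⟨-, -, h1⟩
  · -- first case
    have h3 : D.m ∣ ph u (k - 2) := by
      rw [mul_comm] at hred
      refine dvd_of_primes hred fun t ht htm => ?_
      rw [← h1]
      exact not_mul ht (not_mul ht (not_dvd_n ht htm) fun h4 => c1 t ht htm (h4.trans hgu)) (c1 t ht htm)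
    refine uni_dead_one (D := D) (B := (-1) ^ k) hu2 hk hg0 (Nat.gcd_dvd_left _ _) hgu ?_ (hsgn k) ?_
    · have := hphn (k - 1)
      rw [← h1, show k - 1 + 1 = k by omega] at this
      exact this
    have h4 : (D.m : ℤ) ∣ (u : ℤ) ^ (k - 1) - (-1) ^ (k - 1) := by
      rw [← p2]
      exact Int.natCast_dvd_natCast.2 h3
    have h5 : (D.n : ℤ) * (Nat.gcd k (u + 1) : ℤ) * ((u : ℤ) + 1) = (u : ℤ) ^ k - (-1) ^ k := by
      rw [← p1, ← h1]
      push_cast
      ring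
    apply hco.dvd_of_dvd_mul_left
    have h6 : ((u : ℤ) + 1) * ((Nat.gcd k (u + 1) : ℤ) * D.n + (-1) ^ k) =
        u * ((u : ℤ) ^ (k - 1) - (-1) ^ (k - 1)) := by
      rw [hs] at h5 ⊢
      linear_combination h5 + e1
    rw [h6]
    exact Dvd.dvd.mul_left h4 _
  · -- second case
    have h3 : D.m ∣ ph u (k - 1) := by
      refine dvd_of_primes hred fun t ht htm => ?_
      rw [← h1]
      exact not_mul ht (not_dvd_n ht htm) (c1 t ht htm)
    refine uni_dead_two (D := D) (B := - (-1) ^ k) hu2 hk4 hd ?_ ?_ ?_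
    · have := hphn (k - 2)
      rw [← h1, show k - 2 + 1 = k - 1 by omega] at this
      exact this
    · rcases hsgn k with h | h <;> rw [h] <;> norm_num
    have h4 : (D.m : ℤ) ∣ (u : ℤ) ^ k - (-1) ^ k := by
      rw [← p1]
      exact Int.natCast_dvd_natCast.2 h3
    have h5 : (D.n : ℤ) * ((u : ℤ) + 1) = (u : ℤ) ^ (k - 1) - (-1) ^ (k - 1) := by
      rw [← p2, ← h1]
      push_cast
      ring
    apply hco.dvd_of_dvd_mul_left
    have h6 : ((u : ℤ) + 1) * ((u : ℤ) * D.n + - (-1) ^ k) = (u : ℤ) ^ k - (-1) ^ k := by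
      rw [hs]
      linear_combination (u : ℤ) * h5 - e1
    rwa [h6]
  · have h2 := D.prime_n (s := 5) (by norm_num) (by rw [h1]; norm_num)
    norm_num at h2
  · have h2 := D.prime_n (s := 7) (by norm_num) (by rw [h1]; norm_num)
    norm_num at h2

end row

end Cfsg.Agent.R2.Spec.X1.E6.I9
end

-- part: R2/Spec/X1/E6/ERG2
section
/-!
# Identification of `E₆(q)`, `²E₆(q)`: the row of `G₂(u)` (helper77, statements S3480, S3481)
-/

set_option autoImplicit false
set_option linter.unusedSectionVars false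

namespace Cfsg.Agent.R2.Spec.X1.E6.ERG2

open Cfsg Cfsg.Lie
open Cfsg.Agent.R2.Spec.X1.E6 Cfsg.Agent.H129.CycT Cfsg.Agent.R2.Spec.X1.E6.ERBase
open Cfsg.Agent.H134.TD (TorAt torAt_of_exact tor_G2_3 tor_G2_6)
open Cfsg.Agent.H378.ExcAdj Cfsg.Agent.H378.CycTab

universe u

theorem fin {d v x ε δ : ℤ} (hd : 1 ≤ d) (hv : 2 ≤ v) (hε : ε = 1 ∨ ε = -1) (hδ : δ = 1 ∨ δ = -1) (hx : 0 < x)
    (h2 : ε * x + -(2 * δ * v) * d = 0) (hdn : d * (v ^ 2 + δ * v + 1) = x ^ 2 + ε * x + 1) : False := by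
  have h5 : 0 < d * v := by positivity
  have h6 : v ^ 2 ≤ d * v ^ 2 := by nlinarith only [hd, sq_nonneg v]
  have h7 : d * v ^ 2 ≤ d * (d * v ^ 2) := by nlinarith only [hd, h6]
  have h8 : 2 * (d * v) ≤ d * v ^ 2 := by nlinarith only [hv, h5]
  have h9 : d ≤ d * v := by nlinarith only [hd, hv]
  rcases hε with rfl | rfl <;> rcases hδ with rfl | rfl
  · obtain rfl : x = 2 * (d * v) := by linarith
    linarith only [h5, h7, h8, h9, hdn]
  · linarith
  · linarith
  · obtain rfl : x = 2 * (d * v) := by linarith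
    linarith only [h5, h7, h8, h9, hdn]

/-- the two numbers of `G₂(v)` -/
theorem num {D : Dat} {v : ℕ} (hv : 2 ≤ v) {δ : ℤ} (hδ : δ = 1 ∨ δ = -1) (hn : (D.n : ℤ) = (v : ℤ) ^ 2 + δ * v + 1)
    (hm : (D.m : ℤ) ∣ (v : ℤ) ^ 2 - δ * v + 1) : D.q = 2 ∧ D.ε = 1 ∧ v = 9 := by
  have hv' : (2 : ℤ) ≤ v := by exact_mod_cast hv
  have hδ2 : δ * δ = 1 := by rcases hδ with h | h <;> rw [h] <;> norm_num
  by_cases hq : D.q < 5
  · have hlt : v < 65 := by
      have : D.n ≤ 4033 := by rcases tab D (by omega) with h | h | h | h | h | h | h | h | h | h <;> omega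
      have h1 : (D.n : ℤ) ≤ 4033 := by exact_mod_cast this
      by_contra hc
      have h2 : (65 : ℤ) ≤ v := by exact_mod_cast (not_lt.1 hc)
      rcases hδ with h | h <;> rw [h] at hn <;> nlinarith only [hn, this, hc]
    rcases tab D (by omega) with h | h | h | h | h | h | h | h | h | h
    map_tacs [(
      obtain ⟨h1, h2, h3, h4, h5, h6⟩ := h
      rw [h4] at hn
      rw [h5] at hm
      rcases hδ with h | h <;> rw [h] at hn hm <;> interval_cases v <;>
        [(exfalso; revert hn; norm_num; done); (exfalso; revert hn; norm_num; done); (exfalso; revert hn; norm_num; done); (exfalso; revert hn; norm_num; done);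
         (exfalso; revert hn; norm_num; done); (exfalso; revert hn; norm_num; done); (exfalso; revert hm; norm_num; done); exact ⟨h1, h2, rfl⟩;
         (exfalso; revert hn; norm_num; done); (exfalso; revert hn; norm_num; done); (exfalso; revert hn; norm_num; done); (exfalso; revert hn; norm_num; done);
         (exfalso; revert hn; norm_num; done); (exfalso; revert hn; norm_num; done); (exfalso; revert hn; norm_num; done); (exfalso; revert hn; norm_num; done);
         (exfalso; revert hn; norm_num; done); (exfalso; revert hn; norm_num; done); (exfalso; revert hn; norm_num; done); (exfalso; revert hn; norm_num; done);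
         (exfalso; revert hn; norm_num; done); (exfalso; revert hn; norm_num; done); (exfalso; revert hn; norm_num; done); (exfalso; revert hn; norm_num; done);
         (exfalso; revert hn; norm_num; done); (exfalso; revert hn; norm_num; done); (exfalso; revert hn; norm_num; done); (exfalso; revert hn; norm_num; done);
         (exfalso; revert hn; norm_num; done); (exfalso; revert hn; norm_num; done); (exfalso; revert hn; norm_num; done); (exfalso; revert hn; norm_num; done);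
         (exfalso; revert hn; norm_num; done); (exfalso; revert hn; norm_num; done); (exfalso; revert hn; norm_num; done); (exfalso; revert hn; norm_num; done);
         (exfalso; revert hn; norm_num; done); (exfalso; revert hn; norm_num; done); (exfalso; revert hn; norm_num; done); (exfalso; revert hn; norm_num; done);
         (exfalso; revert hn; norm_num; done); (exfalso; revert hn; norm_num; done); (exfalso; revert hn; norm_num; done); (exfalso; revert hn; norm_num; done);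
         (exfalso; revert hn; norm_num; done); (exfalso; revert hn; norm_num; done); (exfalso; revert hn; norm_num; done); (exfalso; revert hn; norm_num; done);
         (exfalso; revert hn; norm_num; done); (exfalso; revert hn; norm_num; done); (exfalso; revert hn; norm_num; done); (exfalso; revert hn; norm_num; done);
         (exfalso; revert hn; norm_num; done); (exfalso; revert hn; norm_num; done); (exfalso; revert hn; norm_num; done); (exfalso; revert hn; norm_num; done);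
         (exfalso; revert hn; norm_num; done); (exfalso; revert hn; norm_num; done); (exfalso; revert hn; norm_num; done); (exfalso; revert hn; norm_num; done);
         (exfalso; revert hn; norm_num; done); (exfalso; revert hn; norm_num; done); (exfalso; revert hn; norm_num; done); (exfalso; revert hn; norm_num; done);
         (exfalso; revert hn; norm_num; done); (exfalso; revert hn; norm_num; done); (exfalso; revert hn; norm_num; done); (exfalso; revert hn; norm_num; done);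
         (exfalso; revert hn; norm_num; done); (exfalso; revert hn; norm_num; done); exact ⟨h1, h2, rfl⟩; (exfalso; revert hn; norm_num; done);
         (exfalso; revert hn; norm_num; done); (exfalso; revert hn; norm_num; done); (exfalso; revert hn; norm_num; done); (exfalso; revert hn; norm_num; done);
         (exfalso; revert hn; norm_num; done); (exfalso; revert hn; norm_num; done); (exfalso; revert hn; norm_num; done); (exfalso; revert hn; norm_num; done);
         (exfalso; revert hn; norm_num; done); (exfalso; revert hn; norm_num; done); (exfalso; revert hn; norm_num; done); (exfalso; revert hn; norm_num; done);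
         (exfalso; revert hn; norm_num; done); (exfalso; revert hn; norm_num; done); (exfalso; revert hn; norm_num; done); (exfalso; revert hn; norm_num; done);
         (exfalso; revert hn; norm_num; done); (exfalso; revert hn; norm_num; done); (exfalso; revert hn; norm_num; done); (exfalso; revert hn; norm_num; done);
         (exfalso; revert hn; norm_num; done); (exfalso; revert hn; norm_num; done); (exfalso; revert hn; norm_num; done); (exfalso; revert hn; norm_num; done);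
         (exfalso; revert hn; norm_num; done); (exfalso; revert hn; norm_num; done); (exfalso; revert hn; norm_num; done); (exfalso; revert hn; norm_num; done);
         (exfalso; revert hn; norm_num; done); (exfalso; revert hn; norm_num; done); (exfalso; revert hn; norm_num; done); (exfalso; revert hn; norm_num; done);
         (exfalso; revert hn; norm_num; done); (exfalso; revert hn; norm_num; done); (exfalso; revert hn; norm_num; done); (exfalso; revert hn; norm_num; done);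
         (exfalso; revert hn; norm_num; done); (exfalso; revert hn; norm_num; done); (exfalso; revert hn; norm_num; done); (exfalso; revert hn; norm_num; done);
         (exfalso; revert hn; norm_num; done); (exfalso; revert hn; norm_num; done); (exfalso; revert hn; norm_num; done); (exfalso; revert hn; norm_num; done);
         (exfalso; revert hn; norm_num; done); (exfalso; revert hn; norm_num; done); (exfalso; revert hn; norm_num; done); (exfalso; revert hn; norm_num; done);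
         (exfalso; revert hn; norm_num; done); (exfalso; revert hn; norm_num; done); (exfalso; revert hn; norm_num; done); (exfalso; revert hn; norm_num; done);
         (exfalso; revert hn; norm_num; done); (exfalso; revert hn; norm_num; done)]);
     (
      obtain ⟨h1, h2, h3, h4, h5, h6⟩ := h
      rw [h4] at hn
      rw [h5] at hm
      rcases hδ with h | h <;> rw [h] at hn hm <;> interval_cases v <;>
        ((exfalso; revert hn; norm_num; done)));
     (
      obtain ⟨h1, h2, h3, h4, h5, h6⟩ := h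
      rw [h4] at hn
      rw [h5] at hm
      rcases hδ with h | h <;> rw [h] at hn hm <;> interval_cases v <;>
        first
          | fail
          | (exfalso; revert hn; norm_num; done)
          | (exfalso; revert hm; norm_num; done));
     (
      obtain ⟨h1, h2, h3, h4, h5, h6⟩ := h
      rw [h4] at hn
      rw [h5] at hm
      rcases hδ with h | h <;> rw [h] at hn hm <;> interval_cases v <;>
        first
          | fail
          | (exfalso; revert hn; norm_num; done)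
          | (exfalso; revert hm; norm_num; done));
     (
      obtain ⟨h1, h2, h3, h4, h5, h6⟩ := h
      rw [h4] at hn
      rw [h5] at hm
      rcases hδ with h | h <;> rw [h] at hn hm <;> interval_cases v <;>
        ((exfalso; revert hn; norm_num; done)));
     (
      obtain ⟨h1, h2, h3, h4, h5, h6⟩ := h
      rw [h4] at hn
      rw [h5] at hm
      rcases hδ with h | h <;> rw [h] at hn hm <;> interval_cases v <;>
        first
          | fail
          | (exfalso; revert hn; norm_num; done)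
          | (exfalso; revert hm; norm_num; done));
     (
      obtain ⟨h1, h2, h3, h4, h5, h6⟩ := h
      rw [h4] at hn
      rw [h5] at hm
      rcases hδ with h | h <;> rw [h] at hn hm <;> interval_cases v <;>
        ((exfalso; revert hn; norm_num; done)));
     (
      obtain ⟨h1, h2, h3, h4, h5, h6⟩ := h
      rw [h4] at hn
      rw [h5] at hm
      rcases hδ with h | h <;> rw [h] at hn hm <;> interval_cases v <;>
        ((exfalso; revert hn; norm_num; done)));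
     (
      obtain ⟨h1, h2, h3, h4, h5, h6⟩ := h
      rw [h4] at hn
      rw [h5] at hm
      rcases hδ with h | h <;> rw [h] at hn hm <;> interval_cases v <;>
        ((exfalso; revert hn; norm_num; done)));
     (
      obtain ⟨h1, h2, h3, h4, h5, h6⟩ := h
      rw [h4] at hn
      rw [h5] at hm
      rcases hδ with h | h <;> rw [h] at hn hm <;> interval_cases v <;>
        ((exfalso; revert hn; norm_num; done)))]
  · exfalso
    push Not at hq
    have hq' : (5 : ℤ) ≤ D.q := by exact_mod_cast hq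
    have hd1 : (1 : ℤ) ≤ D.d := by exact_mod_cast D.d_pos
    have hd3 : (D.d : ℤ) ≤ 3 := by exact_mod_cast (show D.d ≤ 3 by rcases D.hd with h | h <;> omega)
    have h1 : (D.m : ℤ) ∣ 1 * D.n + (-(2 * δ * v)) := by
      have : 1 * (D.n : ℤ) + (-(2 * δ * v)) = (v : ℤ) ^ 2 - δ * v + 1 := by rw [hn]; ring
      rw [this]
      exact hm
    obtain ⟨x, hx⟩ : ∃ x : ℤ, x = (D.q : ℤ) ^ 3 := ⟨_, rfl⟩
    have hx125 : 25 * (D.q : ℤ) ≤ x := by rw [hx]; nlinarith only [hq, mul_self_nonneg ((D.q : ℤ) - 5)]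
    have hdn : (D.d : ℤ) * ((v : ℤ) ^ 2 + δ * v + 1) = x ^ 2 + D.ε * x + 1 := by
      rw [← hn, D.hn, hx]; ring
    -- `d v ≤ (7/4) x`
    have hdv : 4 * ((D.d : ℤ) * v) ≤ 7 * x + 4 := by
      by_contra hc
      push Not at hc
      have h2 : D.ε * x ≤ x := by rcases D.eps with h | h <;> rw [h] <;> linarith only [hx125]
      have h3 : -(D.d : ℤ) * v ≤ D.d * (δ * v) := by rcases hδ with h | h <;> rw [h] <;> linarith only [hx125, hc]
      have h4 : (7 * x + 4) * (7 * x + 4) < (4 * ((D.d : ℤ) * v)) * (4 * (D.d * v)) := by nlinarith only [hx125, hc]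
      have h5 : (D.d : ℤ) * v ^ 2 - D.d * v + D.d ≤ x ^ 2 + x + 1 := by linarith only [hdn, h2, h3]
      have h6 : (D.d : ℤ) * (D.d * v ^ 2) ≤ 3 * (D.d * v ^ 2) := by nlinarith only [hd1, hd3, _root_.mul_self_nonneg (4 * (↑D.d * ↑v) : ℤ), _root_.Nat.cast_nonneg (α := ℤ) (D.d)]
      nlinarith only [hq, hd3, hx125, hdn, hc, h2, h3]
    have hmx : (D.m : ℤ) = D.q * x - D.q ^ 2 + 1 := by rw [D.hm, hx]; ring
    have h2 := D.kill h1 (by
      rw [abs_neg, abs_one, one_mul, ← hx]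
      have h3 : |2 * δ * (v : ℤ)| = 2 * v := by
        rcases hδ with h | h <;> rw [h]
        · rw [abs_of_nonneg (by linarith only [hv])]; ring
        · rw [abs_of_nonpos (by linarith only [hv])]; ring
      rw [h3, hmx]
      nlinarith only [hq, hx125, hdv])
    rw [one_mul, ← hx] at h2
    exact fin hd1 hv' D.eps hδ (by linarith only [hq, hx125]) h2 hdn

/-- **`G₂(u)`** -/
theorem row_G2 {D : Dat} {F : Type u} [Field F] [Fintype F] (h : Sit D ↥(chevG2.group F)) : False := by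
  obtain ⟨v, hv⟩ : ∃ v, Fintype.card F = v := ⟨_, rfl⟩
  have hv' : Nat.card F = v := by rw [Nat.card_eq_fintype_card, hv]
  have hv2 : 2 ≤ v := by rw [← hv]; exact Fintype.one_lt_card
  have hle : v ≤ v ^ 2 := Nat.le_self_pow (by norm_num) _
  have hN3 : ((v ^ 2 + v + 1 : ℕ) : ℤ) = 1 + (v : ℤ) + (v : ℤ) ^ 2 := by push_cast; ring
  have hN6 : ((v ^ 2 - v + 1 : ℕ) : ℤ) = 1 - (v : ℤ) + (v : ℤ) ^ 2 := by push_cast [Nat.cast_sub hle]; ring
  obtain ⟨t, ht, htm, -, htc⟩ := h.exists_prime_m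
  have hn := H72.F4I.g2_row hv (isoN h)
  have key : D.q = 2 ∧ D.ε = 1 ∧ v = 9 := by
    rcases ((adj_G2 F ht htc).resolve_left (ne_two htm)).resolve_left (h.not_adj_two_m htm) with h1 | h1
    · rw [hv'] at h1
      have h2 := dvd3 ht h1
      rw [pv3] at h2
      have h3 : t ∣ v ^ 2 + v + 1 := by exact_mod_cast h2
      obtain ⟨h4, -⟩ := torAt h (tor_G2_3 hv hN3 ht h3 (ne_three htm)) ht h3 htm
      have h5 : (D.m : ℤ) ∣ ((v ^ 2 + v + 1 : ℕ) : ℤ) := Int.natCast_dvd_natCast.2 h4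
      rcases hn with hn | hn
      · exact absurd (hn ▸ h3) (not_dvd_n ht htm)
      · refine num hv2 (δ := -1) (Or.inr rfl) ?_ ?_
        · zify at hn
          linear_combination hn
        · push_cast at h5
          convert h5 using 1
          ring
    · rw [hv'] at h1
      have h2 := dvd6 ht h1
      rw [pv6] at h2
      have h3 : t ∣ v ^ 2 - v + 1 := by
        have : (t : ℤ) ∣ ((v ^ 2 - v + 1 : ℕ) : ℤ) := by
          rw [hN6]
          have e : 1 - (v : ℤ) + (v : ℤ) ^ 2 = (v : ℤ) ^ 2 - v + 1 := by ring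
          rw [e]
          exact h2
        exact Int.natCast_dvd_natCast.1 this
      obtain ⟨h4, -⟩ := torAt h (tor_G2_6 hv hN6 ht h3 (ne_three htm)) ht h3 htm
      have h5 : (D.m : ℤ) ∣ ((v ^ 2 - v + 1 : ℕ) : ℤ) := Int.natCast_dvd_natCast.2 h4
      rw [hN6] at h5
      rcases hn with hn | hn
      · refine num hv2 (δ := 1) (Or.inl rfl) ?_ ?_
        · zify at hn
          linear_combination hn
        · convert h5 using 1
          ring
      · refine absurd ?_ (not_dvd_n ht htm)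
        have : D.n = v ^ 2 - v + 1 := by omega
        rw [this]
        exact h3
  obtain ⟨h1, -, rfl⟩ := key
  obtain ⟨x, hx⟩ := h.o8 (by rw [h1])
  rw [h1] at hx
  have h2 := orderOf_dvd_natCard x
  rw [hx, S1059.result hv] at h2
  revert h2
  norm_num

end Cfsg.Agent.R2.Spec.X1.E6.ERG2
end
end

-- part: R2/Spec/X1/E6/ERSz
section
prune_inst 0x12020441c40000000000004120000042000010000200001e840000008004302800001000c801002100c12801004000000100040004000000400300000020120802ac400f2990c00800011801005400000000000000000000000000000000004000000000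
set_option linter.all false
open scoped Cfsg.Agent.FastGrp

-- part: R2/Spec/X1/E6/ERF4
section
/-!
# Identification of `E₆(q)`, `²E₆(q)`: the rows of `F₄(u)`, `³D₄(u)` (helper77, statements S3480, S3481)
-/

set_option autoImplicit false
set_option linter.unusedSectionVars false

namespace Cfsg.Agent.R2.Spec.X1.E6.ERF4

open Cfsg Cfsg.Lie
open Cfsg.Agent.R2.Spec.X1.E6 Cfsg.Agent.H129 Cfsg.Agent.H129.CycT Cfsg.Agent.R2.Spec.X1.E6.ERBase
open Cfsg.Agent.H134.TD (TorAt torAt_of_exact tor_F4_8)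
open Cfsg.Agent.H378.ExcAdj Cfsg.Agent.H378.CycTab Cfsg.Agent.H72.F4I

universe u

/-- bound -/
theorem bound {d x y c : ℤ} (hd : 1 ≤ d) (hd3 : d ≤ 3) (hx : 64 ≤ x) (hc : c ≤ x) (hy : 0 ≤ y)
    (h : y ^ 2 - d * y ≤ d * (x ^ 2 + c + 1)) : 4 * y ≤ 7 * x + 12 := by
  by_contra hcon
  push Not at hcon
  have h1 : d * (x ^ 2 + c + 1) ≤ 3 * (x ^ 2 + x + 1) := by
    calc d * (x ^ 2 + c + 1) ≤ d * (x ^ 2 + x + 1) := mul_le_mul_of_nonneg_left (by linarith) (by linarith)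
      _ ≤ 3 * (x ^ 2 + x + 1) := mul_le_mul_of_nonneg_right hd3 (by positivity)
  have h2 : d * y ≤ 3 * y := by nlinarith only [hd3, hy]
  have h3 : (7 * x + 12) * (7 * x) < (4 * y) * (4 * y - 12) := by nlinarith only [hx, hcon]
  linarith only [hx, h, h1, h2, h3, _root_.sq_nonneg (x : ℤ)]

/-- the bound for `v² ∣ …` -/
theorem klt {D : Dat} (hq : 4 ≤ D.q) {y : ℤ} (hb : 4 * (D.d * y) ≤ 7 * (D.q : ℤ) ^ 3 + 12) :
    (D.q : ℤ) ^ 3 + y * D.d < D.m := by
  have hq' : (4 : ℤ) ≤ D.q := by exact_mod_cast hq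
  obtain ⟨x, hx⟩ : ∃ x : ℤ, x = (D.q : ℤ) ^ 3 := ⟨_, rfl⟩
  have hx16 : 16 * (D.q : ℤ) ≤ x := by rw [hx]; nlinarith only [hq, mul_self_nonneg ((D.q : ℤ) - 4)]
  have hxx : (D.q : ℤ) * D.q * 4 ≤ x := by rw [hx]; nlinarith only [hq, mul_self_nonneg (D.q : ℤ)]
  have hmx : (D.m : ℤ) = D.q * x - D.q ^ 2 + 1 := by rw [D.hm, hx]; ring
  rw [hmx, ← hx]
  rw [← hx] at hb
  nlinarith only [hq, hb, hxx]

theorem q64 {D : Dat} (hq : 4 ≤ D.q) : (64 : ℤ) ≤ (D.q : ℤ) ^ 3 := by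
  have h : 4 ^ 3 ≤ D.q ^ 3 := Nat.pow_le_pow_left hq 3
  exact_mod_cast h

theorem eps_le (D : Dat) {x : ℤ} (hx : 0 ≤ x) : D.ε * x ≤ x := by
  rcases D.eps with h | h <;> rw [h] <;> linarith only [hx]

theorem d_le (D : Dat) : (D.d : ℤ) ≤ 3 := by exact_mod_cast (show D.d ≤ 3 by rcases D.hd with h | h <;> omega)

theorem d_ge (D : Dat) : (1 : ℤ) ≤ D.d := by exact_mod_cast D.d_pos

/-- `n = v⁴ + 1` -/
theorem num8 {D : Dat} {v : ℕ} (hv : 2 ≤ v) (hn : D.n = v ^ 4 + 1)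
    (hm : (D.m : ℤ) ∣ (v : ℤ) ^ 4 - (v : ℤ) ^ 2 + 1) : False := by
  have hv' : (2 : ℤ) ≤ v := by exact_mod_cast hv
  have hnz : (D.n : ℤ) = (v : ℤ) ^ 4 + 1 := by exact_mod_cast hn
  by_cases hq : D.q < 4
  · have hlt : v < 6 := by
      have : D.n ≤ 757 := by rcases tab D (by omega) with h | h | h | h | h | h | h | h | h | h <;> omega
      by_contra hc
      have h2 : 6 ^ 4 ≤ v ^ 4 := Nat.pow_le_pow_left (not_lt.1 hc) 4
      omega
    rcases tab D (by omega) with h | h | h | h | h | h | h | h | h | h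
    all_goals
      obtain ⟨h1, h2, h3, h4, h5, h6⟩ := h
      first
        | (exfalso; omega)
        | (rw [h4] at hn
           interval_cases v <;> omega)
  · push Not at hq
    have hx := q64 hq
    have hdn := D.hn
    rw [hnz] at hdn
    have h1 : (D.m : ℤ) ∣ 1 * D.n + (-(v : ℤ) ^ 2) := by
      rw [hnz]
      have : 1 * ((v : ℤ) ^ 4 + 1) + -(v : ℤ) ^ 2 = (v : ℤ) ^ 4 - (v : ℤ) ^ 2 + 1 := by ring
      rw [this]
      exact hm
    have hb := bound (y := D.d * (v : ℤ) ^ 2) (c := D.ε * (D.q : ℤ) ^ 3) (d_ge D) (d_le D) hx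
      (eps_le D (by linarith only [hx])) (by positivity) (by
        have e : (D.q : ℤ) ^ 6 = ((D.q : ℤ) ^ 3) ^ 2 := by ring
        rw [e] at hdn
        rw [← hdn]
        have h3 : (0 : ℤ) ≤ D.d * (D.d * (v : ℤ) ^ 2) := by (clear * - hv; positivity)
        linarith only [h3, sq_nonneg (D.d : ℤ)])
    have h2 := D.kill h1 (by
      rw [abs_neg, abs_one, one_mul, abs_of_nonneg (by positivity : (0 : ℤ) ≤ (v : ℤ) ^ 2)]
      exact klt hq hb)
    rw [one_mul] at h2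
    have e : (D.q : ℤ) ^ 6 = (D.ε * (D.q : ℤ) ^ 3) ^ 2 := by
      have := D.eps_sq
      linear_combination (-(D.q : ℤ) ^ 6) * this
    have h3 : D.ε * (D.q : ℤ) ^ 3 = D.d * (v : ℤ) ^ 2 := by linear_combination h2
    rw [e, h3] at hdn
    have hd := d_ge D
    rcases D.hd with h | h <;> rw [h] at hdn <;> push_cast at hdn <;> nlinarith only [hv, hdn, sq_nonneg ((v : ℤ) ^ 2)]

/-- `n = v⁴ - v² + 1` -/
theorem num12 {D : Dat} {v : ℕ} (hv : 2 ≤ v) (hn : D.n + v ^ 2 = v ^ 4 + 1)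
    (hm : D.m ∣ v ^ 4 + 1) (he : v ^ 4 + 1 ∣ D.e) : False := by
  have hv' : (2 : ℤ) ≤ v := by exact_mod_cast hv
  have hnz : (D.n : ℤ) = (v : ℤ) ^ 4 - (v : ℤ) ^ 2 + 1 := by zify at hn; linear_combination hn
  by_cases hq : D.q < 4
  · have hlt : v < 6 := by
      have : D.n ≤ 757 := by rcases tab D (by omega) with h | h | h | h | h | h | h | h | h | h <;> (clear * - hn hnz h hq; omega)
      by_contra hc
      have h2 : 6 ≤ v := not_lt.1 hc
      have h3 : v ^ 4 = v ^ 2 * v ^ 2 := by ring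
      have h4 : 6 ^ 2 ≤ v ^ 2 := Nat.pow_le_pow_left h2 2
      nlinarith only [hn, this, h4]
    rcases tab D (by omega) with h | h | h | h | h | h | h | h | h | h
    all_goals
      obtain ⟨h1, h2, h3, h4, h5, h6⟩ := h
      first
        | (exfalso; omega)
        | (rw [h4] at hn
           rw [h5] at hm
           interval_cases v <;> omega)
  · push Not at hq
    have hx := q64 hq
    have hdn := D.hn
    rw [hnz] at hdn
    have h1 : (D.m : ℤ) ∣ 1 * D.n + (v : ℤ) ^ 2 := by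
      rw [hnz]
      have : 1 * ((v : ℤ) ^ 4 - (v : ℤ) ^ 2 + 1) + (v : ℤ) ^ 2 = ((v ^ 4 + 1 : ℕ) : ℤ) := by push_cast; ring
      rw [this]
      exact Int.natCast_dvd_natCast.2 hm
    have hb := bound (y := D.d * (v : ℤ) ^ 2) (c := D.ε * (D.q : ℤ) ^ 3) (d_ge D) (d_le D) hx
      (eps_le D (by linarith only [hx])) (by (clear * - hv; positivity)) (by
        have e : (D.q : ℤ) ^ 6 = ((D.q : ℤ) ^ 3) ^ 2 := by ring
        rw [e] at hdn
        rw [← hdn]
        linarith only [sq_nonneg (D.d : ℤ)])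
    have h2 := D.kill h1 (by
      rw [abs_one, one_mul, abs_of_nonneg (by positivity : (0 : ℤ) ≤ (v : ℤ) ^ 2)]
      exact klt hq hb)
    rw [one_mul] at h2
    have e : (D.q : ℤ) ^ 6 = (D.ε * (D.q : ℤ) ^ 3) ^ 2 := by
      have := D.eps_sq
      linear_combination (-(D.q : ℤ) ^ 6) * this
    have h3 : D.ε * (D.q : ℤ) ^ 3 = -(D.d * (v : ℤ) ^ 2) := by linear_combination h2
    rw [e, h3] at hdn
    have hd1 : D.d = 1 := by
      rcases D.hd with h | h
      · exact h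
      · exfalso
        rw [h] at hdn
        push_cast at hdn
        nlinarith only [hv, hn, hdn]
    rw [hd1] at h3
    push_cast at h3
    have hε : D.ε = -1 := by
      rcases D.eps with h | h
      · exfalso
        rw [h] at h3
        linarith only [hx, h3, _root_.sq_nonneg (↑v : ℤ)]
      · exact h
    rw [hε] at h3
    have h4 : (v : ℤ) ^ 4 + 1 = (D.q : ℤ) ^ 6 + 1 := by
      have h5 : (v : ℤ) ^ 2 = (D.q : ℤ) ^ 3 := by linarith only [h3]
      have e1 : (v : ℤ) ^ 4 = ((v : ℤ) ^ 2) ^ 2 := by ring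
      rw [e1, h5]
      ring
    have h5 : ((v ^ 4 + 1 : ℕ) : ℤ) ∣ D.e := Int.natCast_dvd_natCast.2 he
    push_cast at h5
    rw [h4, D.he, hε, D.hm] at h5
    have hq' : (4 : ℤ) ≤ D.q := by exact_mod_cast hq
    have h6 : (0 : ℤ) < (D.q : ℤ) ^ 4 - (D.q : ℤ) ^ 2 + 1 := by nlinarith only [e]
    have h7 : (D.q : ℤ) ^ 6 + 1 = ((D.q : ℤ) ^ 2 + 1) * ((D.q : ℤ) ^ 4 - (D.q : ℤ) ^ 2 + 1) := by ring
    rw [h7] at h5
    have h8 := Int.dvd_of_mul_dvd_mul_right h6.ne' h5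
    have h9 := Int.le_of_dvd (by nlinarith only []) h8
    linarith only [hq, h9]

section F4

variable {F : Type u} [Field F] [Fintype F]

/-- **`F₄(u)`** -/
theorem row_F4 {D : Dat} (h : Sit D ↥(chevF4.group F)) : False := by
  obtain ⟨v, hv⟩ : ∃ v, Fintype.card F = v := ⟨_, rfl⟩
  have hv' : Nat.card F = v := by rw [Nat.card_eq_fintype_card, hv]
  have hv2 : 2 ≤ v := by rw [← hv]; exact Fintype.one_lt_card
  have hN8 : ((v ^ 4 + 1 : ℕ) : ℤ) = 1 + (v : ℤ) ^ 4 := by push_cast; ring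
  have hle : v ^ 2 ≤ v ^ 4 := Nat.pow_le_pow_right (by omega) (by norm_num)
  obtain ⟨t, ht, htm, -, htc⟩ := h.exists_prime_m
  have hn := H72.F4I.f4_row hv (isoN h)
  rcases ((adj_F4 F ht htc).resolve_left (ne_two htm)).resolve_left (h.not_adj_two_m htm) with h1 | h1
  · rw [hv'] at h1
    have h2 := dvd8 ht h1
    rw [pv8] at h2
    have h3 : t ∣ v ^ 4 + 1 := by exact_mod_cast h2
    obtain ⟨h4, h5⟩ := torAt h (tor_F4_8 hv hN8 ht h3 (ne_two htm)) ht h3 htm
    rcases hn with hn | hn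
    · exact absurd (hn ▸ h3) (not_dvd_n ht htm)
    · exact num12 hv2 hn h4 h5
  · rw [hv'] at h1
    have h3 := dvd_n12 hv2 ht h1
    obtain ⟨h4, -⟩ := exact' h (exact_F4_12 hv (n12 hv2)) ht h3 htm
    have h5 : (D.m : ℤ) ∣ ((v ^ 4 - v ^ 2 + 1 : ℕ) : ℤ) := Int.natCast_dvd_natCast.2 h4
    rw [n12 hv2] at h5
    rcases hn with hn | hn
    · refine num8 hv2 hn ?_
      convert h5 using 1
      ring
    · refine absurd ?_ (not_dvd_n ht htm)
      have : D.n = v ^ 4 - v ^ 2 + 1 := by omega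
      rw [this]
      exact h3

end F4

section TD4

open Cfsg.Agent.H378 Cfsg.Agent.H378.TwRows Cfsg.Agent.H378.TwAdj Cfsg.Agent.H493.PGD4T Cfsg.Agent.H493.PGTwist
open Cfsg.Agent.H94.PG Cfsg.Agent.H493.PGTorus Cfsg.Agent.H493.PGCyc Cfsg.Agent.H129.WData

variable {K : Type u} [Field K] [Fintype K] {q : ℕ}

/-- **`³D₄(q)`**: the primes not adjacent to `2`. -/
theorem adj_3D4 (hq : IsPrimePow q) (hK : Fintype.card K = q ^ 3) {r : ℕ} (hr : r.Prime)
    (hd : r ∣ Nat.card ↥(twistedD4 K q)) : r = 2 ∨ Adj ↥(twistedD4 K q) r 2 ∨ od q r = 12 := by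
  by_cases h2 : r = 2
  · exact Or.inl h2
  right
  obtain ⟨p, n, hp, hn, hpn⟩ := id hq
  have hp := hp.nat_prime
  have hpq : p ∣ q := hpn ▸ dvd_pow_self p hn.ne'
  have hne : ∀ {f : ℕ} {c : Fin (f + 1) → ℤ}, (c 0 = 1 ∨ c 0 = -1) → (r : ℤ) ∣ pv c (q : ℤ) → r ≠ p := by
    intro f c hc h
    rw [← hpn] at h
    exact ne_char hc hp hn h
  rw [Cfsg.Agent.S1067.result hq hK] at hd
  have hc := cover hq.two_le hr hd
  by_cases hp2 : p = 2
  · subst hp2
    rcases hc with (h | h | h | h | h) | h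
    · rw [← hpn] at h
      exact absurd ((Nat.prime_dvd_prime_iff_eq hr hp).1 (hr.dvd_of_dvd_pow h)) h2
    · exact Or.inl ((pairD_p hq hK chainA_ok hThA eigA_1 (by decide) (by decide) fixA vanA_1 hr hp h hpq).adj hr hp h2)
    · exact Or.inl ((pairD_p hq hK chainB_ok hThB eigB_2 (by decide) (by decide) fixB vanB_2 hr hp h hpq).adj hr hp h2)
    · exact Or.inl ((pairD_p hq hK chainA_ok hThA eigA_3 (by decide) (by decide) fixA vanA_3 hr hp h hpq).adj hr hp h2)
    · exact Or.inl ((pairD_p hq hK chainB_ok hThB eigB_6 (by decide) (by decide) fixB vanB_6 hr hp h hpq).adj hr hp h2)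
    · exact Or.inr (od_of_c12 hr h)
  · have h2q : ¬ 2 ∣ q := by
      rw [← hpn]
      intro h
      exact hp2 ((Nat.prime_dvd_prime_iff_eq Nat.prime_two hp).1 (Nat.prime_two.dvd_of_dvd_pow h)).symm
    have hc1 := two_dvd_c1 h2q
    have hc2 : ((2 : ℕ) : ℤ) ∣ pv H493.PGCyc.c2 (q : ℤ) := by
      rw [pv_c2]
      omega
    rcases hc with (h | h | h | h | h) | h
    · rw [← hpn] at h
      rw [(Nat.prime_dvd_prime_iff_eq hr hp).1 (hr.dvd_of_dvd_pow h)]
      exact Or.inl ((pairD_p hq hK chainA_ok hThA eigA_1 (by decide) (by decide) fixA vanA_1 Nat.prime_two hp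
        hc1 hpq).symm.adj hp Nat.prime_two hp2)
    · exact Or.inl ((pairD_gen hq hK chainA_ok hThA eigA_1 (by decide) eigA_1 (by decide) hr Nat.prime_two h hc1).adj
        hr Nat.prime_two h2)
    · exact Or.inl ((pairD_gen hq hK chainB_ok hThB eigB_2 (by decide) eigB_2 (by decide) hr Nat.prime_two h hc2).adj
        hr Nat.prime_two h2)
    · exact Or.inl ((pairD_gen hq hK chainA_ok hThA eigA_3 (by decide) eigA_1 (by decide) hr Nat.prime_two h hc1).adj
        hr Nat.prime_two h2)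
    · exact Or.inl ((pairD_gen hq hK chainB_ok hThB eigB_6 (by decide) eigB_2 (by decide) hr Nat.prime_two h hc2).adj
        hr Nat.prime_two h2)
    · exact Or.inr (od_of_c12 hr h)

/-- **`³D₄(u)`** -/
theorem row_3D4 {D : Dat} {v : ℕ} (hv : IsPrimePow v) (hK : Fintype.card K = v ^ 3)
    (h : Sit D ↥(twistedD4 K v)) : False := by
  have hv2 := hv.two_le
  have hle : v ^ 2 ≤ v ^ 4 := Nat.pow_le_pow_right (by omega) (by norm_num)
  have hn := td4_row hv hK (isoN h)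
  obtain ⟨t, ht, htm, -, htc⟩ := h.exists_prime_m
  have h1 := ((adj_3D4 hv hK ht htc).resolve_left (ne_two htm)).resolve_left (h.not_adj_two_m htm)
  refine not_dvd_n ht htm ?_
  have : D.n = v ^ 4 - v ^ 2 + 1 := by omega
  rw [this]
  exact dvd_n12 hv2 ht h1

end TD4

end Cfsg.Agent.R2.Spec.X1.E6.ERF4
end

-- part: R2/Spec/X1/E6/ERSz
section
/-!
# Identification of `E₆(q)`, `²E₆(q)`: the rows of `Sz(u)`, `²G₂(u)` (helper77, statements S3480, S3481)
-/

set_option autoImplicit false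
set_option linter.unusedSectionVars false

namespace Cfsg.Agent.R2.Spec.X1.E6.ERSz

open Cfsg Cfsg.Lie
open Cfsg.Agent.R2.Spec.X1.E6 Cfsg.Agent.R2.Spec.X1.E6.ERBase Cfsg.Agent.R2.Spec.X1.E6.ERF4

universe v

theorem not_sq {c k : ℕ} (z : ℕ) (h1 : k ^ 2 < c) (h2 : c < (k + 1) ^ 2) : z ^ 2 ≠ c := by
  intro h
  rcases Nat.lt_or_ge k z with h3 | h3
  · have := Nat.pow_le_pow_left (show k + 1 ≤ z from h3) 2
    omega
  · have := Nat.pow_le_pow_left h3 2
    omega

/-- **The kill for a difference of size `√n`.** -/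
theorem big {D : Dat} (hq : 8 ≤ D.q) {B : ℤ} (hm : (D.m : ℤ) ∣ D.n + B) (hB : B ^ 2 ≤ 13 * D.n) :
    D.d = 1 ∧ (D.n : ℤ) = B ^ 2 - B + 1 := by
  have hq' : (8 : ℤ) ≤ D.q := by exact_mod_cast hq
  obtain ⟨x, hx⟩ : ∃ x : ℤ, x = (D.q : ℤ) ^ 3 := ⟨_, rfl⟩
  have hx64 : 64 * (D.q : ℤ) ≤ x := by rw [hx]; nlinarith only [hq, mul_self_nonneg ((D.q : ℤ) - 8)]
  have hxx : (D.q : ℤ) * D.q * 8 ≤ x := by rw [hx]; nlinarith only [hq, mul_self_nonneg (D.q : ℤ)]
  have hmx : (D.m : ℤ) = D.q * x - D.q ^ 2 + 1 := by rw [D.hm, hx]; ring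
  have hdn : (D.d : ℤ) * D.n = x ^ 2 + D.ε * x + 1 := by rw [D.hn, hx]; ring
  have hε := eps_le D (x := x) (by linarith)
  have hd1 := d_ge D
  have hd3 := d_le D
  have hBd : 4 * (|B| * D.d) ≤ 25 * x + 25 := by
    by_contra hc
    push Not at hc
    have h1 : (25 * x + 25) * (25 * x + 25) < (4 * (|B| * D.d)) * (4 * (|B| * D.d)) := by nlinarith only [hx64, hc]
    have h2 : (4 * (|B| * D.d)) * (4 * (|B| * D.d)) = 16 * (B ^ 2 * D.d ^ 2) := by
      have : |B| * |B| = B ^ 2 := by rw [abs_mul_abs_self, sq]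
      linear_combination (16 * (D.d : ℤ) ^ 2) * this
    have h3 : B ^ 2 * (D.d : ℤ) ^ 2 ≤ 13 * D.n * D.d ^ 2 := mul_le_mul_of_nonneg_right hB (sq_nonneg _)
    have h4 : 13 * (D.n : ℤ) * D.d ^ 2 = 13 * (D.d * D.n) * D.d := by ring
    have h5 : 13 * ((D.d : ℤ) * D.n) * D.d ≤ 13 * (D.d * D.n) * 3 :=
      mul_le_mul_of_nonneg_left hd3 (by (clear * - hd1; positivity))
    have h6 : (D.d : ℤ) * D.n ≤ x ^ 2 + x + 1 := by rw [hdn]; linarith only [hε]
    linarith only [hx64, hdn, hε, h1, h2, h3, h5, _root_.sq_nonneg (x : ℤ)]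
  have h2 := D.kill (A := 1) (by rw [one_mul]; exact hm) (by
    rw [abs_one, one_mul, ← hx, hmx]
    nlinarith only [hq, hxx, hBd])
  rw [one_mul, ← hx] at h2
  have h3 : D.ε * x = -(B * D.d) := by linarith only [h2]
  have h4 : x ^ 2 = B ^ 2 * D.d ^ 2 := by
    have h5 := D.eps_sq
    have h6 : (D.ε * x) ^ 2 = x ^ 2 := by linear_combination x ^ 2 * h5
    rw [← h6, h3]
    ring
  rw [h3, h4] at hdn
  have h5 : (D.d : ℤ) * (D.n - B ^ 2 * D.d + B) = 1 := by linear_combination hdn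
  have h6 : D.d = 1 := by
    have : (D.d : ℤ) ∣ 1 := Dvd.intro _ h5
    have : D.d ∣ 1 := by exact_mod_cast this
    exact Nat.dvd_one.1 this
  refine ⟨h6, ?_⟩
  rw [h6] at h5
  push_cast at h5
  linear_combination h5

/-- `q ≥ 8` : `n` is large -/
theorem n_ge {D : Dat} (hq : 8 ≤ D.q) : (87211 : ℤ) ≤ D.n := by
  have hx : (512 : ℤ) ≤ (D.q : ℤ) ^ 3 := by
    have h : 8 ^ 3 ≤ D.q ^ 3 := Nat.pow_le_pow_left hq 3
    exact_mod_cast h
  have hdn := D.hn
  have e : (D.q : ℤ) ^ 6 = ((D.q : ℤ) ^ 3) ^ 2 := by ring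
  rw [e] at hdn
  have h3 : (512 : ℤ) * 512 - 512 + 1 ≤ (D.d : ℤ) * D.n := by
    rw [hdn]
    rcases D.eps with h | h <;> rw [h] <;> nlinarith only [hx]
  have h4 : (D.d : ℤ) * D.n ≤ 3 * D.n := mul_le_mul_of_nonneg_right (d_le D) (by positivity)
  linarith

theorem mne {D : Dat} {a : ℕ} (hm : D.m ∣ a) : a ≠ D.n := by
  rintro rfl
  have h1 := D.m_ge
  have h2 := D.coprime_mn.eq_one_of_dvd hm
  omega

/-- the numbers of `Sz(2 w²)` -/
theorem num_sz {D : Dat} {w a : ℕ} (hw : 1 ≤ w)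
    (hn : D.n + 1 = 2 * w ^ 2 ∨ D.n = 2 * w ^ 2 + 2 * w + 1 ∨ D.n + 2 * w = 2 * w ^ 2 + 1)
    (ha : a + 1 = 2 * w ^ 2 ∨ a = 2 * w ^ 2 + 2 * w + 1 ∨ a + 2 * w = 2 * w ^ 2 + 1) (hm : D.m ∣ a) : False := by
  have hne := mne hm
  by_cases hq : D.q < 8
  · have h1 : w ^ 2 = (D.n + 1) / 2 ∨ (2 * w + 1) ^ 2 = 2 * D.n - 1 ∨ (2 * w - 1) ^ 2 = 2 * D.n - 1 := by
      rcases hn with h | h | h
      · left; omega
      · right; left
        rw [h]
        have : (2 * w + 1) ^ 2 = 4 * w ^ 2 + 4 * w + 1 := by ring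
        omega
      · right; right
        obtain ⟨z, rfl⟩ : ∃ z, w = z + 1 := ⟨w - 1, by omega⟩
        have e : 2 * (z + 1) - 1 = 2 * z + 1 := by omega
        rw [e]
        have e1 : (2 * z + 1) ^ 2 = 4 * z ^ 2 + 4 * z + 1 := by ring
        have e2 : (z + 1) ^ 2 = z ^ 2 + 2 * z + 1 := by ring
        omega
    rcases tab D hq with h | h | h | h | h | h | h | h | h | h <;> obtain ⟨-, -, -, h4, -, -⟩ := h <;> rw [h4] at h1
    · rcases h1 with h | h | h
      · exact not_sq (c := 37) (k := 6) w (by norm_num) (by norm_num) h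
      · exact not_sq (c := 145) (k := 12) _ (by norm_num) (by norm_num) h
      · exact not_sq (c := 145) (k := 12) _ (by norm_num) (by norm_num) h
    · rcases h1 with h | h | h
      · exact not_sq (c := 10) (k := 3) w (by norm_num) (by norm_num) h
      · exact not_sq (c := 37) (k := 6) _ (by norm_num) (by norm_num) h
      · exact not_sq (c := 37) (k := 6) _ (by norm_num) (by norm_num) h
    · rcases h1 with h | h | h
      · exact not_sq (c := 379) (k := 19) w (by norm_num) (by norm_num) h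
      · exact not_sq (c := 1513) (k := 38) _ (by norm_num) (by norm_num) h
      · exact not_sq (c := 1513) (k := 38) _ (by norm_num) (by norm_num) h
    · rcases h1 with h | h | h
      · exact not_sq (c := 352) (k := 18) w (by norm_num) (by norm_num) h
      · exact not_sq (c := 1405) (k := 37) _ (by norm_num) (by norm_num) h
      · exact not_sq (c := 1405) (k := 37) _ (by norm_num) (by norm_num) h
    · rcases h1 with h | h | h
      · exact not_sq (c := 694) (k := 26) w (by norm_num) (by norm_num) h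
      · exact not_sq (c := 2773) (k := 52) _ (by norm_num) (by norm_num) h
      · exact not_sq (c := 2773) (k := 52) _ (by norm_num) (by norm_num) h
    · rcases h1 with h | h | h
      · exact not_sq (c := 2017) (k := 44) w (by norm_num) (by norm_num) h
      · exact not_sq (c := 8065) (k := 89) _ (by norm_num) (by norm_num) h
      · exact not_sq (c := 8065) (k := 89) _ (by norm_num) (by norm_num) h
    · rcases h1 with h | h | h
      · exact not_sq (c := 7876) (k := 88) w (by norm_num) (by norm_num) h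
      · exact not_sq (c := 31501) (k := 177) _ (by norm_num) (by norm_num) h
      · exact not_sq (c := 31501) (k := 177) _ (by norm_num) (by norm_num) h
    · rcases h1 with h | h | h
      · exact not_sq (c := 2584) (k := 50) w (by norm_num) (by norm_num) h
      · exact not_sq (c := 10333) (k := 101) _ (by norm_num) (by norm_num) h
      · exact not_sq (c := 10333) (k := 101) _ (by norm_num) (by norm_num) h
    · rcases h1 with h | h | h
      · exact not_sq (c := 19666) (k := 140) w (by norm_num) (by norm_num) h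
      · exact not_sq (c := 78661) (k := 280) _ (by norm_num) (by norm_num) h
      · exact not_sq (c := 78661) (k := 280) _ (by norm_num) (by norm_num) h
    · rcases h1 with h | h | h
      · exact not_sq (c := 58654) (k := 242) w (by norm_num) (by norm_num) h
      · exact not_sq (c := 234613) (k := 484) _ (by norm_num) (by norm_num) h
      · exact not_sq (c := 234613) (k := 484) _ (by norm_num) (by norm_num) h
  · push Not at hq
    have hn8 := n_ge hq
    have hw' : (1 : ℤ) ≤ w := by exact_mod_cast hw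
    have hwb : (200 : ℤ) ≤ w := by
      by_contra hc
      push Not at hc
      have h1 : (D.n : ℤ) ≤ 2 * (w : ℤ) ^ 2 + 2 * w + 1 := by
        rcases hn with h | h | h <;> zify at h <;> linarith only [h]
      nlinarith only [hn8, hc, h1]
    have hma : (D.m : ℤ) ∣ D.n + ((a : ℤ) - D.n) := by
      rw [add_sub_cancel]
      exact Int.natCast_dvd_natCast.2 hm
    zify at hn ha hne
    rcases hn with hn | hn | hn <;> rcases ha with ha | ha | ha
    · exact hne (by linarith only [hn, ha])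
    · have e : (a : ℤ) - D.n = 2 * w + 2 := by linarith only [hn, ha]
      rw [e] at hma
      obtain ⟨-, h1⟩ := big hq hma (by nlinarith only [hn8, hn])
      linarith only [hn, h1]
    · have e : (a : ℤ) - D.n = -(2 * w) + 2 := by linarith only [hn, ha]
      rw [e] at hma
      obtain ⟨-, h1⟩ := big hq hma (by linarith only [hwb, hn])
      nlinarith only [hn8, hn, h1]
    · have e : (a : ℤ) - D.n = -(2 * w) - 2 := by linarith only [hn, ha]
      rw [e] at hma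
      obtain ⟨-, h1⟩ := big hq hma (by linarith only [hn, _root_.sq_nonneg (↑w : ℤ)])
      linarith only [hn, h1]
    · exact hne (by linarith only [hn, ha])
    · have e : (a : ℤ) - D.n = -(4 * w) := by linarith only [hn, ha]
      rw [e] at hma
      obtain ⟨-, h1⟩ := big hq hma (by linarith only [hn])
      linarith only [hn8, hn, h1, _root_.sq_nonneg (↑w : ℤ)]
    · have e : (a : ℤ) - D.n = 2 * w - 2 := by linarith only [hn, ha]
      rw [e] at hma
      obtain ⟨-, h1⟩ := big hq hma (by linarith only [hwb, hn])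
      nlinarith only [hn8, hn, h1]
    · have e : (a : ℤ) - D.n = 4 * w := by linarith only [hn, ha]
      rw [e] at hma
      obtain ⟨-, h1⟩ := big hq hma (by nlinarith only [hwb, hn])
      linarith only [hwb, hn, h1]
    · exact hne (by linarith only [hn, ha])

set_option maxHeartbeats 1000000 in
/-- the numbers of `²G₂(3 w²)` -/
theorem num_ree {D : Dat} {w a : ℕ} (hw : 1 ≤ w)
    (hn : D.n = 3 * w ^ 2 + 3 * w + 1 ∨ D.n + 3 * w = 3 * w ^ 2 + 1)
    (ha : a = 3 * w ^ 2 + 3 * w + 1 ∨ a + 3 * w = 3 * w ^ 2 + 1) (hm : D.m ∣ a) : False := by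
  have hne := mne hm
  by_cases hq : D.q < 8
  · have h1 : 3 * (2 * w + 1) ^ 2 = 4 * D.n - 1 ∨ 3 * (2 * w - 1) ^ 2 = 4 * D.n - 1 := by
      rcases hn with h | h
      · left
        rw [h]
        have : (2 * w + 1) ^ 2 = 4 * w ^ 2 + 4 * w + 1 := by ring
        omega
      · right
        obtain ⟨z, rfl⟩ : ∃ z, w = z + 1 := ⟨w - 1, by omega⟩
        have e : 2 * (z + 1) - 1 = 2 * z + 1 := by omega
        rw [e]
        have e1 : (2 * z + 1) ^ 2 = 4 * z ^ 2 + 4 * z + 1 := by ring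
        have e2 : (z + 1) ^ 2 = z ^ 2 + 2 * z + 1 := by ring
        omega
    rcases tab D hq with h | h | h | h | h | h | h | h | h | h <;> obtain ⟨-, -, -, h4, h5, -⟩ := h <;> rw [h4] at h1 hn hne <;>
      rw [h5] at hm
    · rcases h1 with h | h
      · exact not_sq (c := 97) (k := 9) (2 * w + 1) (by norm_num) (by norm_num) (by omega)
      · exact not_sq (c := 97) (k := 9) (2 * w - 1) (by norm_num) (by norm_num) (by omega)
    · have hw4 : w = 2 ∨ w = 3 := by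
        rcases h1 with h | h
        · have h6 : (2 * w + 1) ^ 2 = 5 ^ 2 := by omega
          have := Nat.pow_left_injective two_ne_zero h6
          omega
        · have h6 : (2 * w - 1) ^ 2 = 5 ^ 2 := by omega
          have := Nat.pow_left_injective two_ne_zero h6
          omega
      clear h1
      rcases hw4 with rfl | rfl <;> omega
    · rcases h1 with h | h
      · exact not_sq (c := 1009) (k := 31) (2 * w + 1) (by norm_num) (by norm_num) (by omega)
      · exact not_sq (c := 1009) (k := 31) (2 * w - 1) (by norm_num) (by norm_num) (by omega)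
    · rcases h1 with h | h
      · exact not_sq (c := 937) (k := 30) (2 * w + 1) (by norm_num) (by norm_num) (by omega)
      · exact not_sq (c := 937) (k := 30) (2 * w - 1) (by norm_num) (by norm_num) (by omega)
    · have hw4 : w = 21 ∨ w = 22 := by
        rcases h1 with h | h
        · have h6 : (2 * w + 1) ^ 2 = 43 ^ 2 := by omega
          have := Nat.pow_left_injective two_ne_zero h6
          omega
        · have h6 : (2 * w - 1) ^ 2 = 43 ^ 2 := by omega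
          have := Nat.pow_left_injective two_ne_zero h6
          omega
      clear h1
      rcases hw4 with rfl | rfl <;> omega
    · rcases h1 with h | h
      · exact not_sq (c := 5377) (k := 73) (2 * w + 1) (by norm_num) (by norm_num) (by omega)
      · exact not_sq (c := 5377) (k := 73) (2 * w - 1) (by norm_num) (by norm_num) (by omega)
    · rcases h1 with h | h
      · exact not_sq (c := 21001) (k := 144) (2 * w + 1) (by norm_num) (by norm_num) (by omega)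
      · exact not_sq (c := 21001) (k := 144) (2 * w - 1) (by norm_num) (by norm_num) (by omega)
    · have hw4 : w = 41 ∨ w = 42 := by
        rcases h1 with h | h
        · have h6 : (2 * w + 1) ^ 2 = 83 ^ 2 := by omega
          have := Nat.pow_left_injective two_ne_zero h6
          omega
        · have h6 : (2 * w - 1) ^ 2 = 83 ^ 2 := by omega
          have := Nat.pow_left_injective two_ne_zero h6
          omega
      clear h1
      rcases hw4 with rfl | rfl <;> omega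
    · have hw4 : w = 114 ∨ w = 115 := by
        rcases h1 with h | h
        · have h6 : (2 * w + 1) ^ 2 = 229 ^ 2 := by omega
          have := Nat.pow_left_injective two_ne_zero h6
          omega
        · have h6 : (2 * w - 1) ^ 2 = 229 ^ 2 := by omega
          have := Nat.pow_left_injective two_ne_zero h6
          omega
      clear h1
      rcases hw4 with rfl | rfl <;> omega
    · rcases h1 with h | h
      · exact not_sq (c := 156409) (k := 395) (2 * w + 1) (by norm_num) (by norm_num) (by omega)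
      · exact not_sq (c := 156409) (k := 395) (2 * w - 1) (by norm_num) (by norm_num) (by omega)
  · push Not at hq
    have hn8 := n_ge hq
    have hw' : (1 : ℤ) ≤ w := by exact_mod_cast hw
    have hwb : (100 : ℤ) ≤ w := by
      by_contra hc
      push Not at hc
      have h1 : (D.n : ℤ) ≤ 3 * (w : ℤ) ^ 2 + 3 * w + 1 := by
        rcases hn with h | h <;> zify at h <;> linarith only [h]
      nlinarith only [hn8, hc, h1]
    have hma : (D.m : ℤ) ∣ D.n + ((a : ℤ) - D.n) := by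
      rw [add_sub_cancel]
      exact Int.natCast_dvd_natCast.2 hm
    zify at hn ha hne
    rcases hn with hn | hn <;> rcases ha with ha | ha
    · exact hne (by linarith only [hn, ha])
    · have e : (a : ℤ) - D.n = -(6 * w) := by linarith only [hn, ha]
      rw [e] at hma
      obtain ⟨-, h1⟩ := big hq hma (by linarith only [hn])
      linarith only [hn8, hn, h1, _root_.sq_nonneg (↑w : ℤ)]
    · have e : (a : ℤ) - D.n = 6 * w := by linarith only [hn, ha]
      rw [e] at hma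
      obtain ⟨-, h1⟩ := big hq hma (by nlinarith only [hwb, hn])
      linarith only [hwb, hn, h1]
    · exact hne (by linarith only [hn, ha])

/-- **`Sz(u)`** -/
theorem row_sz {D : Dat} {F : Type v} [Field F] [Fintype F] {m : ℕ} (hm : 1 ≤ m)
    (hF : Fintype.card F = 2 ^ (2 * m + 1)) (h : Sit D ↥(Lie.Sz F (2 ^ (m + 1)))) : False := by
  have hn := H72.F4I.sz_row hm hF (isoN h)
  obtain ⟨e⟩ := Cfsg.Agent.OddCyclic.ClaimC.SzIso.iso hm hF
  have h := h.congr e.symm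
  have hfin : Finite ↥(Cfsg.Sz F m) := inferInstance
  obtain ⟨x, hx⟩ := h.om
  have hb := D.m_ge
  have hodd : Odd D.m := by
    rw [← Nat.not_even_iff_odd, even_iff_two_dvd]
    exact D.m_odd
  have hx1 : x ≠ 1 := by
    rintro rfl
    rw [orderOf_one] at hx
    omega
  obtain ⟨U, ⟨hU, hxU⟩, -⟩ := Cfsg.Agent.S2238.result hm hF x hx1
  have hdU : D.m ∣ Nat.card ↥U := by
    rw [← hx, ← Subgroup.orderOf_mk _ hxU]
    exact orderOf_dvd_natCard _
  rcases hU with ⟨P, rfl⟩ | ⟨-, hN⟩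
  · obtain ⟨k, hk⟩ := IsPGroup.iff_card.1 P.isPGroup'
    rw [hk] at hdU
    have h1 : Nat.Coprime D.m (2 ^ k) := (Nat.coprime_two_right.2 hodd).pow_right k
    have h2 := h1.eq_one_of_dvd hdU
    omega
  · have e1 : 2 ^ (2 * m + 1) = 2 * (2 ^ m) ^ 2 := by ring
    have e2 : 2 ^ (m + 1) = 2 * 2 ^ m := by ring
    have hw : 1 ≤ 2 ^ m := Nat.one_le_two_pow
    rw [e1, e2] at hN hn
    have hww : 2 ^ m ≤ (2 ^ m) ^ 2 := Nat.le_self_pow two_ne_zero _
    refine num_sz hw hn ?_ hdU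
    simp only [Set.mem_insert_iff, Set.mem_singleton_iff] at hN
    generalize 2 ^ m = w at *
    (clear * - hw hww hN; omega)

/-- **`²G₂(u)`** -/
theorem row_ree {D : Dat} {K : Type v} [Field K] [Fintype K] {m : ℕ} (hm : 1 ≤ m)
    (hF : Fintype.card K = 3 ^ (2 * m + 1)) (h : Sit D ↥(Lie.twistedG2 K (3 ^ m))) : False := by
  have hfin : Finite ↥(Cfsg.Lie.twistedG2 K (3 ^ m)) := inferInstance
  have hn := H72.F4I.ree_row hm hF (isoN h)
  have hb := D.m_ge
  have hS := Cfsg.Agent.S1159.result hm hF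
  obtain ⟨t, ht, htm, -, -⟩ := h.exists_prime_m
  have hu4 : 3 ^ (2 * m + 1) % 4 = 3 := by
    rw [pow_succ, pow_mul, Nat.mul_mod, Nat.pow_mod]
    norm_num
  have key : ∀ N : ℕ, 2 ∣ N → (∃ g : ↥(Cfsg.Lie.twistedG2 K (3 ^ m)), orderOf g = N) → D.m ∣ N → False :=
    fun N h2 hN hd => D.e_odd (h2.trans (h.dvd_e hN ht (htm.trans hd) htm))
  have e1 : 3 ^ (2 * m + 1) = 3 * (3 ^ m) ^ 2 := by ring
  have e2 : 3 ^ (m + 1) = 3 * 3 ^ m := by ring
  have hw : 1 ≤ 3 ^ m := Nat.one_le_pow _ _ (by norm_num)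
  have hww : 3 ^ m ≤ (3 ^ m) ^ 2 := Nat.le_self_pow two_ne_zero _
  rcases (hS _).1 h.om with h1 | h1 | h1 | h1 | h1 | h1
  · have := Nat.le_of_dvd (by norm_num) h1
    omega
  · have := Nat.le_of_dvd (by norm_num) h1
    omega
  · exact key _ (by omega) ((hS _).2 (Or.inr (Or.inr (Or.inl dvd_rfl)))) h1
  · exact key _ (by omega) ((hS _).2 (Or.inr (Or.inr (Or.inr (Or.inl dvd_rfl))))) h1
  · rw [e1, e2] at h1 hn
    exact num_ree hw (by (clear * - hn; omega)) (Or.inr (by (clear * - hww; omega))) h1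
  · rw [e1, e2] at h1 hn
    exact num_ree hw (by (clear * - hn; omega)) (Or.inl (by omega)) h1

end Cfsg.Agent.R2.Spec.X1.E6.ERSz
end
end

-- part: R2/Spec/X1/E6/I9/Orth
section
prune_inst 0x12030441440000000000004120002042000000000208001b80002000a065302804001004c8018021048328010040000000000400040000004003000000201208000840060910808800011800004400000000000000000000000000000041004000000000
set_option linter.all false
open scoped Cfsg.Agent.FastGrp

-- part: R2/Spec/X1/E6/I9/Sp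
section
/-!
# `E₆(q)`, `²E₆(q)`, rows `PSp_{2k}(u)`, `Ω_{2k+1}(u)` (helper977, S3480, S3481)
-/

set_option autoImplicit false

namespace Cfsg.Agent.R2.Spec.X1.E6.I9

open Cfsg Cfsg.Agent.R2.Spec.X1.E6 Cfsg.Agent.H72.F4I.Iso Cfsg.Agent.H377

variable {D : Dat}

/-- the kill `m ∣ n ± 2` -/
theorem dead_two {B : ℤ} (hB : B = 2 ∨ B = -2) (h : (D.m : ℤ) ∣ 1 * D.n + B) : False := by
  have hd : (D.d : ℤ) ≤ 3 := by rcases D.hd with h | h <;> rw [h] <;> norm_num
  have hd0 : (0 : ℤ) < D.d := by exact_mod_cast D.d_pos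
  rcases Nat.lt_or_ge D.q 3 with h3 | h3
  · have hsm := small D (by omega)
    have hm := D.hm
    obtain ⟨n, hn'⟩ : ∃ n, D.n = n := ⟨_, rfl⟩
    obtain ⟨m, hm'⟩ : ∃ m : ℤ, (D.m : ℤ) = m := ⟨_, rfl⟩
    rw [hn'] at h hsm
    rw [hm'] at h hm
    have h4 : D.q = 2 := by have := D.two_le; omega
    rw [h4] at hsm hm
    norm_num at hm
    subst hm
    simp only [_root_.Int.reduceNeg, _root_.List.mem_cons, _root_.Prod.mk.injEq, _root_.true_and, _root_.Nat.reduceEqDiff, _root_.false_and, _root_.List.not_mem_nil, _root_.or_self, _root_.or_false] at hsm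
    rcases hsm with ⟨-, -, rfl⟩ | ⟨-, -, rfl⟩ <;> rcases hB with rfl | rfl <;> norm_num at h
  · have h4 : (3 : ℤ) ≤ D.q := by exact_mod_cast h3
    have h5 : (27 : ℤ) ≤ (D.q : ℤ) ^ 3 := by
      calc (27 : ℤ) = 3 ^ 3 := by norm_num
        _ ≤ (D.q : ℤ) ^ 3 := pow_le_pow_left₀ (by norm_num) h4 3
    have hB2 : |B| = 2 := by rcases hB with rfl | rfl <;> norm_num
    have h1 : |(1 : ℤ)| * D.q ^ 3 + |B| * D.d < D.m := by
      rw [abs_one, one_mul, hB2, D.hm]
      have h6 : 3 * (D.q : ℤ) ^ 3 ≤ D.q ^ 4 := by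
        rw [pow_succ (D.q : ℤ) 3, mul_comm]
        exact mul_le_mul_of_nonneg_left h4 (by positivity)
      have h7 : (D.q : ℤ) ^ 2 * 3 ≤ D.q ^ 3 := by
        rw [pow_succ (D.q : ℤ) 2]
        exact mul_le_mul_of_nonneg_left h4 (by positivity)
      linarith
    have h2 := D.kill h h1
    rw [one_mul] at h2
    rcases D.eps with he | he <;> rw [he] at h2 <;> rcases hB with rfl | rfl <;> linarith

/-- the abstract row -/
theorem twin_row {T : Type*} [Group T] [Finite T] {u k A B c : ℕ} (h : Sit D T) (hk : 1 ≤ k)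
    (hAB : A + 1 = B ∨ A + 2 = B) (hc : c = 1 ∨ c = 2) (hA : c * A = u ^ k - 1) (hB : c * B = u ^ k + 1)
    (ht : Twin T D.n A B)
    (hcard : Nat.card T ∣ u ^ (k ^ 2) * ∏ i ∈ Finset.range k, (u ^ (2 * (i + 1)) - 1))
    (h2 : ∀ t : ℕ, t.Prime → t ≠ 2 → t ∣ u → H94.PG.Adj T t 2)
    (hadj : ∀ t i : ℕ, t.Prime → t ≠ 2 → 1 ≤ i → i < k → t ∣ u ^ (2 * i) - 1 → H94.PG.Adj T t 2) : False := by
  have ht2 : ∀ {t : ℕ}, t.Prime → t ∣ D.m → t ≠ 2 := fun {t} ht htm => by
    have := D.prime_m_ge ht htm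
    omega
  have hn0 : D.m ∣ (u ^ k - 1) * (u ^ k + 1) := by
    have h1 : D.m ∣ u ^ (k ^ 2) * ∏ i ∈ Finset.range k, (u ^ (2 * (i + 1)) - 1) := h.m_dvd_card.trans hcard
    obtain ⟨j, rfl⟩ : ∃ j, k = j + 1 := ⟨k - 1, by omega⟩
    rw [Finset.prod_range_succ] at h1
    have h3 : D.m ∣ (∏ i ∈ Finset.range j, (u ^ (2 * (i + 1)) - 1)) * (u ^ (2 * (j + 1)) - 1) :=
      dvd_of_primes h1 fun r hr hrn hd =>
        h.not_adj_two_m hrn (h2 r hr (ht2 hr hrn) (hr.dvd_of_dvd_pow hd))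
    have h4 : D.m ∣ u ^ (2 * (j + 1)) - 1 := dvd_of_primes h3 fun r hr hrn =>
      not_dvd_prod (fun i hi hd => by
        rw [Finset.mem_range] at hi
        exact h.not_adj_two_m hrn (hadj r (i + 1) hr (ht2 hr hrn) (by omega) (by omega) hd)) hr
    have h5 : u ^ (2 * (j + 1)) - 1 = (u ^ (j + 1) - 1) * (u ^ (j + 1) + 1) := by
      rw [mul_comm 2, pow_mul, mul_comm, ← Nat.sq_sub_sq, one_pow]
    rwa [h5] at h4
  rw [← hA, ← hB] at hn0
  have hmc : Nat.Coprime D.m c := coprime_m fun t ht htm h3 => by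
    have := Nat.le_of_dvd (by omega) h3
    have := D.prime_m_ge ht htm
    omega
  have hmn : Nat.Coprime D.m D.n := D.coprime_mn
  obtain ⟨t, hst, hsm⟩ := Nat.exists_prime_and_dvd (show D.m ≠ 1 by have := D.m_ge; omega)
  obtain ⟨hn, eA, eB⟩ := ht
  have hAB' : ∀ C : ℕ, D.m ∣ C → (∃ x : T, orderOf x = C) → (D.n = A ∧ C = B ∨ D.n = B ∧ C = A) → False := by
    intro C hC eC hh
    have h3 : C ∣ D.e := h.dvd_e eC hst (hsm.trans hC) hsm
    have h4 : ¬ 2 ∣ C := fun h5 => D.e_odd (h5.trans h3)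
    have h5 := D.n_odd
    have h6 : (D.m : ℤ) ∣ (C : ℤ) := Int.natCast_dvd_natCast.2 hC
    rcases hh with ⟨h7, h8⟩ | ⟨h7, h8⟩
    · rcases hAB with h9 | h9
      · omega
      · refine dead_two (D := D) (B := 2) (Or.inl rfl) ?_
        rw [one_mul]
        have : (C : ℤ) = D.n + 2 := by
          rw [h8, h7, ← h9]
          push_cast
          ring
        rwa [this] at h6
    · rcases hAB with h9 | h9
      · omega
      · refine dead_two (D := D) (B := -2) (Or.inr rfl) ?_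
        rw [one_mul]
        have : (C : ℤ) = D.n + -2 := by
          rw [h8, h7, ← h9]
          push_cast
          ring
        rwa [this] at h6
  rcases hn with hn | hn
  · refine hAB' B ?_ eB (Or.inl ⟨hn, rfl⟩)
    rw [← hn] at hn0
    exact hmc.dvd_of_dvd_mul_left ((hmc.mul_right hmn).dvd_of_dvd_mul_left hn0)
  · refine hAB' A ?_ eA (Or.inr ⟨hn, rfl⟩)
    rw [← hn] at hn0
    exact hmc.dvd_of_dvd_mul_left ((hmc.mul_right hmn).dvd_of_dvd_mul_right hn0)

section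

variable {F : Type*} [Field F] [Fintype F] {k : ℕ}

/-- **Row `PSp_{2k}(u)`.** -/
theorem row_psp (hk : 2 ≤ k) (h : Sit D (PSp k F)) : False := by
  classical
  obtain ⟨A, B, c, hAB, hc, hA, hB, ht⟩ := psp hk (isoN h)
  have hfin : Finite (PSp k F) := inferInstance
  refine twin_row h (by omega) hAB hc hA hB ht ?_ ?_ ?_
  · have h1 : Nat.card (PSp k F) ∣ Nat.card (Matrix.symplecticGroup (Fin k) F) := Subgroup.card_quotient_dvd_card _
    rwa [Cfsg.Agent.S0245.result (F := F) rfl k, ← Nat.card_eq_fintype_card] at h1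
  · exact fun t ht ht2 hd => psp_adj_two_of_char hk ht ht2 hd
  · exact fun t i ht ht2 hi him hd => psp_adj_two_of_dvd hi him ht ht2 hd

/-- **Row `Ω_{2k+1}(u)`.** -/
theorem row_omega_odd (hk : 3 ≤ k) (ho : Odd (Fintype.card F)) (h : Sit D (POmega F (quadFormOdd k F))) : False := by
  classical
  have ho' : Odd (Nat.card F) := by rwa [Nat.card_eq_fintype_card]
  obtain ⟨A, B, c, hAB, hc, hA, hB, ht⟩ := omegaOdd ho' hk (isoN h)
  have hfin : Finite (POmega F (quadFormOdd k F)) := inferInstance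
  refine twin_row h (by omega) hAB hc hA hB ht ?_ ?_ ?_
  · have h1 := Cfsg.Agent.S0292.result (F := F) rfl ho k hk
    rw [← Nat.card_eq_fintype_card] at h1
    rw [← h1]
    exact dvd_mul_left _ _
  · exact fun t ht ht2 hd => OOdd.adj_two_of_char ho' hk ht ht2 hd
  · exact fun t i ht ht2 hi him hd => OOdd.adj_two_of_dvd ho' hk hi him ht ht2 hd

end

end Cfsg.Agent.R2.Spec.X1.E6.I9
end

-- part: R2/Spec/X1/E6/I9/Orth
section
/-!
# `E₆(q)`, `²E₆(q)`, rows `PΩ^±_{2k}(u)`, `k ≥ 4` (helper977, S3480, S3481)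
-/

set_option autoImplicit false

namespace Cfsg.Agent.R2.Spec.X1.E6.I9

open Cfsg Cfsg.Agent.R2.Spec.X1.E6 Cfsg.Agent.H72.F4I.Iso Cfsg.Agent.H182.Orth Cfsg.Agent.H182.Sign
open Cfsg.Agent.H403.Classify

section num

variable {D : Dat}

/-- the kill for small coefficients -/
theorem dead_AB {A B : ℤ} (hA : 1 ≤ A) (hA6 : A ≤ 6) (hB : |B| ≤ 3)
    (hs : ∀ x ∈ ([(73, 13), (19, 13), (757, 73), (703, 73), (1387, 241), (4033, 241), (15751, 601), (5167, 601)] : List (ℤ × ℤ)),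
      ¬ x.2 ∣ A * x.1 + B) (h : (D.m : ℤ) ∣ A * D.n + B) : False := by
  rcases Nat.lt_or_ge D.q 7 with h7 | h7
  · have hsm := small D (by omega)
    have hm := D.hm
    obtain ⟨n, hn'⟩ : ∃ n, D.n = n := ⟨_, rfl⟩
    obtain ⟨m, hm'⟩ : ∃ m : ℤ, (D.m : ℤ) = m := ⟨_, rfl⟩
    rw [hn'] at h hsm
    rw [hm'] at h hm
    simp only [List.mem_cons, List.not_mem_nil, or_false, Prod.mk.injEq] at hsm
    refine hs (n, m) ?_ h
    rcases hsm with ⟨h3, -, -, h4⟩ | ⟨h3, -, -, h4⟩ | ⟨h3, -, -, h4⟩ | ⟨h3, -, -, h4⟩ | ⟨h3, -, -, h4⟩ |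
      ⟨h3, -, -, h4⟩ | ⟨h3, -, -, h4⟩ | ⟨h3, -, -, h4⟩ | ⟨h3, -, -, h4⟩ | ⟨h3, -, -, h4⟩ | ⟨h3, -, -, h4⟩ |
      ⟨h3, -, -, h4⟩ |
        ⟨h3, -, -, h4⟩ | ⟨h3, -, -, h4⟩ <;> rw [h3] at hm h7 <;> first | omega | skip
    all_goals norm_num at hm
    all_goals rw [hm, h4]
    all_goals simp
  · have hd : (D.d : ℤ) ≤ 3 := by rcases D.hd with h | h <;> rw [h] <;> norm_num
    have hd0 : (0 : ℤ) < D.d := by exact_mod_cast D.d_pos
    have h4 : (7 : ℤ) ≤ D.q := by exact_mod_cast h7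
    have h5 : (343 : ℤ) ≤ (D.q : ℤ) ^ 3 := by
      calc (343 : ℤ) = 7 ^ 3 := by norm_num
        _ ≤ (D.q : ℤ) ^ 3 := pow_le_pow_left₀ (by norm_num) h4 3
    have hBd : |B| * D.d ≤ 9 := by nlinarith only [hB, hd]
    have h6 : 7 * (D.q : ℤ) ^ 3 ≤ D.q ^ 4 := by
      rw [pow_succ (D.q : ℤ) 3, mul_comm]
      exact mul_le_mul_of_nonneg_left h4 (by positivity)
    have h8 : (D.q : ℤ) ^ 2 * 7 ≤ D.q ^ 3 := by
      rw [pow_succ (D.q : ℤ) 2]
      exact mul_le_mul_of_nonneg_left h4 (by positivity)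
    have h1 : |A| * D.q ^ 3 + |B| * D.d < D.m := by
      rw [abs_of_pos (by linarith : 0 < A), D.hm]
      have h9 : A * (D.q : ℤ) ^ 3 ≤ 6 * D.q ^ 3 := mul_le_mul_of_nonneg_right hA6 (by positivity)
      linarith only [h5, hBd, h6, h8, h9]
    have h2 := D.kill h h1
    have h3 : |A * D.ε * (D.q : ℤ) ^ 3| = |B * (D.d : ℤ)| := by
      rw [eq_neg_of_add_eq_zero_left h2, abs_neg]
    rw [abs_mul, abs_mul, D.eps_abs, abs_mul, abs_of_pos (by linarith : 0 < A), mul_one, abs_of_pos hd0,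
      abs_of_nonneg (show (0 : ℤ) ≤ (D.q : ℤ) ^ 3 by positivity)] at h3
    nlinarith only [hA, hB, hd, h5, h3]

/-- the kill for `u ^ k = g n ± 1` -/
theorem dead_pow {g u k : ℕ} {B : ℤ} (hg : g = 1 ∨ g = 2 ∨ g = 4) (hu : 2 ≤ u) (hk : 4 ≤ k)
    (h1 : u ^ k + 1 = g * D.n ∨ u ^ k = g * D.n + 1) (hB : |B| ≤ u + 1) (h : (D.m : ℤ) ∣ g * D.n + B) : False := by
  have hle : u ^ 4 ≤ 4 * D.n + 1 := by
    have h2 : u ^ 4 ≤ u ^ k := Nat.pow_le_pow_right (by omega) hk
    have h3 : g * D.n ≤ 4 * D.n := Nat.mul_le_mul_right _ (by omega)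
    omega
  rcases Nat.lt_or_ge D.q 5 with h5 | h5
  · have hsm := small D (by omega)
    obtain ⟨n, hn'⟩ : ∃ n, D.n = n := ⟨_, rfl⟩
    rw [hn'] at hsm h1 hle
    have hn : n ∈ [73, 19, 757, 703, 1387, 4033] := by
      simp only [List.mem_cons, List.not_mem_nil, or_false, Prod.mk.injEq] at hsm
      rcases hsm with ⟨h3, -, -, h4⟩ | ⟨h3, -, -, h4⟩ | ⟨h3, -, -, h4⟩ | ⟨h3, -, -, h4⟩ | ⟨h3, -, -, h4⟩ |
        ⟨h3, -, -, h4⟩ | ⟨h3, -, -, h4⟩ | ⟨h3, -, -, h4⟩ | ⟨h3, -, -, h4⟩ | ⟨h3, -, -, h4⟩ | ⟨h3, -, -, h4⟩ |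
        ⟨h3, -, -, h4⟩ |
        ⟨h3, -, -, h4⟩ | ⟨h3, -, -, h4⟩ <;> rw [h3] at h5 <;> first | omega | (rw [h4]; decide)
    have hn4 : n ≤ 4033 := by
      have : ∀ x ∈ [73, 19, 757, 703, 1387, 4033], x ≤ 4033 := by decide
      exact this n hn
    have hu11 : u ≤ 11 := by
      by_contra hcon
      have : 12 ^ 4 ≤ u ^ 4 := Nat.pow_le_pow_left (by omega) 4
      omega
    have hk14 : k ≤ 14 := by
      by_contra hcon
      have h4 : 2 ^ 15 ≤ 2 ^ k := Nat.pow_le_pow_right (by norm_num) (by omega)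
      have h5 : 2 ^ k ≤ u ^ k := Nat.pow_le_pow_left hu k
      have h6 : g * n ≤ 4 * n := Nat.mul_le_mul_right _ (by omega)
      omega
    have key : ∀ n ∈ [73, 19, 757, 703, 1387, 4033], ∀ u ∈ [2, 3, 4, 5, 6, 7, 8, 9, 10, 11],
        ∀ k ∈ [4, 5, 6, 7, 8, 9, 10, 11, 12, 13, 14], ∀ g ∈ [1, 2, 4], ¬ (u ^ k + 1 = g * n ∨ u ^ k = g * n + 1) := by
      decide +kernel
    refine key n hn u ?_ k ?_ g ?_ h1
    · clear key h1 hle h hB
      interval_cases u <;> decide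
    · clear key h1 hle
      interval_cases k <;> decide
    · rcases hg with rfl | rfl | rfl <;> decide
  · have hd : (D.d : ℤ) ≤ 3 := by rcases D.hd with h | h <;> rw [h] <;> norm_num
    have hd0 : (0 : ℤ) < D.d := by exact_mod_cast D.d_pos
    have h4 : (5 : ℤ) ≤ D.q := by exact_mod_cast h5
    have hn := n_le (D := D)
    -- `d (u + 1) < q ^ 4 - 4 q ^ 3 - q ^ 2 + 1`
    have hu3 : 3 * (u + 1) < D.q ^ 3 := by
      by_contra hcon
      push Not at hcon
      have h6 : 125 ≤ D.q ^ 3 := by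
        calc 125 = 5 ^ 3 := by norm_num
          _ ≤ D.q ^ 3 := Nat.pow_le_pow_left h5 3
      obtain ⟨x, hx⟩ : ∃ x, D.q ^ 3 = x := ⟨_, rfl⟩
      have h7 : D.q ^ 6 = x ^ 2 := by rw [← hx, ← pow_mul]
      rw [h7, hx] at hn
      rw [hx] at hcon h6
      have h8 : x ≤ 4 * u := by omega
      have h9 : x ^ 4 ≤ 256 * u ^ 4 := by
        calc x ^ 4 ≤ (4 * u) ^ 4 := Nat.pow_le_pow_left h8 4
          _ = 256 * u ^ 4 := by ring
      have h10 : x ^ 4 ≤ 256 * (4 * (x ^ 2 + x + 1) + 1) := by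
        refine h9.trans (Nat.mul_le_mul_left _ (hle.trans ?_))
        omega
      linarith only [hle, hn, h9, Nat.mul_le_mul h6 h6, Nat.mul_le_mul (Nat.mul_le_mul h6 h6) (le_refl (x * x)), Nat.mul_le_mul h6 (le_refl x)]
    have hBd : |B| * D.d < D.q ^ 3 := by
      have h6 : |B| * D.d ≤ ((u : ℤ) + 1) * 3 := by nlinarith only [hB, hd]
      have h7 : (3 : ℤ) * (u + 1) < (D.q : ℤ) ^ 3 := by exact_mod_cast hu3
      linarith only [hu3, h6]
    have h6 : 5 * (D.q : ℤ) ^ 3 ≤ D.q ^ 4 := by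
      rw [pow_succ (D.q : ℤ) 3, mul_comm]
      exact mul_le_mul_of_nonneg_left h4 (by positivity)
    have hg1 : (1 : ℤ) ≤ g := by rcases hg with h | h | h <;> rw [h] <;> norm_num
    have hg4 : (g : ℤ) ≤ 4 := by rcases hg with h | h | h <;> rw [h] <;> norm_num
    -- a sharper bound
    have hu4 : (D.d : ℤ) * (u + 1) < (D.q : ℤ) ^ 4 - 4 * D.q ^ 3 - D.q ^ 2 + 1 := by
      rcases Nat.lt_or_ge D.q 7 with h7 | h7
      · have hsm := small D (by omega)
        simp only [List.mem_cons, List.not_mem_nil, or_false, Prod.mk.injEq] at hsm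
        have hq5 : D.q = 5 ∧ D.d ≤ 3 ∧ D.n ≤ 15751 := by
          rcases hsm with ⟨h3, -, h4, h6⟩ | ⟨h3, -, h4, h6⟩ | ⟨h3, -, h4, h6⟩ | ⟨h3, -, h4, h6⟩ | ⟨h3, -, h4, h6⟩ |
            ⟨h3, -, h4, h6⟩ | ⟨h3, -, h4, h6⟩ | ⟨h3, -, h4, h6⟩ | ⟨h3, -, h4, h6⟩ | ⟨h3, -, h4, h6⟩ | ⟨h3, -, h4, h6⟩ |
            ⟨h3, -, h4, h6⟩ |
            ⟨h3, -, h4, h6⟩ | ⟨h3, -, h4, h6⟩ <;> (clear * - h5 h7 h3 h4 h6; omega)
        obtain ⟨h8, h9, h10⟩ := hq5
        rw [h8]
        have hu15 : u ≤ 16 := by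
          by_contra hcon
          have : 17 ^ 4 ≤ u ^ 4 := Nat.pow_le_pow_left (by omega) 4
          omega
        have : (u : ℤ) ≤ 16 := by exact_mod_cast hu15
        have h9' : (D.d : ℤ) * (u + 1) ≤ 3 * (u + 1) := mul_le_mul_of_nonneg_right hd (by positivity)
        push_cast
        linarith only [hu15, h9']
      · have h8 : (7 : ℤ) ≤ D.q := by exact_mod_cast h7
        have h9 : (3 : ℤ) * (u + 1) < (D.q : ℤ) ^ 3 := by exact_mod_cast hu3
        have h10 : 7 * (D.q : ℤ) ^ 3 ≤ D.q ^ 4 := by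
          rw [pow_succ (D.q : ℤ) 3, mul_comm]
          exact mul_le_mul_of_nonneg_left h8 (by positivity)
        have h11 : (D.q : ℤ) ^ 2 * 7 ≤ D.q ^ 3 := by
          rw [pow_succ (D.q : ℤ) 2]
          exact mul_le_mul_of_nonneg_left h8 (by positivity)
        have h12 : (D.d : ℤ) * (u + 1) ≤ 3 * (u + 1) := mul_le_mul_of_nonneg_right hd (by positivity)
        have h13 : (0 : ℤ) ≤ (D.q : ℤ) ^ 2 := by positivity
        linarith only [hu3, h10, h11, h12]
    have h1' : |(g : ℤ)| * D.q ^ 3 + |B| * D.d < D.m := by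
      rw [abs_of_pos (by linarith only [hg1] : (0 : ℤ) < g), D.hm]
      have h9 : (g : ℤ) * (D.q : ℤ) ^ 3 ≤ 4 * D.q ^ 3 := mul_le_mul_of_nonneg_right hg4 (by positivity)
      have h10 : |B| * D.d ≤ D.d * ((u : ℤ) + 1) := by
        rw [mul_comm]
        exact mul_le_mul_of_nonneg_left hB hd0.le
      linarith only [hu4, h9, h10]
    have h2 := D.kill h h1'
    have h3 : |(g : ℤ) * D.ε * (D.q : ℤ) ^ 3| = |B * (D.d : ℤ)| := by
      rw [eq_neg_of_add_eq_zero_left h2, abs_neg]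
    rw [abs_mul, abs_mul, D.eps_abs, abs_mul, abs_of_pos (by linarith only [hg1] : (0 : ℤ) < g), mul_one, abs_of_pos hd0,
      abs_of_nonneg (show (0 : ℤ) ≤ (D.q : ℤ) ^ 3 by positivity)] at h3
    nlinarith only [hB, hd, hu3, hg1, h3]

/-- both classes of `u ^ (2 (k - 1)) - 1` for even `u` -/
theorem both {u k : ℕ} (hu : 2 ≤ u) (he : Even u) (hk : 4 ≤ k) (h1 : D.n = u ^ k + 1)
    (h2 : u ^ (2 * (k - 1)) - 1 ∣ D.e) : False := by
  have he0 : 0 < D.e := Nat.pos_of_ne_zero fun h => D.e_odd (h ▸ dvd_zero _)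
  have h3 := Nat.le_of_dvd he0 h2
  have h4 : u ^ 2 * u ^ k ≤ D.e + 1 := by
    have h5 : u ^ (2 + k) ≤ u ^ (2 * (k - 1)) := Nat.pow_le_pow_right (by omega) (by omega)
    rw [pow_add] at h5
    omega
  have h5 : 4 * (D.n - 1) ≤ D.e + 1 := by
    have h6 : 4 ≤ u ^ 2 := by nlinarith only [hu]
    have h7 : D.n - 1 = u ^ k := by omega
    rw [h7]
    exact (Nat.mul_le_mul_right _ h6).trans h4
  rcases Nat.lt_or_ge D.q 4 with hq | hq
  · have hsm := small D (by omega)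
    obtain ⟨n, hn'⟩ : ∃ n, D.n = n := ⟨_, rfl⟩
    rw [hn'] at hsm h1
    have hn : n ∈ [73, 19, 757, 703] := by
      simp only [List.mem_cons, List.not_mem_nil, or_false, Prod.mk.injEq] at hsm
      rcases hsm with ⟨h3, -, -, h4⟩ | ⟨h3, -, -, h4⟩ | ⟨h3, -, -, h4⟩ | ⟨h3, -, -, h4⟩ | ⟨h3, -, -, h4⟩ |
        ⟨h3, -, -, h4⟩ | ⟨h3, -, -, h4⟩ | ⟨h3, -, -, h4⟩ | ⟨h3, -, -, h4⟩ | ⟨h3, -, -, h4⟩ | ⟨h3, -, -, h4⟩ |
        ⟨h3, -, -, h4⟩ |
        ⟨h3, -, -, h4⟩ | ⟨h3, -, -, h4⟩ <;> rw [h3] at hq <;> first | omega | (rw [h4]; decide)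
    have h16 : 16 ∣ n - 1 := by
      rw [h1, Nat.add_sub_cancel]
      obtain ⟨v, hv⟩ := even_iff_two_dvd.1 he
      have h9 : 2 ^ 4 ∣ u ^ 4 := pow_dvd_pow_of_dvd ⟨v, hv⟩ 4
      exact h9.trans (pow_dvd_pow u hk)
    have key : ∀ n ∈ [73, 19, 757, 703], ¬ 16 ∣ n - 1 := by decide
    exact key n hn h16
  · have h6 : (4 : ℤ) * (D.n - 1) ≤ D.e + 1 := by
      have := D.one_lt_n
      have h7 : (4 * (D.n - 1) : ℕ) ≤ D.e + 1 := h5
      have h8 : ((4 * (D.n - 1) : ℕ) : ℤ) ≤ ((D.e + 1 : ℕ) : ℤ) := by exact_mod_cast h7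
      rw [Nat.cast_mul, Nat.cast_sub (by omega)] at h8
      push_cast at h8
      exact h8
    have h7 : (3 : ℤ) * D.n ≥ (D.q : ℤ) ^ 6 - D.q ^ 3 + 1 := by
      have h8 := D.hn
      have hd : (D.d : ℤ) ≤ 3 := by rcases D.hd with h | h <;> rw [h] <;> norm_num
      have h9 : (D.d : ℤ) * D.n ≤ 3 * D.n := mul_le_mul_of_nonneg_right hd (by positivity)
      have h10 : (0 : ℤ) ≤ (D.q : ℤ) ^ 3 := by positivity
      rcases D.eps with h | h <;> rw [h] at h8 <;> linarith only [h8, h9, h10]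
    have h8 : (D.e : ℤ) ≤ (D.q : ℤ) ^ 6 + D.q ^ 5 - D.q ^ 3 + D.q + 1 := by
      rw [D.he, D.hm]
      have h10 : (0 : ℤ) ≤ (D.q : ℤ) := by positivity
      rcases D.eps with h | h <;> rw [h]
      · linarith only []
      · nlinarith only [mul_nonneg h10 (sq_nonneg ((D.q : ℤ) ^ 2 - 1))]
    have h9 : (4 : ℤ) ≤ D.q := by exact_mod_cast hq
    have h10 : 4 * (D.q : ℤ) ^ 5 ≤ D.q ^ 6 := by
      rw [pow_succ (D.q : ℤ) 5, mul_comm]
      exact mul_le_mul_of_nonneg_left h9 (by positivity)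
    have h11 : (D.q : ℤ) ^ 3 * 16 ≤ D.q ^ 5 := by
      have : (D.q : ℤ) ^ 5 = D.q ^ 3 * D.q ^ 2 := by ring
      rw [this]
      exact mul_le_mul_of_nonneg_left (by nlinarith only [hq]) (by positivity)
    have h12 : (16 : ℤ) * D.q ≤ D.q ^ 3 := by
      have : (D.q : ℤ) ^ 3 = D.q ^ 2 * D.q := by ring
      rw [this]
      exact mul_le_mul_of_nonneg_right (by nlinarith only [hq]) (by positivity)
    linarith only [hq, h6, h7, h8, h10, h11, h12]

end num

section common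

variable {D : Dat} {F : Type*} [Field F] [Finite F] {ι : Type} [Fintype ι] [DecidableEq ι]
  {Q : QuadraticForm F (ι → F)} {k : ℕ} {ε₀ : ℤ}

theorem t_ne_two {t : ℕ} (ht : t.Prime) (htm : t ∣ D.m) : t ≠ 2 := by
  have := D.prime_m_ge ht htm
  omega

theorem t_char (hQ : Sg Q k ε₀) (hk : 4 ≤ k) (h : Sit D (POmega F ⇑Q)) {t : ℕ} (ht : t.Prime) (htm : t ∣ D.m) :
    ¬ t ∣ Nat.card F := by
  intro hd
  have := Fintype.ofFinite F
  refine h.not_adj_two_m htm (Cfsg.Agent.H182.Cent.adj_two_of_char hQ hk ht (t_ne_two ht htm) ?_)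
  obtain ⟨c, hc⟩ := CharP.exists F
  obtain ⟨f, hcp, hf⟩ := FiniteField.card F c
  rw [Nat.card_eq_fintype_card, hf] at hd
  have h3 := (Nat.prime_dvd_prime_iff_eq ht hcp).1 (ht.dvd_of_dvd_pow hd)
  rw [h3]
  exact CharP.cast_eq_zero F c

theorem t_small (hQ : Sg Q k ε₀) (hk : 4 ≤ k) (h : Sit D (POmega F ⇑Q)) {t j : ℕ} (ht : t.Prime) (htm : t ∣ D.m)
    (hj : 1 ≤ j) (hjk : j + 2 ≤ k) : ¬ t ∣ Nat.card F ^ (2 * j) - 1 := fun hd =>
  h.not_adj_two_m htm (Cfsg.Agent.H182.Cent.adj_two_of_dvd hQ hk hj hjk ht (t_ne_two ht htm) hd)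

/-- Lagrange -/
theorem t_red {X : ℕ} (hQ : Sg Q k ε₀) (hk : 4 ≤ k) (h : Sit D (POmega F ⇑Q))
    (hcard : Nat.card (POmega F ⇑Q) ∣ Nat.card F ^ (k * (k - 1)) * X *
      ∏ i ∈ Finset.range (k - 1), (Nat.card F ^ (2 * (i + 1)) - 1)) :
    D.m ∣ X * (Nat.card F ^ (2 * (k - 1)) - 1) := by
  have hfin : Finite (Cfsg.isometryGroup F ⇑Q) := inferInstance
  have h1 := h.m_dvd_card.trans hcard
  obtain ⟨j, rfl⟩ : ∃ j, k = j + 2 := ⟨k - 2, by omega⟩
  rw [show j + 2 - 1 = j + 1 by omega, Finset.prod_range_succ] at h1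
  rw [show j + 2 - 1 = j + 1 by omega]
  have h2 : D.m ∣ Nat.card F ^ ((j + 2) * (j + 1)) * ((∏ i ∈ Finset.range j, (Nat.card F ^ (2 * (i + 1)) - 1)) *
      (X * (Nat.card F ^ (2 * (j + 1)) - 1))) := by
    refine h1.trans (dvd_of_eq ?_)
    ring
  have h3 := dvd_of_primes h2 fun r hr hrn hd => t_char hQ hk h hr hrn (hr.dvd_of_dvd_pow hd)
  exact dvd_of_primes h3 fun r hr hrn => not_dvd_prod (fun i hi => by
    rw [Finset.mem_range] at hi
    exact t_small hQ hk h hr hrn (j := i + 1) (by omega) (by omega)) hr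

theorem sq_fac (u j : ℕ) : u ^ (2 * j) - 1 = (u ^ j + 1) * (u ^ j - 1) := by
  have := Nat.sq_sub_sq (u ^ j) 1
  rwa [one_pow, ← pow_mul, mul_comm j 2] at this

/-- `t ∤ u ^ j - 1` for even `j` -/
theorem t_even (hQ : Sg Q k ε₀) (hk : 4 ≤ k) (h : Sit D (POmega F ⇑Q)) {t j : ℕ} (ht : t.Prime) (htm : t ∣ D.m)
    (hj : Even j) (hj1 : 1 ≤ j) (hjk : j ≤ k) : ¬ t ∣ Nat.card F ^ j - 1 := by
  obtain ⟨i, rfl⟩ := hj
  rw [← two_mul]
  exact t_small hQ hk h ht htm (by omega) (by omega)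

/-- an order -/
theorem exists_div (hQ : Sg Q k ε₀) (hk : 4 ≤ k) (h : Sit D (POmega F ⇑Q)) {N : ℕ} (hN : Elt F k ε₀ N) {s : ℕ}
    (hs : s.Prime) (hsn : s ∣ D.n) (hsN : s ∣ N) : N ∣ 4 * D.n := by
  have hfin : Finite (Cfsg.isometryGroup F ⇑Q) := inferInstance
  obtain ⟨x, hx⟩ := Cfsg.Agent.H156.TDRow.exists_of_elt hQ (by omega) hN
  have hs2 : s ≠ 2 := fun h => D.n_odd (h ▸ hsn)
  have h3 : s ∣ N / N.gcd 4 := by
    have h4 : s ∣ N / N.gcd 4 * N.gcd 4 := by
      rw [Nat.div_mul_cancel (Nat.gcd_dvd_left _ _)]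
      exact hsN
    rcases hs.dvd_mul.1 h4 with h5 | h5
    · exact h5
    · exfalso
      have h6 : s ∣ 2 ^ 2 := h5.trans (Nat.gcd_dvd_right _ _)
      exact hs2 ((Nat.prime_dvd_prime_iff_eq hs Nat.prime_two).1 (hs.dvd_of_dvd_pow h6))
  have h4 : N / N.gcd 4 ∣ D.n := hx.trans (h.dvd_n ⟨x, rfl⟩ hs (h3.trans hx) hsn)
  have h5 := Nat.mul_dvd_mul (Nat.gcd_dvd_right N 4) h4
  rwa [mul_comm (N.gcd 4), Nat.div_mul_cancel (Nat.gcd_dvd_left _ _)] at h5

end common

end Cfsg.Agent.R2.Spec.X1.E6.I9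
end
end

-- part: R2/Spec/X1/E6/I9/Lin_mg
section
prune_inst 0x12000401c40000000000004120002042000000000200001e800000008004302804001000c801102100c128010040000000000400040000004003000000201208002c40072910d08800011800004400000000000000000000000000000000004000000000
set_option linter.all false
open scoped Cfsg.Agent.FastGrp

-- part: R2/Spec/X1/E6/I9/Lin
section
/-!
# `E₆(q)`, `²E₆(q)`, row `PSL_k(u)`, `k ≥ 3` (helper977, S3480, S3481)
-/

set_option autoImplicit false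

namespace Cfsg.Agent.R2.Spec.X1.E6.I9

open Cfsg.Agent.R2.Spec.X1.E6 Cfsg.Agent.H72.F4I.Iso Cfsg.Agent.H72 Cfsg.Agent.H72.AdjPSL Cfsg.Agent.H72.AdjOrth

section num

variable {D : Dat}

/-- the numbers, first case -/
theorem lin_dead_one {g u k : ℕ} (hu : 2 ≤ u) (hk : 3 ≤ k) (hg0 : 0 < g) (hgk : g ∣ k) (hgu : g ∣ u - 1)
    (h1 : D.n * g * (u - 1) = u ^ k - 1) (h2 : (D.m : ℤ) ∣ g * D.n - 1) : False := by
  have hdead : g = 1 ∨ (g : ℤ) + 1 ≤ D.q → False := fun h => by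
    refine dead_one (D := D) (A := g) (B := -1) (by exact_mod_cast hg0) (Or.inr rfl) ?_ (by simpa [sub_eq_add_neg] using h2)
    rcases h with h | h
    · left; exact_mod_cast h
    · exact Or.inr h
  have hg1 : g ≠ 1 := fun h => hdead (Or.inl h)
  have hgq : D.q ≤ g := by
    by_contra hcon
    exact hdead (Or.inr (by exact_mod_cast (by omega : g + 1 ≤ D.q)))
  have hgk' : g ≤ k := Nat.le_of_dvd (by omega) hgk
  have hgu' : g + 1 ≤ u := by
    have := Nat.le_of_dvd (by omega) hgu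
    omega
  -- `u ^ (k - 1) ≤ n g`
  have hle : u ^ (k - 1) ≤ D.n * g := by
    have h3 : u ^ k = u * u ^ (k - 1) := by rw [← pow_succ', Nat.sub_add_cancel (by omega)]
    have h4 : 1 ≤ u ^ (k - 1) := Nat.one_le_pow _ _ (by omega)
    obtain ⟨v, rfl⟩ : ∃ v, u = v + 1 := ⟨u - 1, by omega⟩
    rw [Nat.add_sub_cancel] at h1
    have h5 : (v + 1) ^ (k - 1) * v ≤ D.n * g * v := by
      rw [h1, h3]
      have : (v + 1) * (v + 1) ^ (k - 1) = (v + 1) ^ (k - 1) * v + (v + 1) ^ (k - 1) := by ring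
      omega
    exact Nat.le_of_mul_le_mul_right h5 (by omega)
  have hn : D.n ≤ D.q ^ 6 + D.q ^ 3 + 1 := by
    have h3 := D.hn
    have h4 : (1 : ℤ) ≤ D.d := by exact_mod_cast D.d_pos
    have h5 : (D.n : ℤ) ≤ D.d * D.n := by nlinarith only [h4]
    have h6 : D.ε * (D.q : ℤ) ^ 3 ≤ (D.q : ℤ) ^ 3 := by
      have : (0 : ℤ) ≤ (D.q : ℤ) ^ 3 := by (clear * -; positivity)
      rcases D.eps with h | h <;> rw [h] <;> linarith only [this]
    have h7 : (D.n : ℤ) ≤ (D.q : ℤ) ^ 6 + D.q ^ 3 + 1 := by linarith only [h3, h5, h6]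
    exact_mod_cast h7
  rcases Nat.lt_or_ge g 9 with hg9 | hg9
  · -- finitely many cases
    have hsm := small D (by omega)
    have hm := D.hm
    obtain ⟨n, hn'⟩ : ∃ n, D.n = n := ⟨_, rfl⟩
    obtain ⟨m, hm'⟩ : ∃ m : ℤ, (D.m : ℤ) = m := ⟨_, rfl⟩
    rw [hn'] at h2 hsm hle
    rw [hm'] at h2 hm
    simp only [List.mem_cons, List.not_mem_nil, or_false, Prod.mk.injEq] at hsm
    have key : ∀ n ∈ [73, 19, 757, 703, 1387, 4033, 15751, 5167, 39331, 117307, 262657, 87211, 532171, 530713], True := by simp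
    have h25 : n = 73 → g = 5 → False := by
      rintro rfl rfl
      have h3 : 6 ^ (k - 1) ≤ u ^ (k - 1) := Nat.pow_le_pow_left hgu' _
      have h4 : 6 ^ 4 ≤ 6 ^ (k - 1) := Nat.pow_le_pow_right (by norm_num) (by omega)
      omega
    rcases hsm with ⟨h3, -, -, h4⟩ | ⟨h3, -, -, h4⟩ | ⟨h3, -, -, h4⟩ | ⟨h3, -, -, h4⟩ | ⟨h3, -, -, h4⟩ |
      ⟨h3, -, -, h4⟩ | ⟨h3, -, -, h4⟩ | ⟨h3, -, -, h4⟩ | ⟨h3, -, -, h4⟩ | ⟨h3, -, -, h4⟩ | ⟨h3, -, -, h4⟩ |
      ⟨h3, -, -, h4⟩ |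
        ⟨h3, -, -, h4⟩ | ⟨h3, -, -, h4⟩ <;> rw [h3] at hm hgq <;> norm_num at hm <;> subst hm <;> subst h4 <;> clear hn key hdead h1 <;>
      interval_cases g <;> first | (exact h25 rfl rfl) | (norm_num at h2)
  · -- `(g + 1) ^ (g - 1) ≤ g ((g + 1) ^ 6 + (g + 1) ^ 3 + 1)`
    have h3 : (g + 1) ^ 8 ≤ u ^ (k - 1) :=
      (Nat.pow_le_pow_left hgu' 8).trans (Nat.pow_le_pow_right (by omega) (by omega))
    have h4 : D.n ≤ g ^ 6 + g ^ 3 + 1 := hn.trans (by gcongr)
    have h5 : (g + 1) ^ 8 ≤ (g ^ 6 + g ^ 3 + 1) * g := (h3.trans hle).trans (Nat.mul_le_mul_right g h4)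
    have h6 : (g ^ 6 + g ^ 3 + 1) * g < (g + 1) ^ 8 := by
      have h7 : g ^ 3 + 1 ≤ g ^ 6 := by
        have : g ^ 6 = g ^ 3 * g ^ 3 := by ring
        have h8 : 2 ≤ g ^ 3 := by
          calc 2 ≤ 2 ^ 3 := by norm_num
            _ ≤ g ^ 3 := Nat.pow_le_pow_left (by omega) 3
        nlinarith only [h8]
      calc (g ^ 6 + g ^ 3 + 1) * g ≤ (g ^ 6 + g ^ 6) * g := Nat.mul_le_mul_right g (by omega)
        _ = 2 * g ^ 7 := by ring
        _ ≤ g * g ^ 7 := Nat.mul_le_mul_right _ (by omega)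
        _ = g ^ 8 := by ring
        _ < (g + 1) ^ 8 := Nat.pow_lt_pow_left (by omega) (by norm_num)
    omega

/-- the numbers, second case -/
theorem lin_dead_two {u k : ℕ} (hu : 2 ≤ u) (hk : 3 ≤ k) (hk' : u - 1 ∣ k)
    (h1 : D.n * (u - 1) = u ^ (k - 1) - 1) (h2 : (D.m : ℤ) ∣ u * D.n + 1) : False := by
  have hqu : D.q ≤ u := by
    by_contra hcon
    exact dead_one (D := D) (A := u) (B := 1) (by exact_mod_cast (by omega : 0 < u)) (Or.inl rfl)
      (Or.inr (by exact_mod_cast (by omega : u + 1 ≤ D.q))) h2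
  have hn : D.n ≤ D.q ^ 6 + D.q ^ 3 + 1 := by
    have h3 := D.hn
    have h4 : (1 : ℤ) ≤ D.d := by exact_mod_cast D.d_pos
    have h5 : (D.n : ℤ) ≤ D.d * D.n := by nlinarith only [h4]
    have h6 : D.ε * (D.q : ℤ) ^ 3 ≤ (D.q : ℤ) ^ 3 := by
      have : (0 : ℤ) ≤ (D.q : ℤ) ^ 3 := by positivity
      rcases D.eps with h | h <;> rw [h] <;> linarith only [this]
    have h7 : (D.n : ℤ) ≤ (D.q : ℤ) ^ 6 + D.q ^ 3 + 1 := by linarith only [h3, h5, h6]
    exact_mod_cast h7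
  have h3 : 1 ≤ u ^ (k - 1) := Nat.one_le_pow _ _ (by omega)
  have h1' : D.n * (u - 1) + 1 = u ^ (k - 1) := by omega
  -- `k ≤ 8`
  have hk8 : k ≤ 8 := by
    by_contra hcon
    have h4 : u ^ (k - 1) = u * u ^ (k - 2) := by rw [← pow_succ']; congr 1; omega
    have h5 : u ^ 7 ≤ u ^ (k - 2) := Nat.pow_le_pow_right (by omega) (by omega)
    have h6 : D.n ≤ u ^ 6 + u ^ 3 + 1 := hn.trans (by gcongr)
    have h7 : u ^ 6 + u ^ 3 + 1 < u ^ 7 := by
      have h8 : u ^ 3 + 1 < u ^ 6 := by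
        have : u ^ 6 = u ^ 3 * u ^ 3 := by ring
        have h8 : 2 ^ 3 ≤ u ^ 3 := Nat.pow_le_pow_left (by omega) 3
        nlinarith only [h8]
      calc u ^ 6 + u ^ 3 + 1 < 2 * u ^ 6 := by omega
        _ ≤ u * u ^ 6 := Nat.mul_le_mul_right _ hu
        _ = u ^ 7 := by ring
    have h8 : D.n + 1 ≤ u ^ (k - 2) := by omega
    have h9 : (D.n + 1) * u ≤ u ^ (k - 1) := by rw [h4, mul_comm]; exact Nat.mul_le_mul_left u h8
    have h10 : D.n * (u - 1) ≤ D.n * u := Nat.mul_le_mul_left _ (by omega)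
    rw [← h1', add_mul, one_mul] at h9
    omega
  have hu9 : u ≤ 9 := by
    have := Nat.le_of_dvd (by omega) hk'
    omega
  have hsm := small D (by omega)
  obtain ⟨n, hn'⟩ : ∃ n, D.n = n := ⟨_, rfl⟩
  rw [hn'] at hsm h1'
  simp only [List.mem_cons, List.not_mem_nil, or_false, Prod.mk.injEq] at hsm
  have key : ∀ n ∈ [73, 19, 757, 703, 1387, 4033, 15751, 5167, 39331, 117307, 262657, 87211, 532171, 530713],
    ∀ u ∈ [2, 3, 4, 5, 6, 7, 8, 9], ∀ k ∈ [3, 4, 5, 6, 7, 8], n * (u - 1) + 1 = u ^ (k - 1) → ¬ u - 1 ∣ k := by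
    decide +kernel
  have hnm : n ∈ [73, 19, 757, 703, 1387, 4033, 15751, 5167, 39331, 117307, 262657, 87211, 532171, 530713] := by
    rcases hsm with ⟨-, -, -, h4⟩ | ⟨-, -, -, h4⟩ | ⟨-, -, -, h4⟩ | ⟨-, -, -, h4⟩ | ⟨-, -, -, h4⟩ |
      ⟨-, -, -, h4⟩ | ⟨-, -, -, h4⟩ | ⟨-, -, -, h4⟩ | ⟨-, -, -, h4⟩ | ⟨-, -, -, h4⟩ | ⟨-, -, -, h4⟩ |
      ⟨-, -, -, h4⟩ |
        ⟨-, -, -, h4⟩ | ⟨-, -, -, h4⟩ <;> rw [h4] <;> decide
  refine key n hnm u ?_ k ?_ h1' hk'
  · clear key hnm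
    interval_cases u <;> decide
  · interval_cases k <;> decide

end num

section row

variable {D : Dat} {F : Type*} [Field F] [Fintype F] {k : ℕ}

theorem wL_two : wL (Fintype.card F) 2 = 2 := by
  rw [wL, if_pos]
  have := Fintype.one_lt_card (α := F)
  omega

/-- the prime divisors of `m` do not divide the small factors -/
theorem psl_small (hk : 3 ≤ k) (h : Sit D (Matrix.ProjectiveSpecialLinearGroup (Fin k) F)) {t : ℕ} (ht : t.Prime)
    (htm : t ∣ D.m) : ¬ t ∣ Nat.card F ∧ ∀ j, 1 ≤ j → j + 2 ≤ k → ¬ t ∣ Nat.card F ^ j - 1 := by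
  have ht13 := D.prime_m_ge ht htm
  have hno : ¬ ∃ z : Matrix.ProjectiveSpecialLinearGroup (Fin k) F, orderOf z = t * 2 := by
    rw [mul_comm]
    exact h.not_two_m ht htm
  have hu : Nat.card F = Fintype.card F := Nat.card_eq_fintype_card
  have hu2 := Fintype.one_lt_card (α := F)
  rw [hu]
  rcases Nat.lt_or_ge k 4 with hk4 | hk4
  · obtain rfl : k = 3 := by omega
    obtain ⟨p, hp⟩ := CharP.exists F
    have hpf : Fact p.Prime := ⟨CharP.char_is_prime F p⟩
    have hspec := fun N => (H964.PrimeGraph.mem_spec3 (F := F) p N)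
    obtain ⟨f, -, hf⟩ := FiniteField.card F p
    have hgt : Nat.Coprime t (Nat.gcd 3 (Fintype.card F - 1)) := by
      rw [Nat.Prime.coprime_iff_not_dvd ht]
      intro hd
      have := Nat.le_of_dvd (by norm_num) (hd.trans (Nat.gcd_dvd_left _ _))
      omega
    have h2t : Nat.Coprime t 2 := (Nat.coprime_primes ht Nat.prime_two).2 (by omega)
    have hg2 : Nat.Coprime 2 (Nat.gcd 3 (Fintype.card F - 1)) :=
      Nat.Coprime.coprime_dvd_right (Nat.gcd_dvd_left _ _) (by norm_num)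
    -- an element of order `t * 2`
    have h1 : t ∣ Fintype.card F - 1 → False := by
      intro hd
      apply hno
      rw [hspec]
      rcases hpf.out.eq_two_or_odd with hp2 | hp2
      · right; right; right; left
        apply Nat.dvd_div_of_mul_dvd
        have h3 : Nat.gcd 3 (Fintype.card F - 1) * t ∣ Fintype.card F - 1 :=
          Nat.Coprime.mul_dvd_of_dvd_of_dvd hgt.symm (Nat.gcd_dvd_right _ _) hd
        rw [hp2, ← mul_assoc, mul_comm _ 2]
        exact Nat.mul_dvd_mul_left 2 h3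
      · right; right; left
        have h3 : 2 ∣ Fintype.card F - 1 := by
          have : Odd (Fintype.card F) := by rw [hf]; exact (Nat.odd_iff.2 hp2).pow
          have := Nat.odd_iff.1 this
          omega
        exact h2t.mul_dvd_of_dvd_of_dvd hd h3
    refine ⟨?_, ?_⟩
    · intro hd
      rw [hf] at hd
      have htp := (Nat.prime_dvd_prime_iff_eq ht hpf.out).1 (ht.dvd_of_dvd_pow hd)
      apply hno
      rw [hspec]
      right; right; right; left
      apply Nat.dvd_div_of_mul_dvd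
      have h3 : 2 ∣ Fintype.card F - 1 := by
        have : Odd (Fintype.card F) := by
          rw [hf]
          exact (Nat.odd_iff.2 (hpf.out.eq_two_or_odd.resolve_left (by omega))).pow
        have := Nat.odd_iff.1 this
        omega
      have h4 : Nat.gcd 3 (Fintype.card F - 1) * 2 ∣ Fintype.card F - 1 :=
        Nat.Coprime.mul_dvd_of_dvd_of_dvd hg2.symm (Nat.gcd_dvd_right _ _) h3
      rw [htp, ← mul_assoc, mul_comm _ p, mul_assoc]
      exact Nat.mul_dvd_mul_left p h4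
    · intro j hj hj2 hd
      obtain rfl : j = 1 := by omega
      rw [pow_one] at hd
      exact h1 hd
  · have hw : k < wL (Fintype.card F) t + 2 := by
      by_contra hcon
      refine hno (adj_of_wL (F := F) ht Nat.prime_two (by omega) ?_)
      rw [wL_two]
      omega
    have hnot : ¬ (t ∣ Fintype.card F ∨ t ∣ Fintype.card F - 1) := by
      intro h3
      rw [wL, if_pos h3] at hw
      omega
    rw [wL, if_neg hnot] at hw
    rw [not_or] at hnot
    refine ⟨hnot.1, ?_⟩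
    intro j hj hj2 hd
    have h3 := Nat.le_of_dvd (by omega) (ee_dvd (by omega) hd)
    omega

/-- Lagrange -/
theorem psl_dvd (hk : 3 ≤ k) (h : Sit D (Matrix.ProjectiveSpecialLinearGroup (Fin k) F)) :
    D.m ∣ (Nat.card F ^ (k - 1) - 1) * (Nat.card F ^ k - 1) := by
  obtain ⟨q, hq⟩ : ∃ q, Nat.card F = q := ⟨_, rfl⟩
  have hsm := fun {t : ℕ} (ht : t.Prime) (htm : t ∣ D.m) => psl_small hk h ht htm
  rw [hq] at hsm ⊢
  have h1 := S0243.result (F := F) (q := q) (by rw [← hq, Nat.card_eq_fintype_card]) k (by omega)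
  have h2 : D.m ∣ ∏ i : Fin k, (q ^ k - q ^ (i : ℕ)) := by
    rw [← h1]
    exact (h.m_dvd_card.mul_left _).mul_left _
  rw [Fin.prod_univ_eq_prod_range (fun i => q ^ k - q ^ i) k] at h2
  obtain ⟨t, rfl⟩ : ∃ t, k = t + 2 := ⟨k - 2, by omega⟩
  rw [Finset.prod_range_succ', Finset.prod_range_succ', mul_assoc] at h2
  have h3 := dvd_of_primes h2 fun r hr hrk => not_dvd_prod (fun i hi => by
    rw [Finset.mem_range] at hi
    have e : q ^ (t + 2) - q ^ (i + 1 + 1) = q ^ (i + 2) * (q ^ (t - i) - 1) := by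
      rw [Nat.mul_sub, mul_one, ← pow_add]
      congr 2
      omega
    rw [e]
    intro hd
    rcases (Nat.Prime.dvd_mul hr).1 hd with h4 | h4
    · exact (hsm hr hrk).1 (hr.dvd_of_dvd_pow h4)
    · exact (hsm hr hrk).2 (t - i) (by omega) (by omega) h4) hr
  have e : q ^ (t + 2) - q ^ (0 + 1) = q * (q ^ (t + 1) - 1) := by
    rw [Nat.mul_sub, mul_one, zero_add, pow_one, pow_succ, mul_comm]
  rw [e, mul_assoc] at h3
  have h4 := dvd_of_primes h3 fun r hr hrk => (hsm hr hrk).1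
  rw [pow_zero] at h4
  exact h4

/-- **Row `PSL_k(u)`, `k ≥ 3`.** -/
theorem row_psl (hk : 3 ≤ k) (h : Sit D (Matrix.ProjectiveSpecialLinearGroup (Fin k) F)) : False := by
  have hrow := psl_row hk (isoN h)
  have hdvd := psl_dvd hk h
  have hsm := fun {t : ℕ} (ht : t.Prime) (htm : t ∣ D.m) => psl_small hk h ht htm
  have hu2 : 2 ≤ Nat.card F := Finite.one_lt_card
  obtain ⟨u, hu⟩ : ∃ u, Nat.card F = u := ⟨_, rfl⟩
  rw [hu] at hrow hdvd hsm hu2
  have hg0 : 0 < Nat.gcd k (u - 1) := Nat.gcd_pos_of_pos_left _ (by omega)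
  have hgu : Nat.gcd k (u - 1) ∣ u - 1 := Nat.gcd_dvd_right _ _
  have hu1 : ∀ {t : ℕ}, t.Prime → t ∣ D.m → ¬ t ∣ u - 1 := fun ht htm hd =>
    (hsm ht htm).2 1 le_rfl (by omega) (by rwa [pow_one])
  have hco : IsCoprime (D.m : ℤ) ((u : ℤ) - 1) := by
    have h1 : Nat.Coprime D.m (u - 1) := coprime_m fun t ht htm => hu1 ht htm
    have h2 := Nat.isCoprime_iff_coprime.2 h1
    rwa [Nat.cast_sub (by omega), Nat.cast_one] at h2
  have hone : ∀ j, 1 ≤ u ^ j := fun j => Nat.one_le_pow _ _ (by omega)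
  have e1 : (u : ℤ) ^ k = u * (u : ℤ) ^ (k - 1) := by rw [← pow_succ', Nat.sub_add_cancel (by omega)]
  rcases hrow with ⟨h1, -⟩ | ⟨hd, h1, -⟩
  · -- first case
    have h3 : D.m ∣ u ^ (k - 1) - 1 := by
      rw [mul_comm] at hdvd
      refine dvd_of_primes hdvd fun t ht htm => ?_
      rw [← h1]
      exact not_mul ht (not_mul ht (not_dvd_n ht htm) fun h4 => hu1 ht htm (h4.trans hgu)) (hu1 ht htm)
    refine lin_dead_one (D := D) hu2 hk hg0 (Nat.gcd_dvd_left _ _) hgu h1 ?_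
    have h4 : (D.m : ℤ) ∣ (u : ℤ) ^ (k - 1) - 1 := by
      have := Int.natCast_dvd_natCast.2 h3
      rwa [Nat.cast_sub (hone _), Nat.cast_pow, Nat.cast_one] at this
    have h5 : (D.n : ℤ) * (Nat.gcd k (u - 1) : ℤ) * ((u : ℤ) - 1) = (u : ℤ) ^ k - 1 := by
      have := congrArg (Nat.cast : ℕ → ℤ) h1
      rwa [Nat.cast_mul, Nat.cast_mul, Nat.cast_sub (by omega), Nat.cast_sub (hone _), Nat.cast_pow, Nat.cast_one] at this
    apply hco.dvd_of_dvd_mul_left
    have h6 : ((u : ℤ) - 1) * ((Nat.gcd k (u - 1) : ℤ) * D.n - 1) = u * ((u : ℤ) ^ (k - 1) - 1) := by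
      linear_combination h5 + e1
    rw [h6]
    exact Dvd.dvd.mul_left h4 _
  · -- second case
    have h3 : D.m ∣ u ^ k - 1 := by
      refine dvd_of_primes hdvd fun t ht htm => ?_
      rw [← h1]
      exact not_mul ht (not_dvd_n ht htm) (hu1 ht htm)
    refine lin_dead_two (D := D) hu2 hk hd h1 ?_
    have h4 : (D.m : ℤ) ∣ (u : ℤ) ^ k - 1 := by
      have := Int.natCast_dvd_natCast.2 h3
      rwa [Nat.cast_sub (hone _), Nat.cast_pow, Nat.cast_one] at this
    have h5 : (D.n : ℤ) * ((u : ℤ) - 1) = (u : ℤ) ^ (k - 1) - 1 := by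
      have := congrArg (Nat.cast : ℕ → ℤ) h1
      rwa [Nat.cast_mul, Nat.cast_sub (by omega), Nat.cast_sub (hone _), Nat.cast_pow, Nat.cast_one] at this
    apply hco.dvd_of_dvd_mul_left
    have h6 : ((u : ℤ) - 1) * ((u : ℤ) * D.n + 1) = (u : ℤ) ^ k - 1 := by
      linear_combination (u : ℤ) * h5 - e1
    rwa [h6]

end row

end Cfsg.Agent.R2.Spec.X1.E6.I9
end

-- part: R2/Spec/X1/E6/I9/OrthRow
section
/-!
# `E₆(q)`, `²E₆(q)`, rows `PΩ^±_{2k}(u)`, `k ≥ 4` : the rows (helper977, S3480, S3481)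
-/

set_option autoImplicit false

namespace Cfsg.Agent.R2.Spec.X1.E6.I9

open Cfsg Cfsg.Agent.R2.Spec.X1.E6 Cfsg.Agent.H72.F4I.Iso Cfsg.Agent.H182.Orth Cfsg.Agent.H182.Sign
open Cfsg.Agent.H403.Classify
open Cfsg.Agent.LieClassical.OrthCore Cfsg.Agent.LieClassical.OrthForms

variable {D : Dat} {F : Type*} [Field F] [Fintype F] {ι : Type} [Fintype ι] [DecidableEq ι]
  {Q : QuadraticForm F (ι → F)} {k : ℕ}

/-- divisibility with integers -/
theorem cast_dvd {M A : ℕ} {B : ℤ} (h : M ∣ A) (hB : (A : ℤ) = B) : (M : ℤ) ∣ B := by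
  rw [← hB]
  exact Int.natCast_dvd_natCast.2 h

theorem odd_of_dvd {a : ℤ} (h : (D.m : ℤ) ∣ 2 * a) : (D.m : ℤ) ∣ a := by
  have h1 : IsCoprime (D.m : ℤ) 2 := by
    have := Nat.isCoprime_iff_coprime.2 ((Nat.Prime.coprime_iff_not_dvd Nat.prime_two).2 D.m_odd).symm
    exact_mod_cast this
  exact h1.dvd_of_dvd_mul_left h

theorem plus (hQ : Sg Q k 1) (hk : 4 ≤ k) {c : ℕ}
    (hcard : c * Nat.card (POmega F ⇑Q) = Nat.card F ^ (k * (k - 1)) * (Nat.card F ^ k - 1) *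
      ∏ i ∈ Finset.range (k - 1), (Nat.card F ^ (2 * (i + 1)) - 1)) (h : Sit D (POmega F ⇑Q)) : False := by
  have hrow := plus_row hQ hk hcard (isoN h)
  have hred := t_red hQ hk h (X := Nat.card F ^ k - 1) (hcard ▸ dvd_mul_left _ _)
  have hev := fun {t j : ℕ} (ht : t.Prime) (htm : t ∣ D.m) (hj : Even j) (hj1 : 1 ≤ j) (hjk : j ≤ k) =>
    t_even hQ hk h ht htm hj hj1 hjk
  have hdiv := fun {N : ℕ} (hN : Elt F k 1 N) {s : ℕ} (hs : s.Prime) (hsn : s ∣ D.n) (hsN : s ∣ N) =>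
    exists_div hQ hk h hN hs hsn hsN
  have helt : Elt F k 1 (Nat.card F ^ k - 1) := elt_tor_plus (by omega) dvd_rfl
  have hsm : ∀ {t : ℕ}, t.Prime → t ∣ D.m → ¬ t ∣ Nat.card F ^ 2 - 1 := fun ht htm => hev ht htm even_two (by norm_num) (by omega)
  have hu2 : 2 ≤ Nat.card F := Finite.one_lt_card
  obtain ⟨u, hu⟩ : ∃ u, Nat.card F = u := ⟨_, rfl⟩
  rw [hu] at hrow hred hev hsm hu2 helt
  have hone : ∀ j, 1 ≤ u ^ j := fun j => Nat.one_le_pow _ _ (by omega)
  have hu1 : ∀ {t : ℕ}, t.Prime → t ∣ D.m → ¬ t ∣ u - 1 := fun ht htm hd =>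
    hsm ht htm (hd.trans (by rw [show u ^ 2 - 1 = (u + 1) * (u - 1) by
      have := sq_fac u 1
      rwa [pow_one, mul_one] at this]; exact dvd_mul_left _ _))
  rw [sq_fac] at hred
  obtain ⟨s₀, hs₀, hs₀n⟩ := (isoN h).exists_prime
  have e1 : u ^ k = u * u ^ (k - 1) := by rw [← pow_succ', Nat.sub_add_cancel (by omega)]
  rcases hrow with ⟨hko, rfl, hn, -⟩ | ⟨hko, huo, hn, -⟩ | ⟨hke, rfl, hn, -⟩ | ⟨hke, rfl, hn, -⟩
  · -- `u = 2`, `k` odd
    have hk1 : Even (k - 1) := by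
      obtain ⟨l, hl⟩ := hko
      exact ⟨l, by omega⟩
    have h1 : D.m ∣ 2 ^ (k - 1) + 1 := by
      rw [← hn] at hred
      have h2 := dvd_of_primes hred fun t ht htm => not_dvd_n ht htm
      rw [mul_comm] at h2
      exact dvd_of_primes h2 fun t ht htm => hev ht htm hk1 (by omega) (by omega)
    refine dead_AB (D := D) (A := 1) (B := 3) (by norm_num) (by norm_num) (by norm_num) (by decide) ?_
    have h2 : D.m ∣ 2 * (2 ^ (k - 1) + 1) := h1.mul_left 2
    refine cast_dvd h2 ?_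
    have h3 := hone k
    have h4 : 2 * (2 ^ (k - 1) + 1) = D.n + 3 := by omega
    rw [h4]
    push_cast
    ring
  · -- `u`, `k` odd
    have hk1 : Even (k - 1) := by
      obtain ⟨l, hl⟩ := hko
      exact ⟨l, by omega⟩
    have h1 : D.m ∣ u ^ (k - 1) + 1 := by
      rw [← hn] at hred
      have h2 := dvd_of_primes hred fun t ht htm => not_mul ht (not_dvd_n ht htm) (hu1 ht htm)
      rw [mul_comm] at h2
      exact dvd_of_primes h2 fun t ht htm => hev ht htm hk1 (by omega) (by omega)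
    -- `u - 1 ∣ 4`
    have h2 : u ^ k - 1 ∣ 4 * D.n := hdiv helt hs₀ hs₀n (by rw [← hn]; exact hs₀n.mul_right _)
    rw [← hn, mul_comm] at h2
    have h3 : u - 1 ∣ 4 := Nat.dvd_of_mul_dvd_mul_right D.pos_n h2
    have h4 := Nat.le_of_dvd (by norm_num) h3
    have h6 : (D.m : ℤ) ∣ D.n * (u - 1) + (u + 1) := by
      refine cast_dvd (h1.mul_left u) ?_
      have h5 : D.n * (u - 1) + 1 = u ^ k := by have := hone k; omega
      have h7 : ((D.n * (u - 1) + 1 : ℕ) : ℤ) = ((u ^ k : ℕ) : ℤ) := by rw [h5]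
      rw [e1] at h7
      push_cast [show 1 ≤ u by omega] at h7 ⊢
      linear_combination -h7
    rcases (by
      obtain ⟨l, hl⟩ := huo
      (clear * - hu2 h4 hl; omega) : u = 3 ∨ u = 5) with rfl | rfl
    · refine dead_AB (D := D) (A := 1) (B := 2) (by norm_num) (by norm_num) (by norm_num) (by decide) ?_
      apply odd_of_dvd
      have : (2 : ℤ) * (1 * D.n + 2) = D.n * ((3 : ℕ) - 1) + ((3 : ℕ) + 1) := by push_cast; ring
      rw [this]
      exact h6
    · refine dead_AB (D := D) (A := 2) (B := 3) (by norm_num) (by norm_num) (by norm_num) (by decide) ?_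
      apply odd_of_dvd
      have : (2 : ℤ) * (2 * D.n + 3) = D.n * ((5 : ℕ) - 1) + ((5 : ℕ) + 1) := by push_cast; ring
      rw [this]
      exact h6
  · -- `u = 2`, `k` even
    have h1 : D.m ∣ (2 ^ (k - 1) + 1) * (2 ^ (k - 1) - 1) :=
      dvd_of_primes hred fun t ht htm => hev ht htm hke (by omega) le_rfl
    rw [← hn, mul_comm] at h1
    have h2 := dvd_of_primes h1 fun t ht htm => not_dvd_n ht htm
    refine dead_AB (D := D) (A := 1) (B := 2) (by norm_num) (by norm_num) (by norm_num) (by decide) ?_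
    refine cast_dvd h2 ?_
    have h3 := hone (k - 1)
    have h4 : 2 ^ (k - 1) + 1 = D.n + 2 := by omega
    rw [h4]
    push_cast
    ring
  · -- `u = 3`, `k` even
    have h1 : D.m ∣ (3 ^ (k - 1) + 1) * (3 ^ (k - 1) - 1) :=
      dvd_of_primes hred fun t ht htm => hev ht htm hke (by omega) le_rfl
    rw [← hn, mul_comm] at h1
    have h2 := dvd_of_primes h1 fun t ht htm => not_mul ht (fun h5 => t_ne_two ht htm
      ((Nat.prime_dvd_prime_iff_eq ht Nat.prime_two).1 h5)) (not_dvd_n ht htm)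
    refine dead_AB (D := D) (A := 1) (B := 1) (by norm_num) (by norm_num) (by norm_num) (by decide) ?_
    apply odd_of_dvd
    refine cast_dvd h2 ?_
    have h3 := hone (k - 1)
    have h4 : 3 ^ (k - 1) + 1 = 2 * D.n + 2 := by omega
    rw [h4]
    push_cast
    ring

theorem minus (hQ : Sg Q k (-1)) (hk : 4 ≤ k) {c : ℕ}
    (hcard : c * Nat.card (POmega F ⇑Q) = Nat.card F ^ (k * (k - 1)) * (Nat.card F ^ k + 1) *
      ∏ i ∈ Finset.range (k - 1), (Nat.card F ^ (2 * (i + 1)) - 1)) (h : Sit D (POmega F ⇑Q)) : False := by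
  have hfin : Finite (Cfsg.isometryGroup F ⇑Q) := inferInstance
  have hrow := minus_row hQ hk hcard (isoN h)
  have hred := t_red hQ hk h (X := Nat.card F ^ k + 1) (hcard ▸ dvd_mul_left _ _)
  have hev := fun {t j : ℕ} (ht : t.Prime) (htm : t ∣ D.m) (hj : Even j) (hj1 : 1 ≤ j) (hjk : j ≤ k) =>
    t_even hQ hk h ht htm hj hj1 hjk
  have hdiv := fun {N : ℕ} (hN : Elt F k (-1) N) {s : ℕ} (hs : s.Prime) (hsn : s ∣ D.n) (hsN : s ∣ N) =>
    exists_div hQ hk h hN hs hsn hsN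
  have helt : Elt F k (-1) (Nat.card F ^ k + 1) := elt_tor_minus (by omega) dvd_rfl
  have hsm : ∀ {t : ℕ}, t.Prime → t ∣ D.m → ¬ t ∣ Nat.card F ^ 2 - 1 := fun ht htm => hev ht htm even_two (by norm_num) (by omega)
  have hu2 : 2 ≤ Nat.card F := Finite.one_lt_card
  -- elements
  have hB : ∀ N : ℕ, Odd N → N ∣ Nat.card F ^ (k - 1) + 1 → ∃ x : POmega F ⇑Q, orderOf x = N := by
    intro N hN hd
    have h1 := (elt_tor_minus (F := F) (k := k - 1) (by omega) hd).extend (m := k) (by omega) (Or.inr rfl)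
      (δ := -1) (Or.inr rfl)
    exact exists_elt hQ hk (h1.odd hN (by omega)) (by rw [odd_div_gcd hN])
  have hC : ∀ N : ℕ, Odd N → N ∣ Nat.card F ^ (k - 1) - 1 → ∃ x : POmega F ⇑Q, orderOf x = N := by
    intro N hN hd
    have h1 := (elt_tor_plus (F := F) (k := k - 1) (by omega) hd).extend (m := k) (by omega) (Or.inl rfl)
      (δ := -1) (Or.inr rfl)
    exact exists_elt hQ hk (h1.odd hN (by omega)) (by rw [odd_div_gcd hN])
  have h3C : Nat.card F = 3 → Odd (k - 1) → ∃ x : POmega F ⇑Q, orderOf x = 3 ^ (k - 1) - 1 := by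
    intro h3 hk1
    have h8 : 3 ^ (k - 1) % 4 = 3 := by
      obtain ⟨l, hl⟩ := hk1
      rw [hl, pow_succ, pow_mul, Nat.mul_mod, Nat.pow_mod]
      norm_num
    obtain ⟨w, hw⟩ : ∃ w, 3 ^ (k - 1) = w := ⟨_, rfl⟩
    rw [hw] at h8
    obtain ⟨j, hj⟩ : ∃ j, 3 ^ (k - 1) - 1 = 2 * j := ⟨(w - 1) / 2, by rw [hw]; omega⟩
    have hjo : Odd j := by rw [Nat.odd_iff]; rw [hw] at hj; omega
    have hco : Nat.Coprime j 4 := (Nat.Coprime.pow_right 2 (Nat.coprime_two_right.2 hjo) : Nat.Coprime j (2 ^ 2))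
    have h1 : EltP F ((k - 1) + 1) (1 * -1) (Nat.lcm j 4) :=
      ((elt_tor_plus (F := F) (k := k - 1) (N := j) (by omega) (by rw [h3, hj]; exact dvd_mul_left _ _)).odd
        hjo (by omega)).prod (elt_ell (by rw [h3]))
    rw [show (k - 1) + 1 = k by omega, one_mul, hco.lcm_eq_mul] at h1
    refine exists_elt hQ hk h1 ?_
    rw [hj, show j * 4 = 2 * (2 * j) by ring, Nat.gcd_eq_right (dvd_mul_right 2 _),
      Nat.mul_div_cancel_left _ (by norm_num)]
  obtain ⟨u, hu⟩ : ∃ u, Nat.card F = u := ⟨_, rfl⟩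
  rw [hu] at hrow hred hev hsm hu2 helt hB hC h3C
  have hone : ∀ j, 1 ≤ u ^ j := fun j => Nat.one_le_pow _ _ (by omega)
  have hadd : ∀ {t : ℕ}, t.Prime → t ∣ D.m → ¬ t ∣ u + 1 := fun ht htm hd =>
    hsm ht htm (hd.trans (by rw [show u ^ 2 - 1 = (u + 1) * (u - 1) by
      have := sq_fac u 1
      rwa [pow_one, mul_one] at this]; exact dvd_mul_right _ _))
  rw [sq_fac] at hred
  obtain ⟨s₀, hs₀, hs₀n⟩ := (isoN h).exists_prime
  have e1 : u ^ k = u * u ^ (k - 1) := by rw [← pow_succ', Nat.sub_add_cancel (by omega)]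
  rcases hrow with ⟨hke, hue, hn, -⟩ | ⟨hke, huo, hn, x, hx⟩ | ⟨hko, huo, hn, -⟩ | ⟨hko, rfl, hn, -⟩ |
    ⟨rfl, A, B, a, b, oA, oB, eA, eB, hpar, hAB⟩
  · -- `u` even, `k` even
    rw [← hn] at hred
    have hred2 := dvd_of_primes hred fun t ht htm => not_dvd_n ht htm
    have oC : Odd (u ^ (k - 1) - 1) := by
      obtain ⟨l, hl⟩ := (Nat.even_pow.2 ⟨hue, by omega⟩ : Even (u ^ (k - 1)))
      have h4 := hone (k - 1)
      exact ⟨l - 1, by omega⟩
    have oB : Odd (u ^ (k - 1) + 1) := (Nat.even_pow.2 ⟨hue, by omega⟩ : Even (u ^ (k - 1))).add_one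
    have hkill : ∀ δ : ℤ, (δ = 1 ∨ δ = -1) → (D.m : ℤ) ∣ (u : ℤ) ^ (k - 1) + δ → False := by
      intro δ hδ h1
      refine dead_pow (D := D) (g := 1) (u := u) (k := k) (B := δ * u - 1) (Or.inl rfl) hu2 hk (Or.inl (by rw [one_mul, hn])) ?_ ?_
      · rcases hδ with rfl | rfl
        · rw [abs_le]; constructor <;> linarith only []
        · rw [abs_le]; constructor <;> linarith only [hu2]
      · have h2 : ((1 : ℕ) : ℤ) * D.n + (δ * u - 1) = u * ((u : ℤ) ^ (k - 1) + δ) := by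
          have h3 : ((u ^ k : ℕ) : ℤ) = ((u * u ^ (k - 1) : ℕ) : ℤ) := by rw [e1]
          have h4 : (D.n : ℤ) = ((u ^ k + 1 : ℕ) : ℤ) := by rw [hn]
          push_cast at h3 h4 ⊢
          rw [h4]
          linear_combination h3
        rw [h2]
        exact Dvd.dvd.mul_left h1 _
    by_cases hb1 : ∃ t : ℕ, t.Prime ∧ t ∣ D.m ∧ t ∣ u ^ (k - 1) + 1
    · by_cases hb2 : ∃ t : ℕ, t.Prime ∧ t ∣ D.m ∧ t ∣ u ^ (k - 1) - 1
      · obtain ⟨t, ht, htm, htd⟩ := hb1
        obtain ⟨r, hr, hrm, hrd⟩ := hb2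
        have h1 := h.dvd_e (hB _ oB dvd_rfl) ht htd htm
        have h2 := h.dvd_e (hC _ oC dvd_rfl) hr hrd hrm
        refine both (D := D) hu2 hue hk hn ?_
        rw [sq_fac]
        refine Nat.Coprime.mul_dvd_of_dvd_of_dvd ?_ h1 h2
        refine Nat.coprime_of_dvd fun p hp hp1 hp2 => ?_
        have h3 : p ∣ 2 := by
          have h4 : u ^ (k - 1) + 1 = (u ^ (k - 1) - 1) + 2 := by have := hone (k - 1); omega
          rw [h4] at hp1
          exact (Nat.dvd_add_right hp2).1 hp1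
        rw [(Nat.prime_dvd_prime_iff_eq hp Nat.prime_two).1 h3] at hp1
        exact (Nat.not_even_iff_odd.2 oB) (even_iff_two_dvd.2 hp1)
      · push Not at hb2
        rw [mul_comm] at hred2
        have h1 := dvd_of_primes hred2 hb2
        refine hkill 1 (Or.inl rfl) (cast_dvd h1 ?_)
        push_cast
        ring
    · push Not at hb1
      have h1 := dvd_of_primes hred2 hb1
      refine hkill (-1) (Or.inr rfl) (cast_dvd h1 ?_)
      have := hone (k - 1)
      push_cast [this]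
      ring
  · -- `u` odd, `k` even
    rw [← hn] at hred
    have hred2 := dvd_of_primes hred fun t ht htm => not_mul ht (fun h5 => t_ne_two ht htm
      ((Nat.prime_dvd_prime_iff_eq ht Nat.prime_two).1 h5)) (not_dvd_n ht htm)
    have h1 : D.m ∣ u ^ (k - 1) + 1 := by
      rw [mul_comm] at hred2
      refine dvd_of_primes hred2 fun t ht htm hd => ?_
      -- the order is even
      have h4 : t ∣ 4 * orderOf x := by
        rw [hx]
        exact hd.mul_right _
      have h5 : t ∣ orderOf x := ((Nat.Prime.dvd_mul ht).1 h4).resolve_left fun h6 => by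
        have := Nat.le_of_dvd (by norm_num) h6
        have := D.prime_m_ge ht htm
        omega
      have h6 := h.tor x t ht htm h5
      apply D.e_odd
      refine dvd_trans ?_ h6
      have h7 : 8 ∣ 4 * orderOf x := by
        rw [hx]
        have h8 : (u - 1) * (u + 1) ∣ (u ^ (k - 1) - 1) * (u + 1) :=
          Nat.mul_dvd_mul_right (Nat.sub_one_dvd_pow_sub_one _ _) _
        refine dvd_trans ?_ h8
        obtain ⟨l, rfl⟩ := huo
        rw [Nat.add_sub_cancel]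
        have h9 : 2 ∣ l * (l + 1) := even_iff_two_dvd.1 (Nat.even_mul_succ_self l)
        obtain ⟨z, hz⟩ := h9
        exact ⟨z, by
          calc 2 * l * (2 * l + 1 + 1) = 4 * (l * (l + 1)) := by ring
            _ = 8 * z := by rw [hz]; ring⟩
      exact Nat.dvd_of_mul_dvd_mul_left (show 0 < 4 by norm_num) (by simpa using h7)
    refine dead_pow (D := D) (g := 2) (u := u) (k := k) (B := u - 1) (Or.inr (Or.inl rfl)) hu2 hk (Or.inl hn.symm) ?_ ?_
    · rw [abs_le]; constructor <;> linarith only [hu2]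
    · refine cast_dvd (h1.mul_left u) ?_
      have h3 : ((2 * D.n : ℕ) : ℤ) = ((u ^ k + 1 : ℕ) : ℤ) := by rw [hn]
      rw [e1] at h3
      push_cast at h3 ⊢
      linear_combination -h3
  · -- `u`, `k` odd
    have hk1 : Even (k - 1) := by
      obtain ⟨l, hl⟩ := hko
      exact ⟨l, by omega⟩
    have h1 : D.m ∣ u ^ (k - 1) + 1 := by
      rw [← hn] at hred
      have h2 := dvd_of_primes hred fun t ht htm => not_mul ht (not_dvd_n ht htm) (hadd ht htm)
      rw [mul_comm] at h2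
      exact dvd_of_primes h2 fun t ht htm => hev ht htm hk1 (by omega) (by omega)
    have h2 : u ^ k + 1 ∣ 4 * D.n := hdiv helt hs₀ hs₀n (by rw [← hn]; exact hs₀n.mul_right _)
    rw [← hn, mul_comm] at h2
    have h3 : u + 1 ∣ 4 := Nat.dvd_of_mul_dvd_mul_right D.pos_n h2
    have h4 := Nat.le_of_dvd (by norm_num) h3
    have hu3 : u = 3 := by
      obtain ⟨l, hl⟩ := huo
      omega
    subst hu3
    have h6 : (D.m : ℤ) ∣ 2 * D.n + 1 := by
      apply odd_of_dvd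
      refine cast_dvd (h1.mul_left 3) ?_
      have h7 : ((D.n * (3 + 1) : ℕ) : ℤ) = ((3 ^ k + 1 : ℕ) : ℤ) := by rw [hn]
      rw [e1] at h7
      push_cast at h7 ⊢
      linear_combination -h7
    by_cases h19 : D.n = 19
    · rw [h19] at hn
      have h7 : 3 ^ 4 ≤ 3 ^ k := Nat.pow_le_pow_right (by norm_num) hk
      omega
    · -- `q ≠ 2` or `n = 73`
      rcases Nat.lt_or_ge D.q 7 with h7 | h7
      · have hsm := small D (by omega)
        have hm := D.hm
        obtain ⟨n, hn'⟩ : ∃ n, D.n = n := ⟨_, rfl⟩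
        obtain ⟨m, hm'⟩ : ∃ m : ℤ, (D.m : ℤ) = m := ⟨_, rfl⟩
        rw [hn'] at h6 hsm h19
        rw [hm'] at h6 hm
        simp only [List.mem_cons, List.not_mem_nil, or_false, Prod.mk.injEq] at hsm
        rcases hsm with ⟨h3, -, -, h4⟩ | ⟨h3, -, -, h4⟩ | ⟨h3, -, -, h4⟩ | ⟨h3, -, -, h4⟩ | ⟨h3, -, -, h4⟩ |
          ⟨h3, -, -, h4⟩ | ⟨h3, -, -, h4⟩ | ⟨h3, -, -, h4⟩ | ⟨h3, -, -, h4⟩ | ⟨h3, -, -, h4⟩ | ⟨h3, -, -, h4⟩ |
          ⟨h3, -, -, h4⟩ |
        ⟨h3, -, -, h4⟩ | ⟨h3, -, -, h4⟩ <;> rw [h3] at hm h7 <;> first | (clear * - e1 hn h19 hn' h4 h7; omega) | skip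
        all_goals norm_num at hm
        all_goals rw [hm, h4] at h6
        all_goals norm_num at h6
      · have h8 : (7 : ℤ) ≤ D.q := by exact_mod_cast h7
        have hd : (D.d : ℤ) ≤ 3 := by rcases D.hd with h | h <;> rw [h] <;> norm_num
        have hd0 : (0 : ℤ) < D.d := by exact_mod_cast D.d_pos
        have h9 := kill2_le D (A := 2) (B := 1) h6 (by norm_num)
        nlinarith only [h7, hd, h9, sq_nonneg ((D.q : ℤ) ^ 2 - 1)]
  · -- `u = 2`, `k` odd
    have hk1 : Even (k - 1) := by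
      obtain ⟨l, hl⟩ := hko
      exact ⟨l, by omega⟩
    have h1 : D.m ∣ 2 ^ k + 1 := by
      rw [← hn] at hred
      have h2 : D.m ∣ (D.n * (2 ^ (k - 1) - 1)) * (2 ^ k + 1) := by
        refine hred.trans (dvd_of_eq ?_)
        ring
      exact dvd_of_primes h2 fun t ht htm => not_mul ht (not_dvd_n ht htm) (hev ht htm hk1 (by omega) (by omega))
    refine dead_AB (D := D) (A := 2) (B := -1) (by norm_num) (by norm_num) (by norm_num) (by decide) ?_
    refine cast_dvd h1 ?_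
    have h4 : 2 ^ k + 1 + 1 = 2 * D.n := by omega
    have h5 : ((2 ^ k + 1 + 1 : ℕ) : ℤ) = ((2 * D.n : ℕ) : ℤ) := by rw [h4]
    push_cast at h5 ⊢
    linear_combination h5
  · -- `u = 3`
    have hC' : ∀ t : ℕ, t.Prime → t ∣ D.m → ¬ t ∣ 3 ^ (k - 1) - 1 := by
      intro t ht htm hd
      rcases Nat.even_or_odd (k - 1) with h1 | h1
      · exact hev ht htm h1 (by omega) (by omega) hd
      · obtain ⟨x, hx⟩ := h3C rfl h1
        have h6 := h.tor x t ht htm (by rw [hx]; exact hd)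
        apply D.e_odd
        refine dvd_trans ?_ h6
        rw [hx]
        exact dvd_trans (by norm_num) (Nat.sub_one_dvd_pow_sub_one 3 (k - 1))
    have hab : ∀ t : ℕ, t.Prime → t ∣ D.m → ¬ t ∣ a ∧ ¬ t ∣ b := by
      intro t ht htm
      have h13 := D.prime_m_ge ht htm
      constructor
      · intro hd
        have := Nat.le_of_dvd (by omega) hd
        omega
      · intro hd
        have := Nat.le_of_dvd (by omega) hd
        omega
    have h1 : D.m ∣ (3 ^ k + 1) * (3 ^ (k - 1) + 1) := by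
      have h2 : D.m ∣ (3 ^ (k - 1) - 1) * ((3 ^ k + 1) * (3 ^ (k - 1) + 1)) := by
        refine hred.trans (dvd_of_eq ?_)
        ring
      exact dvd_of_primes h2 hC'
    rcases hAB with ⟨hn, -⟩ | hn
    · have h2 : D.m ∣ 3 ^ k + 1 := by
        rw [mul_comm] at h1
        refine dvd_of_primes h1 fun t ht htm => ?_
        rw [eB, ← hn]
        exact not_mul ht (hab t ht htm).2 (not_dvd_n ht htm)
      have h3 : (D.m : ℤ) ∣ 3 * b * D.n - 2 := by
        refine cast_dvd h2 ?_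
        have h4 : ((3 ^ (k - 1) + 1 : ℕ) : ℤ) = ((b * D.n : ℕ) : ℤ) := by rw [eB, hn]
        rw [e1]
        push_cast at h4 ⊢
        linear_combination 3 * h4
      rcases hpar with ⟨-, -, rfl⟩ | ⟨-, -, rfl⟩
      · refine dead_AB (D := D) (A := 6) (B := -1) (by norm_num) (by norm_num) (by norm_num) (by decide) ?_
        apply odd_of_dvd
        have : (2 : ℤ) * (6 * D.n + -1) = 3 * (4 : ℕ) * D.n - 2 := by push_cast; ring
        rwa [this]
      · refine dead_AB (D := D) (A := 3) (B := -1) (by norm_num) (by norm_num) (by norm_num) (by decide) ?_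
        apply odd_of_dvd
        have : (2 : ℤ) * (3 * D.n + -1) = 3 * (2 : ℕ) * D.n - 2 := by push_cast; ring
        rwa [this]
    · obtain ⟨t, ht, htm⟩ := Nat.exists_prime_and_dvd (show D.m ≠ 1 by have := D.m_ge; omega)
      have h2 := htm.trans h1
      rw [eA, eB] at h2
      have h3 : t ∣ a * b * (A * B) := h2.trans (dvd_of_eq (by ring))
      rw [← hn] at h3
      exact not_mul ht (not_mul ht (hab t ht htm).1 (hab t ht htm).2) (not_dvd_n ht htm) h3

/-- **Row `PΩ⁺(2k, u)`.** -/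
theorem row_omega_plus {k : ℕ} (hk : 4 ≤ k) (h : Sit D (POmega F (quadFormPlus k F))) : False := by
  have hc := Cfsg.Agent.S0293.result (F := F) rfl k hk
  rw [← Nat.card_eq_fintype_card] at hc
  rw [← coe_plusForm] at h hc
  exact plus (sg_plusForm (F := F) k) hk hc h

/-- **Row `PΩ⁻(2k, u)`.** -/
theorem row_omega_minus {k : ℕ} {a b : F} (hk : 4 ≤ k)
    (hab : ∀ z₁ z₂ : F, z₁ ^ 2 + a * z₁ * z₂ + b * z₂ ^ 2 = 0 → z₁ = 0 ∧ z₂ = 0)
    (h : Sit D (POmega F (quadFormMinus (k - 1) F a b))) : False := by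
  have hc := Cfsg.Agent.S0294.result (F := F) rfl k hk a b hab
  rw [← Nat.card_eq_fintype_card] at hc
  have hs := sg_minusForm (F := F) (k - 1) hab
  rw [Nat.sub_add_cancel (by omega)] at hs
  rw [← coe_minusForm] at h hc
  exact minus hs hk hc h

end Cfsg.Agent.R2.Spec.X1.E6.I9
end
end

-- part: R2/Spec/X1/TRa/Orth
section
prune_inst 0x10030041800000000000004520002000000000000208000c90002000200410200000100040001021040a00010040008110000000250000004000000000001208000c60242c10108a00001800004400000000000000000000000000000000000000000000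
set_option linter.all false
open scoped Cfsg.Agent.FastGrp

-- part: R2/Spec/X1/TRa/Num
section
/-!
# `³D₄(q)`, row `PΩ^±(2m, u)`: arithmetic (helper156, statement S3478, task 1849)

`n = mm q`; `n` is prime to `u ^ (2 i) - 1`, `i ≤ m - 2`.
* `plusA` : `n ∣ u ^ m - 1`, `(u ^ m - 1) / gcd 4 ∣ n` : impossible;
* `minusA` : `n ∣ u ^ m + 1`, `(u ^ m + 1) / gcd 4 ∣ n` : impossible;
* `evenB`, `oddB` : the same for `u ^ (m - 1) ∓ 1`.
-/

set_option autoImplicit false

namespace Cfsg.Agent.R2.Spec.X1.TRa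

open Cfsg.Agent.R2.Spec.X1.TD Cfsg.Agent.R2.Spec.X1.TI

theorem eq_mul_gcd {n X c : ℕ} (hc : Nat.Coprime n c) (h1 : n ∣ X) (h2 : X / X.gcd c ∣ n) :
    X = n * X.gcd c := by
  have hg : X.gcd c ∣ X := Nat.gcd_dvd_left _ _
  have h3 : X / X.gcd c * X.gcd c = X := Nat.div_mul_cancel hg
  have h4 : Nat.Coprime n (X.gcd c) := Nat.Coprime.coprime_dvd_right (Nat.gcd_dvd_right _ _) hc
  have h5 : n ∣ X / X.gcd c := h4.dvd_of_dvd_mul_right (by rw [h3]; exact h1)
  have h6 := Nat.dvd_antisymm h5 h2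
  rw [← h6] at h3
  exact h3.symm

theorem gcd_two_pow_sub {u k : ℕ} (hu : 1 ≤ u) (hk : k ≠ 0) :
    ((u ^ k - 1).gcd 2 = 1 ∧ Even u) ∨ ((u ^ k - 1).gcd 2 = 2 ∧ Odd u) := by
  rcases Nat.even_or_odd u with he | ho
  · left
    refine ⟨?_, he⟩
    have h1 : Even (u ^ k) := he.pow_of_ne_zero hk
    have h2 : 1 ≤ u ^ k := Nat.one_le_pow _ _ hu
    have h3 : Odd (u ^ k - 1) := Nat.Even.sub_odd h2 h1 odd_one
    exact Nat.coprime_comm.1 (Nat.coprime_two_left.2 h3)
  · right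
    refine ⟨?_, ho⟩
    have h1 : Odd (u ^ k) := ho.pow
    have h2 : 1 ≤ u ^ k := Nat.one_le_pow _ _ hu
    have h3 : Even (u ^ k - 1) := Nat.Odd.sub_odd h1 odd_one
    exact Nat.gcd_eq_right h3.two_dvd

/-- the number `a` in `dead_plus` -/
theorem half_eq {u k : ℕ} (hu : 1 ≤ u) (hk : k ≠ 0) :
    ∃ c : ℕ, (c = 1 ∨ c = 2 ∧ Odd u) ∧ c * ((u ^ k - 1) / (u ^ k - 1).gcd 2) + 1 = u ^ k := by
  have h2 : 1 ≤ u ^ k := Nat.one_le_pow _ _ hu
  refine ⟨(u ^ k - 1).gcd 2, ?_, ?_⟩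
  · rcases gcd_two_pow_sub hu hk with h | h
    · exact Or.inl h.1
    · exact Or.inr h
  · rw [Nat.mul_div_cancel' (Nat.gcd_dvd_left _ _)]
    omega

variable {p q : ℕ} (h : Par p q)

include h

theorem coprime_four : Nat.Coprime (mm q) 4 := by
  have := mm_odd h
  have h2 : Nat.Coprime (mm q) 2 := (Nat.coprime_two_left.2 this).symm
  exact Nat.Coprime.pow_right 2 h2

theorem coprime_two : Nat.Coprime (mm q) 2 := (Nat.coprime_two_left.2 (mm_odd h)).symm

/-- **Type A, plus.** -/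
theorem plusA {u m : ℕ} (hu : IsPrimePow u) (hm : 4 ≤ m) (h1 : mm q ∣ u ^ m - 1)
    (h2 : (u ^ m - 1) / (u ^ m - 1).gcd 4 ∣ mm q) (hco : Nat.Coprime (mm q) (u ^ 2 - 1))
    (ho : Om p q ((u ^ (m - 1) - 1) / (u ^ (m - 1) - 1).gcd 2)) : False := by
  have hu2 := hu.two_le
  have e := eq_mul_gcd (coprime_four h) h1 h2
  set g := (u ^ m - 1).gcd 4 with hg
  have hg4 : g ∣ 4 := Nat.gcd_dvd_right _ _
  have hpos : 1 ≤ u ^ m := Nat.one_le_pow _ _ (by omega)
  -- divisors of `u ^ m - 1` prime to `n` divide `4`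
  have key : ∀ w : ℕ, w ∣ u ^ m - 1 → Nat.Coprime (mm q) w → w ∣ 4 := fun w hw hcw => by
    rw [e] at hw
    exact (hcw.symm.dvd_of_dvd_mul_left hw).trans hg4
  have hd1 : u - 1 ∣ u ^ 2 - 1 := by simpa only [_root_.one_pow] using Nat.sub_dvd_pow_sub_pow u 1 2
  have h3 : u - 1 ∣ 4 := key _ (by simpa only [_root_.one_pow] using Nat.sub_dvd_pow_sub_pow u 1 m) (Nat.Coprime.coprime_dvd_right hd1 hco)
  have h4 : u = 2 ∨ u = 3 ∨ u = 5 := by
    have h5 := Nat.le_of_dvd (by norm_num) h3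
    have h6 : u ≤ 5 := by omega
    interval_cases u
    · omega
    · omega
    · exfalso; revert h3; decide
    · omega
  have hmo : Odd m := by
    by_contra hcon
    rw [Nat.not_odd_iff_even] at hcon
    obtain ⟨j, hj⟩ := hcon
    have h5 : u ^ 2 - 1 ∣ u ^ m - 1 := by
      have := Nat.sub_dvd_pow_sub_pow (u ^ 2) 1 j
      rwa [one_pow, ← pow_mul, show 2 * j = m by omega] at this
    have h6 := key _ h5 hco
    rcases h4 with rfl | rfl | rfl <;> revert h6 <;> decide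
  have hg1 : g = u - 1 := by
    obtain ⟨j, hj⟩ := hmo
    rcases h4 with rfl | rfl | rfl
    · have h7 : (2 ^ m - 1).gcd 4 = 1 := by
        have h8 : 2 ^ m = 2 * 2 ^ (2 * j) := by rw [hj, pow_succ']
        have h9 : Odd (2 ^ m - 1) := by
          rw [Nat.odd_iff]
          omega
        exact Nat.Coprime.pow_right 2 (Nat.coprime_two_left.2 h9).symm
      rw [hg, h7]
    · have h8 : 3 ^ m % 4 = 3 := by
        rw [hj, pow_succ, pow_mul, Nat.mul_mod, Nat.pow_mod]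
        norm_num
      have h9 : (3 ^ m - 1) % 4 = 2 := by omega
      rw [hg, Nat.gcd_comm, Nat.gcd_rec, h9]
      decide
    · have h8 : 5 ^ m % 4 = 1 := by
        rw [Nat.pow_mod]
        norm_num
      have h9 : (5 ^ m - 1) % 4 = 0 := by omega
      rw [hg, Nat.gcd_comm, Nat.gcd_rec, h9]
      decide
  obtain ⟨c, hc, hca⟩ := half_eq (u := u) (k := m - 1) (by omega) (by omega)
  refine dead_plus h hu (k := m) (by omega) hc ?_ hca ho
  rw [← hg1]
  (clear * - e hpos; omega)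

/-- **Type A, minus.** -/
theorem minusA {u m : ℕ} (hu : IsPrimePow u) (hm : 4 ≤ m) (h1 : mm q ∣ u ^ m + 1)
    (h2 : (u ^ m + 1) / (u ^ m + 1).gcd 4 ∣ mm q) (hco : Nat.Coprime (mm q) (u ^ 2 - 1))
    (ho : Om p q ((u ^ (m - 1) - 1) / (u ^ (m - 1) - 1).gcd 2)) : False := by
  have hu2 := hu.two_le
  have e := eq_mul_gcd (coprime_four h) h1 h2
  set g := (u ^ m + 1).gcd 4 with hg
  have hg4 : g ∣ 4 := Nat.gcd_dvd_right _ _
  rcases Nat.even_or_odd m with hme | hmo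
  · obtain ⟨j, hj⟩ := hme
    rcases Nat.even_or_odd u with hue | huo
    · have h3 : g = 1 := by
        have h4 : Odd (u ^ m + 1) := (hue.pow_of_ne_zero (by omega)).add_one
        exact Nat.Coprime.pow_right 2 (Nat.coprime_two_left.2 h4).symm
      rw [h3, mul_one] at e
      exact ne_pow_add_one h hu (m := m) (by omega) e.symm
    · have h3 : g = 2 := by
        have h8 : u ^ m % 4 = 1 := by
          have h9 : u % 4 = 1 ∨ u % 4 = 3 := by
            have := Nat.odd_iff.1 huo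
            omega
          rw [show m = 2 * j by omega, pow_mul, Nat.pow_mod, Nat.pow_mod u 2 4]
          rcases h9 with h9 | h9 <;> rw [h9] <;> norm_num
        have h9 : (u ^ m + 1) % 4 = 2 := by omega
        rw [hg, Nat.gcd_comm, Nat.gcd_rec, h9]
        decide
      rw [h3] at e
      apply ne_half h (u ^ j)
      rw [← pow_mul, show j * 2 = m by omega]
      omega
  · have h3 : u + 1 ∣ u ^ m + 1 := by simpa using hmo.nat_add_dvd_pow_add_pow u 1
    have hd1 : u + 1 ∣ u ^ 2 - 1 := by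
      have := Nat.sq_sub_sq u 1
      rw [one_pow] at this
      rw [this]
      exact Dvd.intro _ rfl
    have h4 : u + 1 ∣ g := by
      rw [e] at h3
      exact (Nat.Coprime.coprime_dvd_right hd1 hco).symm.dvd_of_dvd_mul_left h3
    have h5 := h4.trans hg4
    have h6 : u = 3 := by
      have h7 := Nat.le_of_dvd (by norm_num) h5
      have h8 : u ≤ 3 := by omega
      interval_cases u
      · exfalso; revert h5; decide
      · rfl
    subst h6
    have h7 : g = 4 := Nat.dvd_antisymm hg4 h4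
    obtain ⟨c, hc, hca⟩ := half_eq (u := 3) (k := m - 1) (by omega) (by omega)
    have h8 := dead_minus h hu (k := m) (by omega) hmo hc (by rw [e, h7]) hca ho
    have h9 := h.hq
    have : 9 ≤ q ^ 2 := by nlinarith only [h9]
    omega

/-- **Type B, `m - 1 = k` even.** -/
theorem evenB {u k : ℕ} (hu : IsPrimePow u) (hk : k ≠ 0) (hke : Even k) (h1 : mm q ∣ u ^ k + 1)
    (h2 : (u ^ k + 1) / (u ^ k + 1).gcd 2 ∣ mm q) : False := by
  have hu2 := hu.two_le
  have e := eq_mul_gcd (coprime_two h) h1 h2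
  set g := (u ^ k + 1).gcd 2 with hg
  have hg2 : g ∣ 2 := Nat.gcd_dvd_right _ _
  obtain ⟨j, hj⟩ := hke
  rcases (Nat.dvd_prime Nat.prime_two).1 hg2 with h3 | h3
  · rw [h3, mul_one] at e
    exact ne_pow_add_one h hu (m := k) hk e.symm
  · rw [h3] at e
    apply ne_half h (u ^ j)
    rw [← pow_mul, show j * 2 = k by omega]
    omega

omit h in
/-- **Type B, `m - 1 = k` odd**: no prime divisor of `u ^ k + 1`. -/
theorem oddB_plus {u k : ℕ} (hu : IsPrimePow u) (hko : Odd k) (hco : Nat.Coprime (mm q) (u ^ 2 - 1)) :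
    ¬ (u ^ k + 1) / (u ^ k + 1).gcd 2 ∣ mm q := by
  intro h2
  have hu2 := hu.two_le
  have h3 : u + 1 ∣ u ^ k + 1 := by simpa using hko.nat_add_dvd_pow_add_pow u 1
  have hd1 : u + 1 ∣ u ^ 2 - 1 := by
    have := Nat.sq_sub_sq u 1
    rw [one_pow] at this
    rw [this]
    exact Dvd.intro _ rfl
  have h4 : u + 1 ∣ mm q * (u ^ k + 1).gcd 2 := by
    have h5 : (u ^ k + 1) / (u ^ k + 1).gcd 2 * (u ^ k + 1).gcd 2 ∣ mm q * (u ^ k + 1).gcd 2 :=
      Nat.mul_dvd_mul_right h2 _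
    rw [Nat.div_mul_cancel (Nat.gcd_dvd_left (u ^ k + 1) 2)] at h5
    exact h3.trans h5
  have h5 := (Nat.Coprime.coprime_dvd_right hd1 hco).symm.dvd_of_dvd_mul_left h4
  have h6 := Nat.le_of_dvd (by norm_num) (h5.trans (Nat.gcd_dvd_right _ _))
  omega

/-- **Type B, `m - 1 = k` odd.** -/
theorem oddB {u k : ℕ} (hu : IsPrimePow u) (hk : 3 ≤ k) (h1 : mm q ∣ u ^ k - 1)
    (h2 : (u ^ k - 1) / (u ^ k - 1).gcd 2 ∣ mm q) (hco : Nat.Coprime (mm q) (u ^ 2 - 1))
    (ho : Om p q ((u ^ (k - 1) - 1) / (u ^ (k - 1) - 1).gcd 2)) : False := by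
  have hu2 := hu.two_le
  have e := eq_mul_gcd (coprime_two h) h1 h2
  have hpos : 1 ≤ u ^ k := Nat.one_le_pow _ _ (by omega)
  have hd1 : u - 1 ∣ u ^ 2 - 1 := by simpa only [_root_.one_pow] using Nat.sub_dvd_pow_sub_pow u 1 2
  have h3 : u - 1 ∣ (u ^ k - 1).gcd 2 := by
    have h4 : u - 1 ∣ u ^ k - 1 := by simpa only [_root_.one_pow] using Nat.sub_dvd_pow_sub_pow u 1 k
    rw [e] at h4
    exact (Nat.Coprime.coprime_dvd_right hd1 hco).symm.dvd_of_dvd_mul_left h4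
  have h5 := Nat.le_of_dvd (by norm_num) (h3.trans (Nat.gcd_dvd_right _ _))
  have h6 : (u ^ k - 1).gcd 2 = u - 1 := by
    rcases gcd_two_pow_sub (u := u) (k := k) (by omega) (by omega) with ⟨h7, h8⟩ | ⟨h7, h8⟩
    · have h9 := Nat.le_of_dvd (by norm_num) (h7 ▸ h3)
      omega
    · have h9 := Nat.odd_iff.1 h8
      rw [h7]
      omega
  obtain ⟨c, hc, hca⟩ := half_eq (u := u) (k := k - 1) (by omega) (by omega)
  refine dead_plus h hu (k := k) (by omega) hc ?_ hca ho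
  rw [← h6]
  omega

end Cfsg.Agent.R2.Spec.X1.TRa
end

-- part: R2/Spec/X1/TRa/Orth
section
/-!
# `³D₄(q)`, row `PΩ^±(2m, u)` (helper156, statement S3478, task 1849)

`row_omega_plus`, `row_omega_minus` : the groups `PΩ⁺(2m, u)`, `PΩ⁻(2m, u)`, `m ≥ 4`, are not in the situation `Sit p q`.
-/

set_option autoImplicit false
set_option linter.unusedSectionVars false
set_option linter.style.haveILetI false

namespace Cfsg.Agent.R2.Spec.X1.TRa

open Module QuadraticMap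
open Cfsg.Agent.LieClassical.OrthCore Cfsg.Agent.LieClassical.OrthForms
open Cfsg.Agent.H182.Sign Cfsg.Agent.H182.Orth Cfsg.Agent.H182.Cent
open Cfsg.Agent.H94.PG Cfsg.Agent.R2.Spec.X1.TI Cfsg.Agent.R2.Spec.X1.TD

section

variable {ι : Type} [Fintype ι] [DecidableEq ι] {F : Type*} [Field F]

seal _root_.Finset.sum _root_.dotProduct in
/-- **The transfer lemma**, for elements with a power `-1`. -/
theorem exists_of_elt [Finite F] {Q : QuadraticForm F (ι → F)} {m : ℕ} {ε : ℤ} (hQ : Sg Q m ε) (hm : 3 ≤ m) {N : ℕ}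
    (h : Elt F m ε N) : ∃ s : Cfsg.POmega F ⇑Q, N / N.gcd 4 ∣ orderOf s := by
  obtain ⟨hN, d, P, g, hs, hg, ho⟩ := h
  obtain ⟨e, he⟩ := hs.exists_equiv hQ
  obtain ⟨h, hho, hpow⟩ := exists_isometry Q e he g hg hN ho
  have hcard : Fintype.card ι = 2 * m := by
    rw [← Module.finrank_fintype_fun_eq_card F, hQ.dim]
  have hnd : (polarBilin Q).Nondegenerate := nondegenerate_iff_nondeg.2 hQ.nondeg
  have hsing : ∃ u : ι → F, u ≠ 0 ∧ Q u = 0 := by
    obtain ⟨w, hw0, hw, -⟩ := Cfsg.Agent.LieClassical.OrthFinite.exists_sing_perp (Q := Q) (n := 0) ![] (by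
      rw [hQ.dim]; omega)
    exact ⟨w, hw0, hw⟩
  have hfin : Finite (Cfsg.isometryGroup F ⇑Q) := inferInstance
  let t : Cfsg.Omega F ⇑Q := ⟨h ^ 2, sq_mem_Omega Q hnd (by omega) h⟩
  let s : Cfsg.POmega F ⇑Q := QuotientGroup.mk t
  have hs2 : ∀ k : ℕ, s ^ k = 1 → (h ^ 4) ^ k = 1 := by
    intro k hk
    have h1 : t ^ k ∈ Subgroup.center (Cfsg.Omega F ⇑Q) := by
      rw [← QuotientGroup.eq_one_iff]
      exact hk
    rw [Cfsg.Agent.LieClassical.OrthCenter.mem_center_omega_iff hnd (by omega) hsing] at h1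
    have h2 : ((t ^ k : Cfsg.Omega F ⇑Q) : Cfsg.isometryGroup F ⇑Q) = h ^ (2 * k) := by
      rw [pow_mul]
      rfl
    rw [h2] at h1
    have h3 : (h ^ 4) ^ k = (h ^ (2 * k)) ^ 2 := by
      rw [← pow_mul, ← pow_mul]
      congr 1
      ring
    rw [h3, pow_two]
    apply Subtype.ext
    apply Units.ext
    rw [Subgroup.coe_mul, Units.val_mul]
    rcases h1 with h1 | h1
    · rw [h1, mul_one]
      rfl
    · rw [h1, neg_mul_neg, mul_one]
      rfl
  have hord : orderOf (h ^ 4) ∣ orderOf s := orderOf_dvd_of_pow_eq_one (hs2 _ (pow_orderOf_eq_one s))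
  have hord2 : orderOf (h ^ 4) = N / N.gcd 4 := by rw [orderOf_pow' h (by norm_num), hho]
  rw [hord2] at hord
  exact ⟨s, hord⟩

end

theorem ord_of_dvd {p q : ℕ} {S : Type*} [Group S] [Finite S] (h : Sit p q S) {x : S} {a : ℕ} (ha : a ∣ orderOf x) :
    Om p q a := by
  have h0 : orderOf x ≠ 0 := (orderOf_pos x).ne'
  obtain ⟨b, hb⟩ := ha
  have hb0 : b ≠ 0 := by
    rintro rfl
    rw [mul_zero] at hb
    exact h0 hb
  refine h.ord ⟨x ^ b, ?_⟩
  rw [orderOf_pow_of_dvd hb0 (hb ▸ Dvd.intro_left _ rfl), hb]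
  exact Nat.mul_div_cancel _ (Nat.pos_of_ne_zero hb0)

section

variable {F : Type*} [Field F] [Finite F] {ι : Type} [Fintype ι] [DecidableEq ι]
  {Q : QuadraticForm F (ι → F)} {m : ℕ} {ε₀ : ℤ} {p q : ℕ}

/-- elements acting trivially on a subspace of dimension `2 (m - i)` -/
theorem exists_small (hQ : Sg Q m ε₀) (hm : 4 ≤ m) {i : ℕ} (him : i < m) {ε : ℤ} (hε : ε = 1 ∨ ε = -1)
    {N : ℕ} (h : Elt F i ε N) : ∃ s : Cfsg.POmega F ⇑Q, N / N.gcd 2 ∣ orderOf s := by
  have h1 : EltP F (m - i) (ε * ε₀) 1 :=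
    (elt_one (by omega) (Cfsg.Agent.H182.Orth.sign_mul hε hQ.eps)).odd odd_one (by omega)
  have h2 := h1.prod h
  rw [mul_comm (ε * ε₀) ε, Cfsg.Agent.H182.Orth.sign_cancel hε, Nat.lcm_one_left, Nat.sub_add_cancel him.le] at h2
  exact exists_of_eltP hQ (by omega) h2

theorem two_not (h : Sit p q (Cfsg.POmega F ⇑Q)) {s : ℕ} (hsn : s ∣ R2.Spec.X1.TD.mm q) : ¬ Adj (Cfsg.POmega F ⇑Q) s 2 := by
  intro ha
  have h1 := h.adj_dvd hsn ha
  have := Nat.odd_iff.1 (mm_odd h.par)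
  omega

theorem ne_two' (h : Sit p q (Cfsg.POmega F ⇑Q)) {s : ℕ} (hsn : s ∣ R2.Spec.X1.TD.mm q) : s ≠ 2 := by
  rintro rfl
  have := Nat.odd_iff.1 (mm_odd h.par)
  omega

theorem char_ne (hQ : Sg Q m ε₀) (hm : 4 ≤ m) (h : Sit p q (Cfsg.POmega F ⇑Q)) {s : ℕ} (hs : s.Prime)
    (hsn : s ∣ R2.Spec.X1.TD.mm q) : (s : F) ≠ 0 := fun h0 =>
  two_not h hsn (adj_two_of_char hQ hm hs (ne_two' h hsn) h0)

theorem pow_ne (hQ : Sg Q m ε₀) (hm : 4 ≤ m) (h : Sit p q (Cfsg.POmega F ⇑Q)) {s : ℕ} (hs : s.Prime)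
    (hsn : s ∣ R2.Spec.X1.TD.mm q) {i : ℕ} (hi1 : 1 ≤ i) (hi : i + 2 ≤ m) : ¬ s ∣ Nat.card F ^ (2 * i) - 1 := fun h0 =>
  two_not h hsn (adj_two_of_dvd hQ hm hi1 hi hs (ne_two' h hsn) h0)

/-- divisors of `u ^ (2 m) - 1` and `u ^ (2 (m - 1)) - 1` -/
theorem dvd_two {u m s : ℕ} (hm : 1 ≤ m) (h1 : s ∣ u ^ (2 * m) - 1) (h2 : s ∣ u ^ (2 * (m - 1)) - 1) :
    s ∣ u ^ (2 * 1) - 1 := by
  have h3 : s ∣ u ^ (Nat.gcd (2 * m) (2 * (m - 1))) - 1 := by
    have h4 := Nat.dvd_gcd h1 h2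
    rwa [Nat.pow_sub_one_gcd_pow_sub_one] at h4
  have h5 : Nat.gcd (2 * m) (2 * (m - 1)) = 2 * 1 := by
    rw [Nat.gcd_mul_left]
    congr 1
    obtain ⟨j, rfl⟩ : ∃ j, m = j + 1 := ⟨m - 1, by omega⟩
    rw [Nat.add_sub_cancel]
    simp
  rwa [h5] at h3

/-- The dimension of the moved space of an isometry of order `s`. -/
theorem finrank_cases (hQ : Sg Q m ε₀) (hm : 4 ≤ m) (h : Sit p q (Cfsg.POmega F ⇑Q)) {s : ℕ} (hs : s.Prime)
    (hsn : s ∣ R2.Spec.X1.TD.mm q) {g : Cfsg.Omega F ⇑Q} (hg : g ^ s = 1) (hg1 : g ≠ 1) :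
    (finrank F (fixS (rho (⇑Q) g)) = 0 ∧ s ∣ Nat.card F ^ (2 * m) - 1) ∨
      (finrank F (fixS (rho (⇑Q) g)) = 2 ∧ s ∣ Nat.card F ^ (2 * (m - 1)) - 1) := by
  have hs2 := ne_two' h hsn
  have hX := (rowData_orth hQ hm).isoP hs hs2 (char_ne hQ hm h hs hsn) hg hg1
  obtain ⟨k, hk⟩ := even_block Q (rho_polar Q g) (hs.odd_of_ne_two hs2) hX.pow hX.invY hX.nonDegY
    (fun z hz => hX.fixY hz)
  have hdvd := dvd_pow_sub_one hs hX.pow hX.invY (fun z hz => hX.fixY hz)
  have hadd := hX.finrank_add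
  rw [hQ.dim] at hadd
  rw [show finrank F (IsoP.Y (sform_polar Q) (rho (⇑Q) g)) = 2 * k by omega] at hdvd hadd
  have hk0 : k ≠ 0 := by
    rintro rfl
    exact hX.Y_ne_bot (Submodule.finrank_eq_zero.1 (by omega))
  have hkm : m < k + 2 := by
    by_contra hcon
    exact pow_ne hQ hm h hs hsn (i := k) (by omega) (by omega) hdvd
  rcases Nat.lt_or_ge k m with h1 | h1
  · right
    have : k = m - 1 := by omega
    subst this
    exact ⟨by omega, hdvd⟩
  · left
    have : k = m := by omega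
    subst this
    exact ⟨by omega, hdvd⟩

/-- **One kind only.** -/
theorem one_kind (hQ : Sg Q m ε₀) (hm : 4 ≤ m) (h : Sit p q (Cfsg.POmega F ⇑Q)) {s s' : ℕ} (hs : s.Prime)
    (hs' : s'.Prime) (hsn : s ∣ R2.Spec.X1.TD.mm q) (hsn' : s' ∣ R2.Spec.X1.TD.mm q) (h1 : s ∣ Nat.card F ^ (2 * m) - 1)
    (h2 : s' ∣ Nat.card F ^ (2 * (m - 1)) - 1) : False := by
  have hR := rowData_orth hQ hm
  obtain ⟨x, hx⟩ := h.mm
  have hx0 : orderOf x ≠ 0 := ((orderOf_pos x).ne' :)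
  have ho : orderOf (x ^ (orderOf x / s)) = s := orderOf_pow_orderOf_div hx0 (by rw [hx]; exact hsn)
  have ho' : orderOf (x ^ (orderOf x / s')) = s' := orderOf_pow_orderOf_div hx0 (by rw [hx]; exact hsn')
  have hs2 := ne_two' h hsn
  have hs2' := ne_two' h hsn'
  obtain ⟨a, hax, ha⟩ := exists_lift hR.center_sq hs hs2 _ (by rw [← ho]; exact pow_orderOf_eq_one _)
  obtain ⟨b, hbx, hb⟩ := exists_lift hR.center_sq hs' hs2' _ (by rw [← ho']; exact pow_orderOf_eq_one _)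
  have ha1 : a ≠ 1 := by
    rintro rfl
    rw [← hax, QuotientGroup.mk_one, orderOf_one] at ho
    exact hs.one_lt.ne ho
  have hb1 : b ≠ 1 := by
    rintro rfl
    rw [← hbx, QuotientGroup.mk_one, orderOf_one] at ho'
    exact hs'.one_lt.ne ho'
  have hcq : Commute (a : Cfsg.POmega F ⇑Q) (b : Cfsg.POmega F ⇑Q) := by
    rw [hax, hbx]
    exact (Commute.refl x).pow_pow _ _
  -- `b` commutes with the image of `a`
  have hab : Commute a b := by
    have h3 : ∀ c : Cfsg.Omega F ⇑Q, Commute (c : Cfsg.POmega F ⇑Q) (b : Cfsg.POmega F ⇑Q) → Commute c b :=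
      fun c hc => commute_lift hR.center_sq hs' hs2' hb hc
    exact h3 a hcq
  rcases finrank_cases hQ hm h hs hsn ha ha1 with ⟨h3, -⟩ | ⟨-, h3⟩
  · rcases finrank_cases hQ hm h hs' hsn' hb hb1 with ⟨-, h4⟩ | ⟨h4, -⟩
    · exact pow_ne hQ hm h hs' hsn' le_rfl (by omega) (dvd_two (by omega) h4 h2)
    · have hX := hR.isoP hs hs2 (char_ne hQ hm h hs hsn) ha ha1
      have hcom : Commute (rho (⇑Q) b - 1) (rho (⇑Q) a) :=
        ((hab.symm.map (rho (⇑Q))).sub_left (Commute.one_left _))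
      have h5 := dvd_pow_sub_one (F := F) hs hX.pow (Z := fixS (rho (⇑Q) b)) (inv_ker hcom) (fun z _ hz => by
        have h6 : z ∈ fixS (rho (⇑Q) a) := mem_fixS.2 hz
        rw [Submodule.finrank_eq_zero.1 h3] at h6
        exact (Submodule.mem_bot F).1 h6)
      rw [h4] at h5
      exact pow_ne hQ hm h hs hsn (i := 1) le_rfl (by omega) (by simpa only [_root_.mul_one] using h5)
  · exact pow_ne hQ hm h hs hsn le_rfl (by omega) (dvd_two (by omega) h1 h3)

/-- **The row.** -/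
theorem row (hQ : Sg Q m ε₀) (hm : 4 ≤ m) (h : Sit p q (Cfsg.POmega F ⇑Q)) {X : ℕ}
    (hX : ε₀ = 1 ∧ X = Nat.card F ^ m - 1 ∨ ε₀ = -1 ∧ X = Nat.card F ^ m + 1)
    (hcard : Nat.card (Cfsg.POmega F ⇑Q) ∣ Nat.card F ^ (m * (m - 1)) * X *
      ∏ i ∈ Finset.range (m - 1), (Nat.card F ^ (2 * (i + 1)) - 1)) : False := by
  haveI := Fintype.ofFinite F
  have hu : IsPrimePow (Nat.card F) := by
    rw [Nat.card_eq_fintype_card]
    exact FiniteField.isPrimePow_card F
  set u := Nat.card F with hudef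
  have hu2 := hu.two_le
  have hn : R2.Spec.X1.TD.mm q ∣ Nat.card (Cfsg.POmega F ⇑Q) := h.mm_dvd_card
  have hco : ∀ i, 1 ≤ i → i + 2 ≤ m → Nat.Coprime (R2.Spec.X1.TD.mm q) (u ^ (2 * i) - 1) := fun i hi1 hi =>
    h.coprime_of fun s hs hsn => pow_ne hQ hm h hs hsn hi1 hi
  have hco2 : Nat.Coprime (R2.Spec.X1.TD.mm q) (u ^ 2 - 1) := by simpa only [_root_.mul_one] using hco 1 le_rfl (by omega)
  have hcou : Nat.Coprime (R2.Spec.X1.TD.mm q) u := h.coprime_of fun s hs hsn hsu => by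
    apply char_ne hQ hm h hs hsn
    obtain ⟨c, hc⟩ := CharP.exists F
    obtain ⟨f, hcp, hf⟩ := FiniteField.card F c
    rw [hudef, Nat.card_eq_fintype_card, hf] at hsu
    have h3 := (Nat.prime_dvd_prime_iff_eq hs hcp).1 (hs.dvd_of_dvd_pow hsu)
    rw [h3]
    exact CharP.cast_eq_zero F c
  have hXd : X ∣ u ^ (2 * m) - 1 := by
    have h3 : u ^ (2 * m) - 1 = (u ^ m + 1) * (u ^ m - 1) := by
      have := Nat.sq_sub_sq (u ^ m) 1
      rw [one_pow, ← pow_mul, mul_comm m 2] at this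
      exact this
    rw [h3]
    rcases hX with ⟨-, rfl⟩ | ⟨-, rfl⟩
    · exact Dvd.intro_left _ rfl
    · exact Dvd.intro _ rfl
  have hfac : u ^ (2 * (m - 1)) - 1 = (u ^ (m - 1) + 1) * (u ^ (m - 1) - 1) := by
    have := Nat.sq_sub_sq (u ^ (m - 1)) 1
    rw [one_pow, ← pow_mul, mul_comm (m - 1) 2] at this
    exact this
  -- Lagrange
  have hn2 : R2.Spec.X1.TD.mm q ∣ X * (u ^ (2 * (m - 1)) - 1) := by
    have h3 := hn.trans hcard
    rw [mul_assoc] at h3
    have h4 := (hcou.pow_right (m * (m - 1))).dvd_of_dvd_mul_left h3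
    obtain ⟨j, hj⟩ : ∃ j, m - 1 = j + 1 := ⟨m - 2, by omega⟩
    rw [hj, Finset.prod_range_succ, ← hj] at h4
    have h5 : Nat.Coprime (R2.Spec.X1.TD.mm q) (∏ i ∈ Finset.range j, (u ^ (2 * (i + 1)) - 1)) :=
      Nat.Coprime.prod_right fun i hi => hco (i + 1) (by omega) (by
        have := Finset.mem_range.1 hi
        omega)
    rw [mul_comm (∏ i ∈ Finset.range j, _), ← mul_assoc] at h4
    exact h5.dvd_of_dvd_mul_right h4
  obtain ⟨s₀, hs₀, hsn₀, -, -⟩ := h.exists_prime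
  -- an element of order a multiple of `N / c`
  have dvdN : ∀ (N c : ℕ) (s : ℕ), s.Prime → s ∣ R2.Spec.X1.TD.mm q → s ∣ N → c ∣ 4 →
      (∃ x : Cfsg.POmega F ⇑Q, N / N.gcd c ∣ orderOf x) → N / N.gcd c ∣ R2.Spec.X1.TD.mm q := by
    rintro N c s hs hsn hsN hc ⟨x, hx⟩
    have hs2 := ne_two' h hsn
    have h3 : s ∣ N / N.gcd c := by
      have h4 : s ∣ N / N.gcd c * N.gcd c := by
        rw [Nat.div_mul_cancel (Nat.gcd_dvd_left _ _)]
        exact hsN
      rcases hs.dvd_mul.1 h4 with h5 | h5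
      · exact h5
      · exfalso
        have h6 : s ∣ 2 ^ 2 := (h5.trans (Nat.gcd_dvd_right _ _)).trans hc
        exact hs2 ((Nat.prime_dvd_prime_iff_eq hs Nat.prime_two).1 (hs.dvd_of_dvd_pow h6))
    exact hx.trans (h.dvd_mm ⟨x, rfl⟩ hs (h3.trans hx) hsn)
  by_cases hA : ∃ s : ℕ, s.Prime ∧ s ∣ R2.Spec.X1.TD.mm q ∧ s ∣ u ^ (2 * (m - 1)) - 1
  · -- type B
    obtain ⟨s, hs, hsn, hsd⟩ := hA
    have h3 : Nat.Coprime (R2.Spec.X1.TD.mm q) X := h.coprime_of fun t ht htn htX =>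
      one_kind hQ hm h ht hs htn hsn (htX.trans hXd) hsd
    have h4 := h3.dvd_of_dvd_mul_left hn2
    rw [hfac] at h4
    rcases Nat.even_or_odd (m - 1) with he | ho
    · obtain ⟨j, hj⟩ := he
      have h5 : Nat.Coprime (R2.Spec.X1.TD.mm q) (u ^ (m - 1) - 1) := by
        have := hco j (by omega) (by omega)
        rwa [show 2 * j = m - 1 by omega] at this
      have h6 := h5.dvd_of_dvd_mul_right h4
      have h7 := dvdN (u ^ (m - 1) + 1) 2 s₀ hs₀ hsn₀ (hsn₀.trans h6) (by norm_num)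
        (exists_small hQ hm (i := m - 1) (by omega) (Or.inr rfl) (elt_tor_minus (by omega) dvd_rfl))
      exact evenB h.par hu (by omega) ⟨j, hj⟩ h6 h7
    · have h5 : Nat.Coprime (R2.Spec.X1.TD.mm q) (u ^ (m - 1) + 1) := h.coprime_of fun t ht htn htd =>
        oddB_plus hu ho hco2 (dvdN (u ^ (m - 1) + 1) 2 t ht htn htd (by norm_num)
          (exists_small hQ hm (i := m - 1) (by omega) (Or.inr rfl) (elt_tor_minus (by omega) dvd_rfl)))
      have h6 := h5.dvd_of_dvd_mul_left h4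
      have h7 := dvdN (u ^ (m - 1) - 1) 2 s₀ hs₀ hsn₀ (hsn₀.trans h6) (by norm_num)
        (exists_small hQ hm (i := m - 1) (by omega) (Or.inl rfl) (elt_tor_plus (by omega) dvd_rfl))
      obtain ⟨x, hx⟩ := exists_small hQ hm (i := m - 1 - 1) (by omega) (Or.inl rfl)
        (elt_tor_plus (F := F) (by omega) dvd_rfl)
      exact oddB h.par hu (by omega) h6 h7 hco2 (ord_of_dvd h hx)
  · -- type A
    push Not at hA
    have h3 : Nat.Coprime (R2.Spec.X1.TD.mm q) (u ^ (2 * (m - 1)) - 1) := h.coprime_of hA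
    have h4 := h3.dvd_of_dvd_mul_right hn2
    obtain ⟨x, hx⟩ := exists_small hQ hm (i := m - 1) (by omega) (Or.inl rfl)
      (elt_tor_plus (F := F) (by omega) dvd_rfl)
    rcases hX with ⟨rfl, rfl⟩ | ⟨rfl, rfl⟩
    · have h7 := dvdN (u ^ m - 1) 4 s₀ hs₀ hsn₀ (hsn₀.trans h4) (by norm_num)
        (exists_of_elt hQ (by omega) (elt_tor_plus (by omega) dvd_rfl))
      exact plusA h.par hu hm h4 h7 hco2 (ord_of_dvd h hx)
    · have h7 := dvdN (u ^ m + 1) 4 s₀ hs₀ hsn₀ (hsn₀.trans h4) (by norm_num)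
        (exists_of_elt hQ (by omega) (elt_tor_minus (by omega) dvd_rfl))
      exact minusA h.par hu hm h4 h7 hco2 (ord_of_dvd h hx)

end

/-- **Row `PΩ⁺(2m, u)` of S3478.** -/
theorem row_omega_plus {p q : ℕ} {F : Type*} [Field F] [Fintype F] {m : ℕ} (hm : 4 ≤ m)
    (h : Sit p q (Cfsg.POmega F (Cfsg.quadFormPlus m F))) : False := by
  have hc := Cfsg.Agent.S0293.result (F := F) rfl m hm
  rw [← Nat.card_eq_fintype_card] at hc
  rw [← coe_plusForm] at h hc
  exact row (sg_plusForm (F := F) m) hm h (Or.inl ⟨rfl, rfl⟩) (hc ▸ Dvd.intro_left _ rfl)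

/-- **Row `PΩ⁻(2m, u)` of S3478.** -/
theorem row_omega_minus {p q : ℕ} {F : Type*} [Field F] [Fintype F] {m : ℕ} {a b : F} (hm : 4 ≤ m)
    (hab : ∀ z₁ z₂ : F, z₁ ^ 2 + a * z₁ * z₂ + b * z₂ ^ 2 = 0 → z₁ = 0 ∧ z₂ = 0)
    (h : Sit p q (Cfsg.POmega F (Cfsg.quadFormMinus (m - 1) F a b))) : False := by
  have hc := Cfsg.Agent.S0294.result (F := F) rfl m hm a b hab
  rw [← Nat.card_eq_fintype_card] at hc
  have hs := sg_minusForm (F := F) (m - 1) hab
  rw [Nat.sub_add_cancel (by omega)] at hs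
  rw [← coe_minusForm] at h hc
  exact row hs hm h (Or.inr ⟨rfl, rfl⟩) (hc ▸ Dvd.intro_left _ rfl)

end Cfsg.Agent.R2.Spec.X1.TRa
end
end

-- part: R2/Spec/X3/PL/NumOdd2
section
prune_inst 0x12020441c40000000000004320002042000010000200001b800040000465342804001014c801d02100c1a0038040000001000400040000004003000000201208028840070810308880011803007180c00000000000000000000000000041004000000000
set_option linter.all false
open scoped Cfsg.Agent.FastGrp

-- part: R2/Spec/X3/PL/NumOdd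
section
/-!
# Packet P-L of box X3 (S3435): the numeric lemma for odd indices (helper4)
-/

set_option autoImplicit false

namespace Cfsg.Agent.R2.Spec.X3.PL

/-- the exceptional pairs -/
def ckE (T N y : ℤ) (h : ℕ) : Bool :=
  !(decide (T * ((y * y ^ h - 1) * (y ^ h - 1)) = N * (y * (y ^ h) ^ 2 - 1))) ||
    (Nat.beq h 1 && (decide (T = 13 ∧ N = 8 ∧ y = 3) || decide (T = 19 ∧ N = 21 ∧ y = -8) ||
      decide (T = 91 ∧ N = 80 ∧ y = 9)))

def ckEy (y : ℤ) (H : ℕ) : Bool :=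
  (excI ++ excII).all fun P => (List.range H).all fun h => Nat.beq h 0 || ckE P.2.1 P.2.2 y h

private theorem _root_.Cfsg.Agent.KO43aa3fa.e0.{ku, kv} {α : Type kv} {M : List α → Sort ku} (φ : ∀ l, M l) {z : M List.nil} {s : ∀ a l, M l → M (List.cons a l)} (h0 : φ List.nil = z) (hs : ∀ a l, φ (List.cons a l) = s a l (φ l)) (l : List α) : φ l = @List.rec α M z s l := List.rec h0 (fun a l ih => (hs a l).trans (congrArg (s a l) ih)) l
private noncomputable def _root_.Cfsg.Agent.KO43aa3fa.k1.{ku0} : type_of% @List.all.{ku0} := @(fun x0 x1 x2 => @List.rec.{(ku0+1), ku0} @x0 @(fun x3 => (@x0 → @Bool) → @Bool) @(fun x3 => @Bool.true) @(fun x3 x4 x5 x6 => @Bool.rec.{1} @(fun x7 => @Bool) @Bool.false (@x5 @x6) (@x6 @x3)) @x1 @x2)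
private theorem _root_.Cfsg.Agent.KO43aa3fa.e1.{ku0} : @List.all.{ku0} = @_root_.Cfsg.Agent.KO43aa3fa.k1.{ku0} := by delta _root_.Cfsg.Agent.KO43aa3fa.k1; funext a0 a1 a2; refine (congrFun (_root_.Cfsg.Agent.KO43aa3fa.e0 (fun a1 a2 => @List.all.{ku0} a0 a1 a2) ?_ (fun c0 c1 => ?_) a1) a2 :) <;> (rfl')
private theorem _root_.Cfsg.Agent.KO43aa3fa.e2.{ku} {M : Nat → Sort ku} (φ : ∀ n, M n) {z : M Nat.zero} {s : ∀ n, M n → M (Nat.succ n)} (h0 : φ Nat.zero = z) (hs : ∀ n, φ (Nat.succ n) = s n (φ n)) (n : Nat) : φ n = @Nat.rec M z s n := Nat.rec h0 (fun n ih => (hs n).trans (congrArg (s n) ih)) n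
private noncomputable def _root_.Cfsg.Agent.KO43aa3fa.k3 : type_of% @List.range.loop := @(fun x0 x1 => @Nat.rec.{1} @(fun x2 => (@List.{0} ℕ) → @List.{0} ℕ) @(fun x2 => @x2) @(fun x2 x3 x4 => @x3 (@x2 :: @x4)) @x0 @x1)
private theorem _root_.Cfsg.Agent.KO43aa3fa.e3 : @List.range.loop = @_root_.Cfsg.Agent.KO43aa3fa.k3 := by delta _root_.Cfsg.Agent.KO43aa3fa.k3; funext a0 a1; refine (congrFun (_root_.Cfsg.Agent.KO43aa3fa.e2 (fun a0 a1 => @List.range.loop a0 a1) ?_ (fun c0 => ?_) a0) a1 :) <;> (rfl')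
private noncomputable def _root_.Cfsg.Agent.KO43aa3fa.k4 : type_of% @List.range := @(fun x0 => @Cfsg.Agent.KO43aa3fa.k3 @x0 [])
private theorem _root_.Cfsg.Agent.KO43aa3fa.e4 : @List.range = @_root_.Cfsg.Agent.KO43aa3fa.k4 := by delta _root_.Cfsg.Agent.KO43aa3fa.k4; rewrite [← Cfsg.Agent.KO43aa3fa.e3]; rfl'
private noncomputable def _root_.Cfsg.Agent.KO43aa3fa.k5 : type_of% @Bool.or := @(fun x0 x1 => @Bool.rec.{1} @(fun x2 => @Bool) @x1 @Bool.true @x0)
private theorem _root_.Cfsg.Agent.KO43aa3fa.e5 : @Bool.or = @_root_.Cfsg.Agent.KO43aa3fa.k5 := by delta _root_.Cfsg.Agent.KO43aa3fa.k5; rfl'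
private noncomputable def _root_.Cfsg.Agent.KO43aa3fa.k6 : type_of% @Bool.and := @(fun x0 x1 => @Bool.rec.{1} @(fun x2 => @Bool) @Bool.false @x1 @x0)
private theorem _root_.Cfsg.Agent.KO43aa3fa.e6 : @Bool.and = @_root_.Cfsg.Agent.KO43aa3fa.k6 := by delta _root_.Cfsg.Agent.KO43aa3fa.k6; rfl'
private noncomputable def _root_.Cfsg.Agent.KO43aa3fa.k7.{ku0} : type_of% @List.append.{ku0} := @(fun x0 x1 x2 => @List.rec.{(ku0+1), ku0} @x0 @(fun x3 => (@List.{ku0} @x0) → @List.{ku0} @x0) @(fun x3 => @x3) @(fun x3 x4 x5 x6 => @x3 :: (@x5 @x6)) @x1 @x2)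
private theorem _root_.Cfsg.Agent.KO43aa3fa.e7.{ku0} : @List.append.{ku0} = @_root_.Cfsg.Agent.KO43aa3fa.k7.{ku0} := by delta _root_.Cfsg.Agent.KO43aa3fa.k7; funext a0 a1 a2; refine (congrFun (_root_.Cfsg.Agent.KO43aa3fa.e0 (fun a1 a2 => @List.append.{ku0} a0 a1 a2) ?_ (fun c0 c1 => ?_) a1) a2 :) <;> (rfl')
private noncomputable def _root_.Cfsg.Agent.KO43aa3fa.k8 : type_of% @instDecidableAnd := @(fun x0 x1 x2 x3 => @Decidable.rec.{1} _ @(fun x4 => @Decidable (@And @x0 @x1)) @(fun x4 => @Decidable.isFalse _ (@instDecidableAnd._proof_2 _ _ @x4)) @(fun x4 => @Decidable.rec.{1} _ @(fun x5 => @Decidable (@And @x0 @x1)) @(fun x5 => @Decidable.isFalse _ (@instDecidableAnd._proof_1 _ _ @x5)) @(fun x5 => @Decidable.isTrue _ (@And.intro _ _ @x4 @x5)) @x3) @x2)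
private theorem _root_.Cfsg.Agent.KO43aa3fa.e8 : @instDecidableAnd = @_root_.Cfsg.Agent.KO43aa3fa.k8 := by delta _root_.Cfsg.Agent.KO43aa3fa.k8; rfl'
private noncomputable def _root_.Cfsg.Agent.KO43aa3fa.k9 : type_of% @Nat.decEq := @(fun x0 x1 => @Bool.rec.{1} @(fun x2 => (@Eq.{1} _ (@Nat.beq @x0 @x1) @x2) → @Decidable (@Eq.{1} _ @x0 @x1)) @(fun x2 => @Decidable.isFalse _ (@Nat.ne_of_beq_eq_false _ _ @x2)) @(fun x2 => @Decidable.isTrue _ (@Nat.eq_of_beq_eq_true _ _ @x2)) (@Nat.beq @x0 @x1) (@Eq.refl.{1} _ (@Nat.beq @x0 @x1)))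
private theorem _root_.Cfsg.Agent.KO43aa3fa.e9 : @Nat.decEq = @_root_.Cfsg.Agent.KO43aa3fa.k9 := by delta _root_.Cfsg.Agent.KO43aa3fa.k9; rfl'
private noncomputable def _root_.Cfsg.Agent.KO43aa3fa.k10 : type_of% @Int.decEq := @(fun x0 x1 => @Int.rec.{1} @(fun x2 => @Decidable (@Eq.{1} _ @x2 @x1)) @(fun x2 => @Int.rec.{1} @(fun x3 => @Decidable (@Eq.{1} _ (@Int.ofNat @x2) @x3)) @(fun x3 => @Decidable.rec.{1} _ @(fun x4 => @Decidable (@Eq.{1} _ (@Int.ofNat @x2) (@Int.ofNat @x3))) @(fun x4 => @Decidable.isFalse _ (@Int.decEq._proof_2 @x2 @x3 @x4)) @(fun x4 => @Decidable.isTrue _ (@Int.decEq._proof_1 @x2 @x3 @x4)) (@Cfsg.Agent.KO43aa3fa.k9 @x2 @x3)) @(fun x3 => @Decidable.isFalse _ (@Int.decEq._proof_3 @x2 @x3)) @x1) @(fun x2 => @Int.rec.{1} @(fun x3 => @Decidable (@Eq.{1} _ (@Int.negSucc @x2) @x3)) @(fun x3 => @Decidable.isFalse _ (@Int.decEq._proof_4 @x2 @x3)) @(fun x3 => @Decidable.rec.{1} _ @(fun x4 => @Decidable (@Eq.{1}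 _ (@Int.negSucc @x2) (@Int.negSucc @x3))) @(fun x4 => @Decidable.isFalse _ (@Int.decEq._proof_6 @x2 @x3 @x4)) @(fun x4 => @Decidable.isTrue _ (@Int.decEq._proof_5 @x2 @x3 @x4)) (@Cfsg.Agent.KO43aa3fa.k9 @x2 @x3)) @x1) @x0)
private theorem _root_.Cfsg.Agent.KO43aa3fa.e10 : @Int.decEq = @_root_.Cfsg.Agent.KO43aa3fa.k10 := by delta _root_.Cfsg.Agent.KO43aa3fa.k10; rewrite [← Cfsg.Agent.KO43aa3fa.e9]; rfl'
private noncomputable def _root_.Cfsg.Agent.KO43aa3fa.k15 : (by first | exact type_of% @Cfsg.Agent.R2.Spec.X3.PL.ckE | exact Unit : Sort _) := by first | (refine @Subtype.val _ (fun g => @Cfsg.Agent.R2.Spec.X3.PL.ckE = @g) (@Subtype.mk _ _ (@(fun x0 x1 x2 x3 => @Bool.rec.{1} @(fun x4 => @Bool) (@Bool.rec.{1} @(fun x4 => @Bool) @Bool.false (@Bool.rec.{1} @(fun x4 => @Bool) (@Decidable.rec.{1} _ @(fun x4 => @Bool) @(fun x4 => @Bool.false) @(fun x4 => @Bool.true) (@Cfsg.Agent.KO43aa3fa.k8 _ _ (@Cfsg.Agent.KO43aa3fa.k10 @x0 (@Int.ofNat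 (nat_lit 91))) (@Cfsg.Agent.KO43aa3fa.k8 _ _ (@Cfsg.Agent.KO43aa3fa.k10 @x1 (@Int.ofNat (nat_lit 80))) (@Cfsg.Agent.KO43aa3fa.k10 @x2 (@Int.ofNat (nat_lit 9)))))) @Bool.true (@Bool.rec.{1} @(fun x4 => @Bool) (@Decidable.rec.{1} _ @(fun x4 => @Bool) @(fun x4 => @Bool.false) @(fun x4 => @Bool.true) (@Cfsg.Agent.KO43aa3fa.k8 _ _ (@Cfsg.Agent.KO43aa3fa.k10 @x0 (@Int.ofNat (nat_lit 19))) (@Cfsg.Agent.KO43aa3fa.k8 _ _ (@Cfsg.Agent.KO43aa3fa.k10 @x1 (@Int.ofNat (nat_lit 21))) (@Cfsg.Agent.KO43aa3fa.k10 @x2 (@Nat.rec.{1} @(fun x4 => ℤ) (@Int.ofNat (nat_lit 0)) @(fun x4 x5 => @Int.negSucc @x4) (nat_lit 8)))))) @Bool.true (@Decidable.rec.{1} _ @(fun x4 => @Bool) @(fun x4 => @Bool.false) @(fun x4 => @Bool.true) (@Cfsg.Agent.KO43aa3fa.k8 _ _ (@Cfsg.Agent.KO43aa3fa.k10 @x0 (@Int.ofNat (nat_lit 13))) (@Cfsg.Agent.KO43aa3fa.k8 _ _ (@Cfsg.Agent.KO43aa3fa.k10 @x1 (@Int.ofNat (nat_lit 8))) (@Cfsg.Agent.KO43aa3fa.k10 @x2 (@Int.ofNat (nat_lit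 3)))))))) (@Nat.beq @x3 (nat_lit 1))) @Bool.true (@Bool.rec.{1} @(fun x4 => @Bool) @Bool.true @Bool.false (@Decidable.rec.{1} _ @(fun x4 => @Bool) @(fun x4 => @Bool.false) @(fun x4 => @Bool.true) (@Cfsg.Agent.KO43aa3fa.k10 (@Int.mul @x0 (@Int.mul (@Int.add (@Int.mul @x2 (@Int.pow @x2 @x3)) (@Nat.rec.{1} @(fun x4 => ℤ) (@Int.ofNat (nat_lit 0)) @(fun x4 x5 => @Int.negSucc @x4) (nat_lit 1))) (@Int.add (@Int.pow @x2 @x3) (@Nat.rec.{1} @(fun x4 => ℤ) (@Int.ofNat (nat_lit 0)) @(fun x4 x5 => @Int.negSucc @x4) (nat_lit 1))))) (@Int.mul @x1 (@Int.add (@Int.mul @x2 (@Int.pow (@Int.pow @x2 @x3) (nat_lit 2))) (@Nat.rec.{1} @(fun x4 => ℤ) (@Int.ofNat (nat_lit 0)) @(fun x4 x5 => @Int.negSucc @x4) (nat_lit 1))))))))) ?_); rewrite [← Cfsg.Agent.KO43aa3fa.e10, ← Cfsg.Agent.KO43aa3fa.e8]; rfl') | exact @Cfsg.Agent.R2.Spec.X3.PL.ckE | exact ()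
private theorem _root_.Cfsg.Agent.KO43aa3fa.e15 : (by first | exact @Cfsg.Agent.R2.Spec.X3.PL.ckE = @_root_.Cfsg.Agent.KO43aa3fa.k15 | exact True : Prop) := by first | (delta _root_.Cfsg.Agent.KO43aa3fa.k15; exact @Subtype.property _ (fun g => @Cfsg.Agent.R2.Spec.X3.PL.ckE = @g) _) | rfl | trivial
private noncomputable def _root_.Cfsg.Agent.KO43aa3fa.k16 : (by first | exact type_of% @Cfsg.Agent.R2.Spec.X3.PL.ckEy | exact Unit : Sort _) := by first | (refine @Subtype.val _ (fun g => @Cfsg.Agent.R2.Spec.X3.PL.ckEy = @g) (@Subtype.mk _ _ (@(fun x0 x1 => @Cfsg.Agent.KO43aa3fa.k1.{0} _ (@Cfsg.Agent.KO43aa3fa.k7.{0} _ @Cfsg.Agent.R2.Spec.X3.excI @Cfsg.Agent.R2.Spec.X3.excII) @(fun x2 => @Cfsg.Agent.KO43aa3fa.k1.{0} _ (@Cfsg.Agent.KO43aa3fa.k3 @x1 []) @(fun x3 => @Bool.rec.{1} @(fun x4 => @Bool) (@Cfsg.Agent.KO43aa3fa.k15 (@Prod.fst.{0, 0} _ _ (@Prod.snd.{0, 0} _ _ @x2)) (@Prod.snd.{0, 0} _ _ (@Prod.snd.{0, 0} _ _ @x2)) @x0 @x3)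 @Bool.true (@Nat.beq @x3 (nat_lit 0)))))) ?_); rewrite [← Cfsg.Agent.KO43aa3fa.e15, ← Cfsg.Agent.KO43aa3fa.e3, ← Cfsg.Agent.KO43aa3fa.e7.{0}, ← Cfsg.Agent.KO43aa3fa.e1.{0}]; (try delta Cfsg.Agent.R2.Spec.X3.PL.ckEy); (try generalize @Cfsg.Agent.R2.Spec.X3.excI = g0); (try generalize @Cfsg.Agent.R2.Spec.X3.excII = g1); (try generalize @Cfsg.Agent.R2.Spec.X3.PL.ckE = g2); rfl') | exact @Cfsg.Agent.R2.Spec.X3.PL.ckEy | exact ()
private theorem _root_.Cfsg.Agent.KO43aa3fa.e16 : (by first | exact @Cfsg.Agent.R2.Spec.X3.PL.ckEy = @_root_.Cfsg.Agent.KO43aa3fa.k16 | exact True : Prop) := by first | (delta _root_.Cfsg.Agent.KO43aa3fa.k16; exact @Subtype.property _ (fun g => @Cfsg.Agent.R2.Spec.X3.PL.ckEy = @g) _) | rfl | trivial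

theorem ckE_one : ((List.range 200).all fun u => Nat.ble u 1 || (ckEy (u : ℤ) 2 && ckEy (-(u : ℤ)) 2)) = true := by
  (first | (rewrite [Cfsg.Agent.KO43aa3fa.e1.{0}, Cfsg.Agent.KO43aa3fa.e4, Cfsg.Agent.KO43aa3fa.e5, Cfsg.Agent.KO43aa3fa.e6, Cfsg.Agent.KO43aa3fa.e16]; decide +kernel) | decide +kernel)

theorem ckE_two : ((List.range 40).all fun u => Nat.ble u 1 || (ckEy (u : ℤ) 9 && ckEy (-(u : ℤ)) 9)) = true := by
  (first | (rewrite [Cfsg.Agent.KO43aa3fa.e1.{0}, Cfsg.Agent.KO43aa3fa.e4, Cfsg.Agent.KO43aa3fa.e5, Cfsg.Agent.KO43aa3fa.e6, Cfsg.Agent.KO43aa3fa.e16]; decide +kernel) | decide +kernel)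

theorem ckE_of {y : ℤ} {U H h : ℕ}
    (hc : ((List.range U).all fun u => Nat.ble u 1 || (ckEy (u : ℤ) H && ckEy (-(u : ℤ)) H)) = true)
    (hy : 2 ≤ |y|) (hyU : |y| < U) (hh : 1 ≤ h) (hhH : h < H) {P : ℤ × ℤ × ℤ} (hP : P ∈ excI ++ excII) :
    ckE P.2.1 P.2.2 y h = true := by
  have h0 : (y.natAbs : ℤ) = |y| := (Int.abs_eq_natAbs y).symm
  have h3 := List.all_eq_true.1 hc y.natAbs (List.mem_range.2 (by omega))
  rw [Bool.or_eq_true, Bool.and_eq_true] at h3
  have h4 : ckEy y H = true := by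
    rcases h3 with h3 | ⟨h3, h4⟩
    · have := Nat.le_of_ble_eq_true h3
      omega
    · rcases abs_cases y with ⟨h1, h2⟩ | ⟨h1, h2⟩
      · rwa [show ((y.natAbs : ℕ) : ℤ) = y by omega] at h3
      · rwa [show -((y.natAbs : ℕ) : ℤ) = y by omega] at h4
  have h5 := List.all_eq_true.1 (List.all_eq_true.1 h4 P hP) h (List.mem_range.2 hhH)
  rw [Bool.or_eq_true] at h5
  rcases h5 with h5 | h5
  · have : h = 0 := by simpa using h5
    omega
  · exact h5

theorem exc_T_le {P : ℤ × ℤ × ℤ} (hP : P ∈ excI ++ excII) : P.2.1 ≤ 39331 := by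
  revert P
  decide

section

variable {y T N : ℤ} {d h : ℕ} (hy : 2 ≤ |y|) (hd : (d : ℤ) ∣ y - 1) (hdo : d % 2 = 1) (hh : 1 ≤ h)
  (h1 : h = 1 → d = 1) (hT : (y - 1) * d * T = y * (y ^ h) ^ 2 - 1)
  (hN : (y - 1) * d * N = (y * y ^ h - 1) * (y ^ h - 1))
include hy hd hdo hh h1 hT hN

/-- **the exceptional pairs** -/
theorem exc_cases {x : ℤ} (hT0 : 0 < T) (hP : (x, T, N) ∈ excI ++ excII) :
    h = 1 ∧ ((T = 13 ∧ N = 8 ∧ y = 3) ∨ (T = 91 ∧ N = 80 ∧ y = 9)) := by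
  have hTle : T ≤ 39331 := exc_T_le hP
  have hdle := d_le hy hd hdo hh
  have hcross : T * ((y * y ^ h - 1) * (y ^ h - 1)) = N * (y * (y ^ h) ^ 2 - 1) := by
    rw [← hN, ← hT]; ring
  -- the size of `y ^ (2 h + 1)`
  have hsz : |y| ^ (2 * h + 1) ≤ |y - 1| * d * T + 1 := by
    have e : |y| ^ (2 * h + 1) = |y * (y ^ h) ^ 2| := by
      rw [abs_mul, abs_pow, abs_pow, ← pow_mul, ← pow_succ', mul_comm h 2]
    have e2 : |(y - 1) * d * T| = |y - 1| * d * T := by
      rw [abs_mul, abs_mul, abs_of_pos hT0, Nat.abs_cast]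
    rw [e, ← e2, hT]
    have := abs_sub_abs_le_abs_sub (y * (y ^ h) ^ 2) 1
    simp only [abs_one] at this
    omega
  have hy1 : |y - 1| ≤ |y| + 1 := by
    have := abs_sub y 1
    simpa using this
  have hfin : ckE T N y h = true → h = 1 ∧ ((T = 13 ∧ N = 8 ∧ y = 3) ∨ (T = 91 ∧ N = 80 ∧ y = 9)) := by
    intro hc
    rw [ckE, Bool.or_eq_true, Bool.and_eq_true, Bool.or_eq_true, Bool.or_eq_true] at hc
    rcases hc with hc | ⟨hc1, (hc | hc) | hc⟩
    · simp [hcross] at hc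
    · exact ⟨by simpa using hc1, Or.inl (by simpa using hc)⟩
    · exfalso
      have hh1 : h = 1 := by simpa using hc1
      obtain ⟨rfl, rfl, rfl⟩ : T = 19 ∧ N = 21 ∧ y = -8 := by simpa using hc
      rw [h1 hh1, hh1] at hT
      norm_num at hT
    · exact ⟨by simpa using hc1, Or.inr (by simpa using hc)⟩
  obtain ⟨u, hu⟩ : ∃ u : ℤ, u = |y| := ⟨_, rfl⟩
  rw [← hu] at hsz hy1 hdle
  have hu2 : 2 ≤ u := by omega
  rcases Nat.lt_or_ge h 2 with h2 | h2
  · have hh1 : h = 1 := by omega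
    have hd1 := h1 hh1
    refine hfin (ckE_of (P := (x, T, N)) ckE_one hy ?_ hh (by omega) hP)
    rw [← hu]
    by_contra hcon
    push Not at hcon
    rw [hh1, hd1] at hsz
    have h3 : |y - 1| * (1 : ℕ) * T ≤ (u + 1) * 39331 := by
      push_cast
      rw [mul_one]
      exact mul_le_mul hy1 hTle hT0.le (by omega)
    have h4 : u ^ (2 * 1 + 1) = u * u * u := by ring
    rw [h4] at hsz
    push_cast at hcon
    nlinarith only [hsz, hcon, h3]
  · have h3 : |y - 1| * d * T ≤ (u + 1) * (u + 1) * 39331 := by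
      refine mul_le_mul (mul_le_mul hy1 hdle (by positivity) (by omega)) hTle hT0.le (by positivity)
    have hu40 : u < 40 := by
      by_contra hcon
      push Not at hcon
      have h4 : u ^ 5 ≤ u ^ (2 * h + 1) := pow_le_pow_right₀ (by omega) (by omega)
      have h5 : u ^ 5 = u * u * (u * u * u) := by ring
      have h6 : (64000 : ℤ) ≤ u * u * u := by
        calc (64000 : ℤ) = 40 * 40 * 40 := by norm_num
          _ ≤ u * u * u := by gcongr
      have h7 : u * u * 64000 ≤ u * u * (u * u * u) := mul_le_mul_of_nonneg_left h6 (by positivity)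
      nlinarith only [hsz, h3, hcon, h4, h7]
    have hh9 : h < 9 := by
      by_contra hcon
      push Not at hcon
      have h4 : u ^ 19 ≤ u ^ (2 * h + 1) := pow_le_pow_right₀ (by omega) (by omega)
      have h5 : u ^ 19 = u * u * u ^ 17 := by ring
      have h6 : (2 : ℤ) ^ 17 ≤ u ^ 17 := pow_le_pow_left₀ (by norm_num) hu2 17
      have h7 : u * u * 2 ^ 17 ≤ u * u * u ^ 17 := mul_le_mul_of_nonneg_left h6 (by positivity)
      nlinarith only [hy, hsz, hu, h3, h4, h7]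
    exact hfin (ckE_of (P := (x, T, N)) ckE_two hy (by rw [← hu]; exact_mod_cast hu40) hh hh9 hP)

omit hd hdo h1 in
/-- **`T - N` does not divide `T`** -/
theorem no_dvd {K : ℤ} (h0 : 0 < T - N) (hK : T = (T - N) * K) (hd1 : 1 ≤ d) : False := by
  obtain ⟨X, hX⟩ : ∃ X, X = y ^ h := ⟨_, rfl⟩
  rw [← hX] at hT hN
  have hyX : y ∣ X := by rw [hX]; exact dvd_pow_self y (by omega)
  obtain ⟨V, hV⟩ : ∃ V, V = (y + 1) * X - 2 := ⟨_, rfl⟩
  have e1 : (y - 1) * d * (T - N) = V := by rw [hV]; linear_combination hT - hN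
  have e2 : V * K = y * X ^ 2 - 1 := by
    rw [← hT, ← e1]
    linear_combination (-(y - 1) * d) * hK
  have e3 : V * (y * V + 4 * y - K * (y + 1) ^ 2) = (y - 1) ^ 2 := by
    have : V * K * (y + 1) ^ 2 = (y * X ^ 2 - 1) * (y + 1) ^ 2 := by rw [e2]
    rw [hV] at this ⊢
    linear_combination -this
  have hdvd : V ∣ (y - 1) ^ 2 := ⟨_, e3.symm⟩
  have hne : (y - 1) ^ 2 ≠ 0 := by
    have : y - 1 ≠ 0 := by
      intro h2
      have : y = 1 := by omega
      rw [this] at hy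
      norm_num at hy
    (clear * - this; positivity)
  have hle : |V| ≤ (y - 1) ^ 2 := by
    have := Int.le_of_dvd (lt_of_le_of_ne (sq_nonneg _) hne.symm) ((abs_dvd V _).2 hdvd)
    exact this
  have hdZ : (1 : ℤ) ≤ d := by exact_mod_cast hd1
  rcases abs_cases y with ⟨a1, a2⟩ | ⟨a1, a2⟩
  · -- `y ≥ 2`
    have hy2 : 2 ≤ y := by omega
    have hXy : y ≤ X := by rw [hX]; exact le_self_pow₀ (by omega) (by omega)
    have := (le_abs_self V).trans hle
    rw [hV] at this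
    nlinarith only [hy, a1, hXy, this]
  · -- `y ≤ -2`
    have hy2 : y ≤ -2 := by omega
    have hVneg : V < 0 := by
      rw [← e1]
      have : (y - 1) * d < 0 := mul_neg_of_neg_of_pos (by omega) (by omega)
      exact mul_neg_of_neg_of_pos this h0
    rcases Nat.even_or_odd h with he | ho
    · have hXy : y ^ 2 ≤ X := by
        obtain ⟨k, rfl⟩ := he
        have hk : 1 ≤ k := by omega
        rw [hX, ← two_mul, pow_mul]
        exact le_self_pow₀ (by linarith only [hy, a1, _root_.sq_nonneg (y + 1 : ℤ)]) (by omega)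
      have h5 := (neg_le_abs V).trans hle
      rw [hV] at h5
      obtain ⟨u, rfl⟩ : ∃ u, y = -u := ⟨-y, by omega⟩
      have hu2 : 2 ≤ u := by omega
      rcases (by omega : u = 2 ∨ 3 ≤ u) with rfl | hu3
      · obtain ⟨c, hc⟩ := hyX
        norm_num only [_root_.neg_mul, _root_.one_mul, _root_.neg_sub, _root_.sub_neg_eq_add] at h5 hXy hV hdvd
        have hX4 : X = 4 ∨ X = 6 := by omega
        rcases hX4 with h6 | h6
        · rw [h6] at hV
          rw [hV] at hdvd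
          norm_num at hdvd
        · rw [h6] at hV
          rw [hV] at hdvd
          norm_num at hdvd
      · nlinarith only [hXy, h5, hu3]
    · have hXn : X ≤ y := by
        obtain ⟨k, rfl⟩ := ho
        rw [hX, pow_succ]
        have h7 : 1 ≤ y ^ (2 * k) := by
          rw [pow_mul]
          exact one_le_pow₀ (by linarith only [hy, a1, _root_.sq_nonneg (y + 1 : ℤ)])
        nlinarith only [hy, a1, h7]
      rw [hV] at hVneg
      nlinarith only [hy, a1, hVneg, hXn]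

end

end Cfsg.Agent.R2.Spec.X3.PL
end

-- part: R2/Spec/X3/PL/NumOdd2
section
/-!
# Packet P-L of box X3 (S3435): the numeric lemma for odd indices, the conclusion (helper4)
-/

set_option autoImplicit false

namespace Cfsg.Agent.R2.Spec.X3.PL

/-- elimination, the case `δ (T - N) = x + 2` -/
theorem relA {y X D x δ : ℤ} (hA : D * (x + 2) = δ * ((y + 1) * X - 2)) (hB : D * (x ^ 2 + x + 1) = δ * (y * X ^ 2 - 1)) :
    (δ * ((y + 1) * X - 2)) ^ 2 - 3 * D * (δ * ((y + 1) * X - 2)) + 3 * D ^ 2 = D * (δ * (y * X ^ 2 - 1)) := by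
  rw [← hA, ← hB]; ring

/-- elimination, the case `δ (T - N) = 2 x + 1` -/
theorem relB {y X D x δ : ℤ} (hA : D * (2 * x + 1) = δ * ((y + 1) * X - 2))
    (hB : D * (x ^ 2 + x + 1) = δ * (y * X ^ 2 - 1)) :
    (δ * ((y + 1) * X - 2)) ^ 2 + 3 * D ^ 2 = 4 * D * (δ * (y * X ^ 2 - 1)) := by
  rw [← hA, ← hB]; ring

/-- elimination, the case `T - N = x` -/
theorem relC {y X D x : ℤ} (hA : D * x = (y + 1) * X - 2) (hB : D * (x ^ 2 + x + 1) = y * X ^ 2 - 1) :
    ((y + 1) * X - 2) ^ 2 + D * ((y + 1) * X - 2) + D ^ 2 = D * (y * X ^ 2 - 1) := by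
  rw [← hA, ← hB]; ring

theorem pow_cases {y : ℤ} {h : ℕ} (hy : 2 ≤ |y|) (hh : 1 ≤ h) :
    (2 ≤ y ∧ y ≤ y ^ h) ∨ (y ≤ -2 ∧ (y ^ 2 ≤ y ^ h ∨ y ^ h ≤ y)) := by
  rcases abs_cases y with ⟨a1, a2⟩ | ⟨a1, a2⟩
  · left
    have hy2 : 2 ≤ y := by omega
    exact ⟨hy2, le_self_pow₀ (by omega) (by omega)⟩
  · right
    have hy2 : y ≤ -2 := by omega
    refine ⟨hy2, ?_⟩
    rcases Nat.even_or_odd h with he | ho
    · left
      obtain ⟨k, rfl⟩ := he
      have hk : 1 ≤ k := by omega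
      rw [← two_mul, pow_mul]
      exact le_self_pow₀ (by nlinarith only [hy, a1]) (by omega)
    · right
      obtain ⟨k, rfl⟩ := ho
      rw [pow_succ]
      have h7 : 1 ≤ y ^ (2 * k) := by
        rw [pow_mul]
        exact one_le_pow₀ (by nlinarith only [hy, a1])
      nlinarith only [hy, a1, h7]

theorem eq_one_of_pow_eq {y : ℤ} {h : ℕ} (hy : 2 ≤ |y|) (h2 : y ^ h = y) : h = 1 := by
  have h3 : y.natAbs ^ h = y.natAbs ^ 1 := by rw [← Int.natAbs_pow, h2, pow_one]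
  exact Nat.pow_right_injective (by
    rw [Int.abs_eq_natAbs] at hy
    exact_mod_cast hy) h3

/-- the case `a d = 1`, type I -/
theorem one_I {y : ℤ} {h : ℕ} (hy : 2 ≤ |y|) (hh : 1 ≤ h)
    (hs : (y ^ h - 1) * ((y ^ 2 + 5 * y + 2) * y ^ h - (y ^ 2 + 3 * y + 4)) = 0) : y = -4 ∧ h = 1 := by
  have hyX : y ∣ y ^ h := dvd_pow_self y (by omega)
  have hc := pow_cases hy hh
  obtain ⟨X, hX⟩ : ∃ X, X = y ^ h := ⟨_, rfl⟩
  rw [← hX] at hs hyX hc
  rcases mul_eq_zero.1 hs with h5 | h5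
  · exfalso
    rcases hc with ⟨h6, h7⟩ | ⟨h6, h7 | h7⟩
    · omega
    · nlinarith only [h5, h6, h7]
    · omega
  · rcases hc with ⟨h6, h7⟩ | ⟨h6, h7⟩
    · exfalso
      nlinarith only [h5, h6, mul_le_mul_of_nonneg_left h7 (by nlinarith : 0 ≤ y ^ 2 + 5 * y + 2)]
    · rcases le_or_gt y (-7) with h8 | h8
      · exfalso
        have h9 : 16 ≤ y ^ 2 + 5 * y + 2 := by nlinarith only [h8]
        rcases h7 with h7 | h7
        · have h10 : 7 ≤ X := by linarith only [h8, h9, h7]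
          nlinarith only [h5, h8, mul_le_mul_of_nonneg_left h10 (by linarith : 0 ≤ y ^ 2 + 5 * y + 2)]
        · linarith only [h5, h8, h9, mul_le_mul_of_nonneg_left (by omega : X ≤ -7) (by linarith : 0 ≤ y ^ 2 + 5 * y + 2)]
      · have h9 : y = -2 ∨ y = -3 ∨ y = -4 ∨ y = -5 ∨ y = -6 := by omega
        rcases h9 with rfl | rfl | rfl | rfl | rfl
        · exfalso; norm_num at h5; omega
        · exfalso; norm_num at h5; omega
        · norm_num at h5
          have h10 : X = -4 := by omega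
          exact ⟨rfl, eq_one_of_pow_eq hy (by rw [← hX, h10])⟩
        · exfalso; norm_num at h5; omega
        · exfalso; norm_num at h5; omega

/-- the case `d = 1`, II4 -/
theorem one_C {y : ℤ} {h : ℕ} (hy : 2 ≤ |y|) (hh : 1 ≤ h) :
    (3 * y + 1) * (y ^ h) ^ 2 + (y + 1) * (y - 5) * y ^ h + (y ^ 2 - 3 * y + 6) ≠ 0 := by
  have hc := pow_cases hy hh
  obtain ⟨X, hX⟩ : ∃ X, X = y ^ h := ⟨_, rfl⟩
  rw [← hX] at hc ⊢
  intro h0
  rcases hc with ⟨h6, h7⟩ | ⟨h6, h7⟩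
  · obtain ⟨t, rfl⟩ : ∃ t, y = 2 + t := ⟨y - 2, by omega⟩
    obtain ⟨s, rfl⟩ : ∃ s, X = 2 + t + s := ⟨X - (2 + t), by omega⟩
    have ht : 0 ≤ t := by omega
    have hs : 0 ≤ s := by omega
    have : 0 < (3 * (2 + t) + 1) * (2 + t + s) ^ 2 + (2 + t + 1) * (2 + t - 5) * (2 + t + s) +
        ((2 + t) ^ 2 - 3 * (2 + t) + 6) := by
      ring_nf
      (clear * - ht hs; positivity)
    omega
  · obtain ⟨t, rfl⟩ : ∃ t, y = -2 - t := ⟨-2 - y, by omega⟩
    have ht : 0 ≤ t := by omega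
    rcases h7 with h7 | h7
    · obtain ⟨s, rfl⟩ : ∃ s, X = (-2 - t) ^ 2 + s := ⟨X - (-2 - t) ^ 2, by ring⟩
      have hs : 0 ≤ s := by linarith
      have : 0 < -((3 * (-2 - t) + 1) * ((-2 - t) ^ 2 + s) ^ 2 + (-2 - t + 1) * (-2 - t - 5) * ((-2 - t) ^ 2 + s) +
          ((-2 - t) ^ 2 - 3 * (-2 - t) + 6)) := by
        ring_nf
        (clear * - ht hs; positivity)
      omega
    · obtain ⟨s, rfl⟩ : ∃ s, X = -2 - t - s := ⟨-2 - t - X, by ring⟩
      have hs : 0 ≤ s := by linarith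
      have : 0 < -((3 * (-2 - t) + 1) * (-2 - t - s) ^ 2 + (-2 - t + 1) * (-2 - t - 5) * (-2 - t - s) +
          ((-2 - t) ^ 2 - 3 * (-2 - t) + 6)) := by
        ring_nf
        (clear * - ht hs; positivity)
      omega

section

variable {y T N : ℤ} {d h : ℕ} (hy : 2 ≤ |y|) (hd : (d : ℤ) ∣ y - 1) (hdo : d % 2 = 1) (hh : 1 ≤ h)
  (h1 : h = 1 → d = 1) (hT : (y - 1) * d * T = y * (y ^ h) ^ 2 - 1)
  (hN : (y - 1) * d * N = (y * y ^ h - 1) * (y ^ h - 1))
include hy hd hdo hh h1 hT hN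

set_option linter.unusedSectionVars false in
theorem d_cases : d = 1 ∨ d = 3 ∨ 5 ≤ d := by omega

/-- type I, `Q = ± x` -/
theorem caseI {Q : ℤ} {a : ℕ} (hT13 : 13 ≤ T) (hao : a % 2 = 1) (ha9 : a ≤ 9) (hA : 2 * (T - N) = a * (1 + Q))
    (hB : 2 * T = a * (Q ^ 2 + 1)) : y = -4 ∧ h = 1 ∧ a = 1 ∧ Q = -5 := by
  obtain ⟨X, hX⟩ : ∃ X, X = y ^ h := ⟨_, rfl⟩
  have e1 : (y - 1) * d * (T - N) = (y + 1) * X - 2 := by rw [hX]; linear_combination hT - hN
  have hs := H813.UF.star (U := y) (X := X) (D := ((a : ℤ) * d) * (y - 1)) (Q := Q)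
    (by linear_combination (y - 1) * d * (-hA) + 2 * e1)
    (by rw [hX]; linear_combination (y - 1) * d * (-hB) + 2 * hT)
  rcases (by
    rcases Nat.eq_or_lt_of_le (Nat.one_le_iff_ne_zero.2 (Nat.mul_ne_zero (by omega : a ≠ 0) (by omega : d ≠ 0))) with h3 | h3
    · exact Or.inl h3.symm
    · right
      have : (a * d) % 2 = 1 := by rw [Nat.mul_mod, hao, hdo]
      omega : a * d = 1 ∨ 3 ≤ a * d) with h3 | h3
  · obtain ⟨rfl, rfl⟩ : a = 1 ∧ d = 1 := ⟨Nat.eq_one_of_mul_eq_one_right h3, Nat.eq_one_of_mul_eq_one_left h3⟩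
    obtain ⟨rfl, rfl⟩ := one_I hy hh (by rw [← hX]; linear_combination hs)
    refine ⟨rfl, rfl, rfl, ?_⟩
    rw [hX] at e1
    norm_num at e1 hA
    omega
  · exfalso
    have hex : ¬ (y = -2 ∧ a = 3 ∧ h = 1) := by
      rintro ⟨rfl, rfl, rfl⟩
      rw [h1 rfl] at hT
      norm_num at hT
      (clear * - hT13 hT; omega)
    refine quad_S hy hd hdo hh (a := a) (by (clear * - hao ha9; omega)) h3 h1 hex ?_
    rw [← hX]
    linear_combination hs

/-- the case II1 -/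
theorem caseA {x δ : ℤ} (hδ : δ = 1 ∨ δ = 3) (hA : δ * (T - N) = x + 2) (hB : δ * T = x ^ 2 + x + 1) :
    y = x ∨ (δ = 3 ∧ d = 1 ∧ y = -3 ∧ 2 * x = 3 * y ^ h - 1) := by
  obtain ⟨X, hX⟩ : ∃ X, X = y ^ h := ⟨_, rfl⟩
  have e1 : (y - 1) * d * (T - N) = (y + 1) * X - 2 := by rw [hX]; linear_combination hT - hN
  have hc := pow_cases hy hh
  have hA' : ((d : ℤ) * (y - 1)) * (x + 2) = δ * ((y + 1) * X - 2) := by
    rw [← e1, ← hA]; ring
  have hs := relA (y := y) (X := X) (D := (d : ℤ) * (y - 1)) (x := x) (δ := δ) hA'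
    (by rw [← hB, hX, ← hT]; ring)
  have hX1 : X ≠ 1 := by
    rw [← hX] at hc
    rcases hc with ⟨h6, h7⟩ | ⟨h6, h7 | h7⟩
    · omega
    · nlinarith only [h6, h7]
    · omega
  have h3y : 3 * y + 1 ≠ 0 := by omega
  rcases hδ with rfl | rfl
  · rcases d_cases hy hd hdo hh h1 hT hN with rfl | h3 | h3
    · left
      have h4 : (3 * y + 1) * ((X - 1) * (X - y)) = 0 := by linear_combination hs
      rcases mul_eq_zero.1 h4 with h5 | h5
      · exact absurd h5 h3y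
      · rcases mul_eq_zero.1 h5 with h6 | h6
        · omega
        · have hXy : X = y := by omega
          rw [hXy] at hA'
          have h7 : (y - 1) * (x - y) = 0 := by linear_combination hA'
          rcases mul_eq_zero.1 h7 with h8 | h8
          · exfalso
            have : y = 1 := by omega
            rw [this] at hy
            norm_num at hy
          · omega
    · exfalso
      refine quad_A hy hd hdo hh (by omega) h1 ?_
      rw [← hX]
      linear_combination hs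
    · exfalso
      refine quad_A hy hd hdo hh (by omega) h1 ?_
      rw [← hX]
      linear_combination hs
  · rcases d_cases hy hd hdo hh h1 hT hN with rfl | rfl | h3
    · right
      push_cast at hs
      have h4 : (y + 3) * ((X - 1) * ((2 * y + 1) * X - (y + 2))) = 0 :=
        (mul_eq_zero.1 (by linear_combination hs :
          3 * ((y + 3) * ((X - 1) * ((2 * y + 1) * X - (y + 2)))) = 0)).resolve_left (by norm_num)
      rcases mul_eq_zero.1 h4 with h5 | h5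
      · have hy3 : y = -3 := by omega
        refine ⟨rfl, rfl, hy3, ?_⟩
        rw [← hX]
        rw [hy3] at hA'
        push_cast at hA'
        (clear * - hA'; omega)
      · exfalso
        rcases mul_eq_zero.1 h5 with h6 | h6
        · omega
        · rw [← hX] at hc
          rcases hc with ⟨h7, h8⟩ | ⟨h7, h8 | h8⟩ <;> nlinarith only [h6, h7, h8]
    · exfalso
      push_cast at hs
      have h4 : (3 * y + 1) * ((X - 1) * (X - y)) = 0 :=
        (mul_eq_zero.1 (by linear_combination hs :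
          9 * ((3 * y + 1) * ((X - 1) * (X - y))) = 0)).resolve_left (by norm_num)
      rcases mul_eq_zero.1 h4 with h5 | h5
      · exact absurd h5 h3y
      · rcases mul_eq_zero.1 h5 with h6 | h6
        · omega
        · have := h1 (eq_one_of_pow_eq hy (by rw [← hX]; omega))
          omega
    · exfalso
      refine quad_A' hy hd hdo hh (by omega) h1 ((mul_eq_zero.1 (?_ : (3 : ℤ) * _ = 0)).resolve_left (by norm_num))
      rw [← hX]
      linear_combination hs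

/-- the case II2 -/
theorem caseB {x δ : ℤ} (hδ : δ = 1 ∨ δ = 3) (hx : x % 2 = 1) (hA : δ * (T - N) = 2 * x + 1)
    (hB : δ * T = x ^ 2 + x + 1) : False := by
  obtain ⟨X, hX⟩ : ∃ X, X = y ^ h := ⟨_, rfl⟩
  have e1 : (y - 1) * d * (T - N) = (y + 1) * X - 2 := by rw [hX]; linear_combination hT - hN
  have hA' : ((d : ℤ) * (y - 1)) * (2 * x + 1) = δ * ((y + 1) * X - 2) := by
    rw [← e1, ← hA]; ring
  have hs := relB (y := y) (X := X) (D := (d : ℤ) * (y - 1)) (x := x) (δ := δ) hA'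
    (by rw [← hB, hX, ← hT]; ring)
  rcases hδ with rfl | rfl
  · refine quad_B hy hd hdo hh h1 ?_
    rw [← hX]
    linear_combination hs
  · have hex : ¬ (y = 9 ∧ h = 1) := by
      rintro ⟨rfl, rfl⟩
      rw [h1 rfl, hX] at hA'
      norm_num at hA'
      omega
    refine quad_B' hy hd hdo hh h1 hex ((mul_eq_zero.1 (?_ : (3 : ℤ) * _ = 0)).resolve_left (by norm_num))
    rw [← hX]
    linear_combination hs

/-- the case II4 -/
theorem caseC {x : ℤ} (hA : T - N = x) (hB : T = x ^ 2 + x + 1) : False := by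
  obtain ⟨X, hX⟩ : ∃ X, X = y ^ h := ⟨_, rfl⟩
  have e1 : (y - 1) * d * (T - N) = (y + 1) * X - 2 := by rw [hX]; linear_combination hT - hN
  have hA' : ((d : ℤ) * (y - 1)) * x = (y + 1) * X - 2 := by
    rw [← e1, hA]; ring
  have hs := relC (y := y) (X := X) (D := (d : ℤ) * (y - 1)) (x := x) hA'
    (by rw [hX, ← hT, hB]; ring)
  rcases (by omega : d = 1 ∨ 3 ≤ d) with rfl | h3
  · refine one_C hy hh ?_
    rw [← hX]
    linear_combination hs
  · refine quad_C hy hd hdo hh h3 h1 ?_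
    rw [← hX]
    linear_combination hs

/-- **The numeric lemma for odd indices.** -/
theorem num_odd {p : ℕ} {x : ℤ} (hT13 : 13 ≤ T) (hK : (T - N) ^ 2 ≤ 5 * T) (hP : PairOut p x T N) :
    y = x ∨ (y = 3 ∧ h = 1 ∧ x = 5) ∨ (y = -4 ∧ h = 1 ∧ x = 5) ∨ (y = 9 ∧ h = 1 ∧ x = -17) ∨
      (y = -3 ∧ d = 1 ∧ 2 * x = 3 * y ^ h - 1 ∧ x % 4 = 3 ∧ (7 ≤ x ∨ x ≤ -13)) := by
  have hd1 : 1 ≤ d := by omega
  rcases hP with ⟨hx4, hx5, hO⟩ | ⟨hx4, hx7, hO⟩
  · rcases hO with ⟨h2, h3⟩ | ⟨-, h2, h3⟩ | ⟨-, a, ha, hao, h2, h3⟩ | h2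
    · exact absurd (no_dvd hy hh hT hN (K := T) (by omega) (by rw [show T - N = 1 by omega, one_mul]) hd1) id
    · obtain ⟨e1, e2, -, e4⟩ := caseI hy hd hdo hh h1 hT hN (Q := -x) (a := 1) hT13 (by norm_num) (by norm_num)
        (by push_cast; linarith only [h2, h3]) (by push_cast; linarith only [h2])
      exact Or.inr (Or.inr (Or.inl ⟨e1, e2, by omega⟩))
    · exfalso
      have ha9 : a ≤ 9 := by
        by_contra hcon
        push Not at hcon
        have e1 : 2 * (T - N) = a * (x + 1) := by linarith only [h2, h3]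
        have e2 : (2 * (T - N)) ^ 2 ≤ 5 * (2 * (2 * T)) := by linarith only [hK]
        rw [e1, h2] at e2
        have e3 : a * (x + 1) ^ 2 ≤ 10 * (x ^ 2 + 1) := by
          have : a * (a * (x + 1) ^ 2) ≤ a * (10 * (x ^ 2 + 1)) := by linarith only [e2]
          exact le_of_mul_le_mul_left this (by omega)
        linarith only [hx5, e3, mul_le_mul_of_nonneg_right (by omega : 10 ≤ a) (sq_nonneg (x + 1))]
      obtain ⟨b, rfl⟩ : ∃ b : ℕ, a = b := ⟨a.toNat, (Int.toNat_of_nonneg (by omega)).symm⟩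
      obtain ⟨-, -, -, e4⟩ := caseI hy hd hdo hh h1 hT hN (Q := x) (a := b) hT13 (by omega) (by omega)
        (by linarith only [h2, h3]) (by linarith only [h2])
      omega
    · obtain ⟨e1, ⟨e2, e3, e4⟩ | ⟨e2, e3, e4⟩⟩ := exc_cases hy hd hdo hh h1 hT hN (x := x) (by omega)
        (List.mem_append_left _ h2)
      · rw [e2, e3] at h2
        simp [excI] at h2
        exact Or.inr (Or.inl ⟨e4, e1, h2⟩)
      · rw [e2, e3] at h2
        simp [excI] at h2
  · rcases hO with ⟨δ, hδ, ⟨h2, h3⟩ | ⟨-, h2, h3⟩ | ⟨-, a, ha, hao, h2, h3⟩⟩ | ⟨h2, h3⟩ | h2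
    · rcases caseA hy hd hdo hh h1 hT hN hδ (by linarith only [h2, h3]) h2 with h4 | ⟨-, h4, h5, h6⟩
      · exact Or.inl h4
      · exact Or.inr (Or.inr (Or.inr (Or.inr ⟨h5, h4, h6, hx4, hx7⟩)))
    · exact (caseB hy hd hdo hh h1 hT hN hδ (by omega) (by linarith only [h2, h3]) h2).elim
    · exfalso
      have hδ0 : 0 < δ := by rcases hδ with rfl | rfl <;> norm_num
      have e1 : δ * (T - N) = a := by linarith only [h2, h3]
      have e2 : 0 < T - N := by
        by_contra hcon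
        push Not at hcon
        nlinarith only [ha, h2, h3, hδ0, hcon]
      refine no_dvd hy hh hT hN (K := x ^ 2 + x + 1) e2 ?_ hd1
      have : δ * T = δ * ((T - N) * (x ^ 2 + x + 1)) := by
        rw [h2, ← e1]; ring
      exact mul_left_cancel₀ hδ0.ne' this
    · exact (caseC hy hd hdo hh h1 hT hN (by linarith only [h2, h3]) h2).elim
    · obtain ⟨e1, ⟨e2, e3, e4⟩ | ⟨e2, e3, e4⟩⟩ := exc_cases hy hd hdo hh h1 hT hN (x := x) (by omega)
        (List.mem_append_right _ h2)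
      · rw [e2, e3] at h2
        simp [excII] at h2
      · rw [e2, e3] at h2
        simp [excII] at h2
        exact Or.inr (Or.inr (Or.inr (Or.inl ⟨e4, e1, h2⟩)))

end

end Cfsg.Agent.R2.Spec.X3.PL
end

private theorem dce_e0f48d229979 : _root_.True := by
  try have : _root_.True := by simp only [_root_.Cfsg.Agent.R2.Spec.X3.excI.eq_1]
  try have : _root_.True := by simp only [_root_.Cfsg.Agent.R2.Spec.X3.excII.eq_1]
  try have : _root_.True := by simp only [_root_.Cfsg.Agent.R2.Spec.X3.PL.ckE.eq_1]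
  exact _root_.True.intro
end

-- part: R2/Spec/X3/PL/NumEven2
section
prune_inst 0x12020441c40000000000004120002042000010000200001f800040008065302804001004c801c00104c328018040000001000400040000004003000000201208028840070910f08880011803007180c00000000000000000000000000041004000000000
set_option linter.all false
open scoped Cfsg.Agent.FastGrp

-- part: R2/Spec/X3/PL/NumEven
section
/-!
# Packet P-L of box X3 (S3435): the numeric lemmas for even indices (helper4)

`H A = u ^ (2 k) - 1`, `A = AA e k u`, `H = M Y`; `T B = u ^ (2 k) - 1`, `T = a M`.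
-/

set_option autoImplicit false

namespace Cfsg.Agent.R2.Spec.X3.PL

open Cfsg.Agent.H403.NumTop

/-- one of the equations holds -/
def bad (A H B Y j : ℕ) : Bool :=
  Nat.beq (B * B * H + 2 * Y * (Y * A) * B * j) (Y * (2 * (Y * A) * (Y * A) * j * j + B * B)) ||
  Nat.beq (H * B * B) (Y * (4 * (Y * A) * (Y * A) * j * j + 6 * (Y * A) * B * j + 3 * B * B)) ||
  Nat.beq (H * B * B + Y * (6 * (Y * A) * B * j)) (Y * (4 * (Y * A) * (Y * A) * j * j + 3 * B * B)) ||
  Nat.beq (27 * H * B * B) (Y * (4 * (Y * A) * (Y * A) * j * j + 18 * (Y * A) * B * j + 27 * B * B)) ||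
  Nat.beq (27 * H * B * B + Y * (18 * (Y * A) * B * j)) (Y * (4 * (Y * A) * (Y * A) * j * j + 27 * B * B))

def goJ (A H B Y : ℕ) : ℕ → ℕ → Bool
  | 0, j => Nat.blt (9 * H * B * B) (j * j * (Y * Y * Y * A * A))
  | n + 1, j => Nat.blt (9 * H * B * B) (j * j * (Y * Y * Y * A * A)) || (!bad A H B Y j && goJ A H B Y n (j + 1))

def goY (A H B : ℕ) : ℕ → ℕ → Bool
  | 0, Y => Nat.blt (9 * H * B * B) (Y * Y * Y * A * A)
  | n + 1, Y => Nat.blt (9 * H * B * B) (Y * Y * Y * A * A) || Nat.blt H (13 * Y) ||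
      (goJ A H B Y 30 1 && goY A H B n (Y + 1))

theorem goJ_spec {A H B Y : ℕ} : ∀ (n j0 : ℕ), goJ A H B Y n j0 = true →
    ∀ j, j0 ≤ j → j * j * (Y * Y * Y * A * A) ≤ 9 * H * B * B → bad A H B Y j = false := by
  have key : ∀ j0 j : ℕ, j0 ≤ j → Nat.blt (9 * H * B * B) (j0 * j0 * (Y * Y * Y * A * A)) = true →
      j * j * (Y * Y * Y * A * A) ≤ 9 * H * B * B → False := by
    intro j0 j hj h1 h2
    have h3 : 9 * H * B * B < j0 * j0 * (Y * Y * Y * A * A) := by simpa only [Nat.blt, _root_.Nat.succ_eq_add_one, _root_.Nat.ble_eq, _root_.Order.add_one_le_iff] using h1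
    have h4 : j0 * j0 * (Y * Y * Y * A * A) ≤ j * j * (Y * Y * Y * A * A) :=
      Nat.mul_le_mul_right _ (Nat.mul_le_mul hj hj)
    omega
  intro n
  induction n with
  | zero =>
    intro j0 h j hj h2
    exact (key j0 j hj h h2).elim
  | succ n ih =>
    intro j0 h j hj h2
    rw [goJ, Bool.or_eq_true, Bool.and_eq_true] at h
    rcases h with h | ⟨h3, h4⟩
    · exact (key j0 j hj h h2).elim
    · rcases Nat.eq_or_lt_of_le hj with rfl | hj
      · simpa using h3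
      · exact ih _ h4 j hj h2

theorem goY_spec {A H B : ℕ} : ∀ (n Y0 : ℕ), goY A H B n Y0 = true →
    ∀ Y, Y0 ≤ Y → 13 * Y ≤ H → ∀ j, 1 ≤ j → j * j * (Y * Y * Y * A * A) ≤ 9 * H * B * B → bad A H B Y j = false := by
  have key : ∀ Y0 Y j : ℕ, Y0 ≤ Y → 1 ≤ j → Nat.blt (9 * H * B * B) (Y0 * Y0 * Y0 * A * A) = true →
      j * j * (Y * Y * Y * A * A) ≤ 9 * H * B * B → False := by
    intro Y0 Y j hY hj h1 h2
    have h3 : 9 * H * B * B < Y0 * Y0 * Y0 * A * A := by simpa [Nat.blt] using h1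
    have h4 : Y0 * Y0 * Y0 * A * A ≤ Y * Y * Y * A * A := by gcongr
    have h5 : 1 * (Y * Y * Y * A * A) ≤ j * j * (Y * Y * Y * A * A) :=
      Nat.mul_le_mul_right _ (Nat.mul_pos hj hj)
    omega
  intro n
  induction n with
  | zero =>
    intro Y0 h Y hY hH j hj h2
    exact (key Y0 Y j hY hj h h2).elim
  | succ n ih =>
    intro Y0 h Y hY hH j hj h2
    rw [goY, Bool.or_eq_true, Bool.or_eq_true, Bool.and_eq_true] at h
    rcases h with (h | h) | ⟨h3, h4⟩
    · exact (key Y0 Y j hY hj h h2).elim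
    · have : H < 13 * Y0 := by simpa [Nat.blt] using h
      omega
    · rcases Nat.eq_or_lt_of_le hY with rfl | hY
      · exact goJ_spec _ _ h3 j hj h2
      · exact ih _ h4 Y hY hH j hj h2

/-- the data -/
def Dat (x : ℤ) (M a : ℕ) : Prop :=
  (TI x M ∧ 2 * (a : ℤ) ∣ x + 1) ∨ ∃ δ, TII x M δ ∧ 2 * (a : ℤ) ∣ δ * (x - 1)

/-- **the equations** -/
theorem bad_of {x : ℤ} {M a A H B Y : ℕ} (ha : 1 ≤ a) (hd : Dat x M a) (hH : H = M * Y) (haB : a * B = Y * A) :
    ∃ j, 1 ≤ j ∧ j * j * (Y * Y * Y * A * A) ≤ 9 * H * B * B ∧ bad A H B Y j = true := by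
  have bound : ∀ j : ℕ, (j : ℤ) ^ 2 * (a : ℤ) ^ 2 ≤ 9 * M → j * j * (Y * Y * Y * A * A) ≤ 9 * H * B * B := by
    intro j hj
    have hj' : j ^ 2 * a ^ 2 ≤ 9 * M := by exact_mod_cast hj
    calc j * j * (Y * Y * Y * A * A) = j ^ 2 * (Y * A) * (Y * A) * Y := by ring
      _ = j ^ 2 * a ^ 2 * (B * B * Y) := by rw [← haB]; ring
      _ ≤ 9 * M * (B * B * Y) := Nat.mul_le_mul_right _ hj'
      _ = 9 * H * B * B := by rw [hH]; ring
  have haBZ : (a : ℤ) * B = Y * A := by exact_mod_cast haB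
  have ha0 : (0 : ℤ) < a := by exact_mod_cast ha
  rcases hd with ⟨⟨h1, h2, h3⟩, c, hc⟩ | ⟨δ, ⟨h1, h2, h3, h4⟩, c, hc⟩
  · have hc0 : 0 < c := by
      by_contra hcon
      push Not at hcon
      nlinarith only [h2, hc, hcon]
    obtain ⟨j, rfl⟩ : ∃ j : ℕ, c = j := ⟨c.toNat, (Int.toNat_of_nonneg hc0.le).symm⟩
    have hx : x = 2 * (a * j) - 1 := by linarith only [hc]
    refine ⟨j, by omega, bound j ?_, ?_⟩
    · have e : (j : ℤ) ^ 2 * (a : ℤ) ^ 2 * 4 = (x + 1) ^ 2 := by rw [hc]; ring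
      nlinarith only [h3, e]
    · have hM : (M : ℤ) = 2 * a ^ 2 * j ^ 2 - 2 * a * j + 1 := by
        rw [hx] at h3
        linarith only [h3]
      have key : B * B * H + 2 * Y * (Y * A) * B * j = Y * (2 * (Y * A) * (Y * A) * j * j + B * B) := by
        have : ((B * B * H + 2 * Y * (Y * A) * B * j : ℕ) : ℤ) = ((Y * (2 * (Y * A) * (Y * A) * j * j + B * B) : ℕ) : ℤ) := by
          rw [hH, ← haB]
          push_cast
          rw [hM]
          ring
        exact_mod_cast this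
      unfold bad
      simp only [Bool.or_eq_true, Nat.beq_eq]
      exact Or.inl (Or.inl (Or.inl (Or.inl key)))
  · have hδ0 : 0 < δ := by rcases h3 with ⟨rfl, -⟩ | ⟨rfl, -⟩ <;> norm_num
    have hcne : c ≠ 0 := by
      rintro rfl
      rw [mul_zero] at hc
      rcases mul_eq_zero.1 hc with h5 | h5 <;> omega
    have hb : c ^ 2 * (a : ℤ) ^ 2 ≤ 9 * M := by
      have e : c ^ 2 * (a : ℤ) ^ 2 * 4 = (δ * (x - 1)) ^ 2 := by rw [hc]; ring
      rcases h3 with ⟨rfl, -⟩ | ⟨rfl, -⟩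
      · rcases h2 with h2 | h2 <;> nlinarith only [h4, e, h2]
      · rcases h2 with h2 | h2 <;> nlinarith only [h4, e, h2]
    have hM : δ ^ 3 * (M : ℤ) = 4 * (a * c) ^ 2 + 6 * (a * c) * δ + 3 * δ ^ 2 := by
      have e : δ * x = 2 * a * c + δ := by linear_combination hc
      calc δ ^ 3 * (M : ℤ) = δ ^ 2 * (δ * M) := by ring
        _ = (δ * x) ^ 2 + δ * (δ * x) + δ ^ 2 := by rw [h4]; ring
        _ = _ := by rw [e]; ring
    have hMB : δ ^ 3 * ((M : ℤ) * Y) * B * B = Y * (4 * (Y * A) * (Y * A) * c * c + 6 * (Y * A) * B * δ * c + 3 * δ ^ 2 * B * B) := by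
      rw [← haBZ]
      linear_combination ((Y : ℤ) * B * B) * hM
    rcases lt_or_gt_of_ne hcne with hc0 | hc0
    · obtain ⟨j, rfl⟩ : ∃ j : ℕ, c = -j := ⟨(-c).toNat, by rw [Int.toNat_of_nonneg (by omega)]; ring⟩
      refine ⟨j, by omega, bound j (by linarith only [hb]), ?_⟩
      unfold bad
      simp only [Bool.or_eq_true, Nat.beq_eq]
      rcases h3 with ⟨rfl, -⟩ | ⟨rfl, -⟩
      · refine Or.inl (Or.inl (Or.inr ?_))
        have : ((H * B * B + Y * (6 * (Y * A) * B * j) : ℕ) : ℤ) = ((Y * (4 * (Y * A) * (Y * A) * j * j + 3 * B * B) : ℕ) : ℤ) := by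
          rw [hH]
          push_cast
          linear_combination hMB
        exact_mod_cast this
      · refine Or.inr ?_
        have : ((27 * H * B * B + Y * (18 * (Y * A) * B * j) : ℕ) : ℤ) = ((Y * (4 * (Y * A) * (Y * A) * j * j + 27 * B * B) : ℕ) : ℤ) := by
          rw [hH]
          push_cast
          linear_combination hMB
        exact_mod_cast this
    · obtain ⟨j, rfl⟩ : ∃ j : ℕ, c = j := ⟨c.toNat, (Int.toNat_of_nonneg hc0.le).symm⟩
      refine ⟨j, by omega, bound j hb, ?_⟩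
      unfold bad
      simp only [Bool.or_eq_true, Nat.beq_eq]
      rcases h3 with ⟨rfl, -⟩ | ⟨rfl, -⟩
      · refine Or.inl (Or.inl (Or.inl (Or.inr ?_)))
        have : ((H * B * B : ℕ) : ℤ) = ((Y * (4 * (Y * A) * (Y * A) * j * j + 6 * (Y * A) * B * j + 3 * B * B) : ℕ) : ℤ) := by
          rw [hH]
          push_cast
          linear_combination hMB
        exact_mod_cast this
      · refine Or.inl (Or.inr ?_)
        have : ((27 * H * B * B : ℕ) : ℤ) = ((Y * (4 * (Y * A) * (Y * A) * j * j + 18 * (Y * A) * B * j + 27 * B * B) : ℕ) : ℤ) := by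
          rw [hH]
          push_cast
          linear_combination hMB
        exact_mod_cast this

/-- the checks -/
def ckTop (k u : ℕ) : Bool :=
  let P := u ^ k
  Nat.ble u 1 ||
  (goY (P - 1) (P + 1) ((u - 1) * Nat.gcd (2 * k) (u - 1)) 12 1 &&
   (if k % 2 = 0 then goY (P - 1) (P + 1) ((u + 1) * Nat.gcd (2 * k) (u + 1)) 12 1
    else goY (P + 1) (P - 1) ((u + 1) * Nat.gcd (2 * k) (u + 1)) 12 1))

def ckPred (k u : ℕ) : Bool :=
  let P := u ^ k
  Nat.ble u 1 ||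
  (goY (P - 1) (P + 1) (Nat.gcd (2 * k + 1) (u - 1)) 12 1 &&
   (if k % 2 = 0 then goY (P - 1) (P + 1) (Nat.gcd (2 * k + 1) (u + 1)) 12 1
    else goY (P + 1) (P - 1) (Nat.gcd (2 * k + 1) (u + 1)) 12 1))

theorem ckTop3 : ((List.range 340).all fun u => ckTop 3 u) = true := by decide +kernel
theorem ckTop4 : ((List.range 6).all fun i => (List.range 30).all fun u => ckTop (i + 4) u) = true := by decide +kernel
theorem ckPred2 : ((List.range 20).all fun u => ckPred 2 u) = true := by decide +kernel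
theorem ckPred3 : ((List.range 4).all fun i => (List.range 12).all fun u => ckPred (i + 3) u) = true := by decide +kernel

end Cfsg.Agent.R2.Spec.X3.PL
end

-- part: R2/Spec/X3/PL/NumEven2
section
/-!
# Packet P-L of box X3 (S3435): the numeric lemmas for even indices, the conclusions (helper4)
-/

set_option autoImplicit false

namespace Cfsg.Agent.R2.Spec.X3.PL

open Cfsg.Agent.H403.NumTop

theorem AA_one_true (u : ℕ) : AA true 1 u = u - 1 := by
  unfold AA
  simp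

theorem AA_one_false (u : ℕ) : AA false 1 u = u + 1 := by
  unfold AA
  simp

theorem goY_of {e : Bool} {k u H : ℕ} (f : ℕ → ℕ)
    (hc : (let P := u ^ k
      Nat.ble u 1 || (goY (P - 1) (P + 1) (f (u - 1)) 12 1 &&
        (if k % 2 = 0 then goY (P - 1) (P + 1) (f (u + 1)) 12 1
          else goY (P + 1) (P - 1) (f (u + 1)) 12 1))) = true)
    (hu : 2 ≤ u) (hk : 1 ≤ k) (hH : H * AA e k u = u ^ (2 * k) - 1) :
    goY (AA e k u) H (f (AA e 1 u)) 12 1 = true := by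
  simp only [Bool.or_eq_true, Bool.and_eq_true] at hc
  have h1 : 2 ≤ u ^ k := hu.trans (Nat.le_self_pow (by omega) u)
  rcases hc with hc | ⟨h2, h3⟩
  · have := Nat.le_of_ble_eq_true hc
    omega
  · cases e with
    | true =>
      rw [AA_one_true]
      have hA : AA true k u = u ^ k - 1 := by unfold AA; simp
      rcases H973.UF.AA_cases true hu hk hH with ⟨h4, h5⟩ | ⟨h4, h5⟩
      · rw [h5, hA]; exact h2
      · omega
    | false =>
      rw [AA_one_false]
      by_cases hk2 : k % 2 = 0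
      · rw [if_pos hk2] at h3
        have hA : AA false k u = u ^ k - 1 := by unfold AA; simp [hk2]
        rcases H973.UF.AA_cases false hu hk hH with ⟨h4, h5⟩ | ⟨h4, h5⟩
        · rw [h5, hA]; exact h3
        · omega
      · rw [if_neg hk2] at h3
        have hA : AA false k u = u ^ k + 1 := by unfold AA; simp [hk2]
        rcases H973.UF.AA_cases false hu hk hH with ⟨h4, h5⟩ | ⟨h4, h5⟩
        · omega
        · rw [show H = u ^ k - 1 by omega, hA]; exact h3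

theorem no_of_big {A H B Y j b : ℕ} (hHA : H ≤ A + 2) (hB : B ≤ b) (hA : 9 * b ^ 2 + 3 ≤ A) (hY : 1 ≤ Y) (hj : 1 ≤ j)
    (h2 : j * j * (Y * Y * Y * A * A) ≤ 9 * H * B * B) : False := by
  have h3 : 1 * 1 * (1 * 1 * 1 * A * A) ≤ j * j * (Y * Y * Y * A * A) := by gcongr
  have h4 : 9 * H * B * B ≤ 9 * (A + 2) * b * b := by gcongr
  have h5 : A * A ≤ 9 * (A + 2) * b * b := by linarith
  have h6 : (9 * b ^ 2 + 3) * A ≤ A * A := Nat.mul_le_mul_right _ hA
  linarith only [hA, h2, h3, h4, h6]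

theorem sz_a {u x : ℤ} (hu : 2 ≤ u) (h2 : 7 ≤ x ∨ x ≤ -13) (h7 : u - 1 ≤ |x - 1|) (h8 : 2 * (x ^ 2 + x + 1) ≤ u ^ 2 + 1) :
    False := by
  have h9 : u ^ 2 ≤ (|x - 1| + 1) ^ 2 := pow_le_pow_left₀ (by omega) (by omega) 2
  rcases h2 with h2 | h2
  · rw [abs_of_nonneg (by omega : 0 ≤ x - 1)] at h9
    linarith only [h8, h9, h2, _root_.sq_nonneg (x - 1 + 1 : ℤ)]
  · rw [abs_of_nonpos (by omega : x - 1 ≤ 0)] at h9
    nlinarith only [h8, h9, h2]

theorem sz_b {u x : ℤ} (hu : 2 ≤ u) (h2 : 7 ≤ x ∨ x ≤ -13) (h7 : 7 * (u - 1) ≤ 6 * |x - 1|)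
    (h8 : 7 * (x ^ 2 + x + 1) ≤ 3 * (u ^ 2 + 1)) : False := by
  have h9 : (7 * u) ^ 2 ≤ (6 * |x - 1| + 7) ^ 2 := pow_le_pow_left₀ (by omega) (by omega) 2
  rcases h2 with h2 | h2
  · rw [abs_of_nonneg (by omega : 0 ≤ x - 1)] at h9
    linarith only [h8, h9, h2, _root_.sq_nonneg (6 * (x - 1) + 7 : ℤ)]
  · rw [abs_of_nonpos (by omega : x - 1 ≤ 0)] at h9
    nlinarith only [h8, h9, h2]

theorem sz_c {u x : ℤ} (hu : 2 ≤ u) (h2 : 5 ≤ x) (h7 : 3 * (u - 1) ≤ 2 * (x + 1))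
    (h8 : 3 * (x ^ 2 + 1) ≤ 2 * (u ^ 2 + 1)) : False := by
  have h9 : (3 * u) ^ 2 ≤ (2 * x + 5) ^ 2 := pow_le_pow_left₀ (by omega) (by omega) 2
  nlinarith only [h2, h8, h9]

theorem sz_d {u x : ℤ} (hu : 2 ≤ u) (h2 : 7 ≤ x ∨ x ≤ -13) (hE : x ^ 2 + x = u ^ 2) : False := by
  rcases h2 with h2 | h2
  · have h9 : x < u := by nlinarith only [hu, hE]
    nlinarith
  · have h9 : -x - 1 < u := by nlinarith
    nlinarith

section

variable {u k M a H : ℕ} {x : ℤ} (e : Bool) (hu : 2 ≤ u) (hM : 13 ≤ M) (ha : 1 ≤ a) (hd : Dat x M a)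
  (hH : H * AA e k u = u ^ (2 * k) - 1) (hMH : M ∣ H)
include hu hM ha hd hH hMH

/-- the common part -/
theorem common {B : ℕ} (hk : 1 ≤ k) (hT : a * M * B = u ^ (2 * k) - 1) :
    ∃ Y j, 1 ≤ Y ∧ H = M * Y ∧ a * B = Y * AA e k u ∧ H ≤ AA e k u + 2 ∧ u ^ k ≤ AA e k u + 1 ∧ 1 ≤ j ∧
      j * j * (Y * Y * Y * AA e k u * AA e k u) ≤ 9 * H * B * B ∧ bad (AA e k u) H B Y j = true := by
  have h1 : 2 ≤ u ^ k := hu.trans (Nat.le_self_pow (by omega) u)
  have hAA := H973.UF.AA_cases e hu hk hH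
  obtain ⟨Y, hY⟩ := hMH
  have hY1 : 1 ≤ Y := by
    rcases Nat.eq_zero_or_pos Y with rfl | h2
    · rcases hAA with ⟨-, h3⟩ | ⟨-, h3⟩ <;> omega
    · exact h2
  have haB : a * B = Y * AA e k u := by
    have : M * (a * B) = M * (Y * AA e k u) := by
      rw [← mul_assoc, mul_comm M a, hT, ← hH, hY]; ring
    exact Nat.eq_of_mul_eq_mul_left (by omega) this
  obtain ⟨j, hj1, hj2, hj3⟩ := bad_of ha hd hY haB
  refine ⟨Y, j, hY1, hY, haB, ?_, ?_, hj1, hj2, hj3⟩
  · rcases hAA with ⟨h3, h4⟩ | ⟨h3, h4⟩ <;> omega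
  · rcases hAA with ⟨h3, h4⟩ | ⟨h3, h4⟩ <;> omega

omit hM ha hd hH hMH in
theorem B_le (hk : 1 ≤ k) : AA e 1 u * Nat.gcd (2 * k) (AA e 1 u) ≤ (u + 1) * (2 * k) ∧
    AA e 1 u * Nat.gcd (2 * k) (AA e 1 u) ≤ (u + 1) * (u + 1) := by
  have h1 : AA e 1 u ≤ u + 1 := by
    cases e
    · rw [AA_one_false]
    · rw [AA_one_true]; omega
  have h2 : 0 < AA e 1 u := by
    cases e
    · rw [AA_one_false]; omega
    · rw [AA_one_true]; omega
  exact ⟨Nat.mul_le_mul h1 (Nat.gcd_le_left _ (by omega)), Nat.mul_le_mul h1 ((Nat.gcd_le_right _ h2).trans h1)⟩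

omit hM ha hd hH hMH in
theorem B_le' : Nat.gcd (2 * k + 1) (AA e 1 u) ≤ 2 * k + 1 ∧ Nat.gcd (2 * k + 1) (AA e 1 u) ≤ u + 1 := by
  have h1 : AA e 1 u ≤ u + 1 := by
    cases e
    · rw [AA_one_false]
    · rw [AA_one_true]; omega
  have h2 : 0 < AA e 1 u := by
    cases e
    · rw [AA_one_false]; omega
    · rw [AA_one_true]; omega
  exact ⟨Nat.gcd_le_left _ (by omega), (Nat.gcd_le_right _ h2).trans h1⟩

/-- **`n = 2 k`, `k ≥ 3`** -/
theorem num_even_top3 (hk : 3 ≤ k) (hT : a * M * (AA e 1 u * Nat.gcd (2 * k) (AA e 1 u)) = u ^ (2 * k) - 1) : False := by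
  obtain ⟨Y, j, hY, hHY, haB, hHA, hA, hj, hj2, hj3⟩ := common e hu hM ha hd hH hMH (by omega) hT
  obtain ⟨hB1, hB2⟩ := B_le e hu (k := k) (by omega)
  have chk : ckTop k u = true → False := by
    intro hc
    have h1 := goY_of (e := e) (fun v => v * Nat.gcd (2 * k) v) hc hu (by omega) hH
    have h2 := goY_spec _ _ h1 Y hY (by rw [hHY]; exact Nat.mul_le_mul_right _ hM) j hj hj2
    rw [h2] at hj3
    exact Bool.noConfusion hj3
  rcases Nat.lt_or_ge k 10 with hk10 | hk10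
  · rcases Nat.eq_or_lt_of_le hk with rfl | hk4
    · rcases Nat.lt_or_ge u 340 with hu3 | hu3
      · exact chk (List.all_eq_true.1 ckTop3 u (List.mem_range.2 hu3))
      · refine no_of_big hHA hB1 ?_ hY hj hj2
        have : 324 * (u + 1) ^ 2 + 4 ≤ u ^ 3 := by
          obtain ⟨t, rfl⟩ : ∃ t, u = 340 + t := ⟨u - 340, by omega⟩
          linarith only [Nat.zero_le (t ^ 3), _root_.sq_nonneg (↑t : ℤ), _root_.Nat.cast_nonneg (α := ℤ) (t)]
        linarith only [hA, this]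
    · rcases Nat.lt_or_ge u 30 with hu3 | hu3
      · have h1 := List.all_eq_true.1 (List.all_eq_true.1 ckTop4 (k - 4) (List.mem_range.2 (by omega))) u
          (List.mem_range.2 hu3)
        rw [show k - 4 + 4 = k by omega] at h1
        exact chk h1
      · refine no_of_big hHA hB1 ?_ hY hj hj2
        have key : 44 * (k ^ 2 * u ^ 2) ≤ u ^ k := by
          clear * - hk4 hu3
          induction k, (show 4 ≤ k from hk4) using Nat.le_induction with
          | base =>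
            have h1 : 30 ^ 2 ≤ u ^ 2 := Nat.pow_le_pow_left hu3 2
            have h2 : u ^ 4 = u ^ 2 * u ^ 2 := by ring
            rw [h2]
            nlinarith only [h1]
          | succ k hk ih =>
            have ih' := ih (by omega)
            have h1 : 44 * (k ^ 2 * u ^ 2) * 30 ≤ u ^ k * u := Nat.mul_le_mul ih' hu3
            have h2 : (k + 1) ^ 2 ≤ 30 * k ^ 2 := by nlinarith only [hk]
            calc 44 * ((k + 1) ^ 2 * u ^ 2) ≤ 44 * (30 * k ^ 2 * u ^ 2) :=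
                  Nat.mul_le_mul_left _ (Nat.mul_le_mul_right _ h2)
              _ = 44 * (k ^ 2 * u ^ 2) * 30 := by ring
              _ ≤ u ^ k * u := h1
              _ = u ^ (k + 1) := (pow_succ _ _).symm
        have h5 : (u + 1) ^ 2 * 30 ≤ 33 * u ^ 2 := by nlinarith only [hu3]
        have h6 : 1 ≤ k ^ 2 * u ^ 2 := Nat.mul_pos (by positivity) (by positivity)
        have h7 : k ^ 2 * ((u + 1) ^ 2 * 30) ≤ k ^ 2 * (33 * u ^ 2) := Nat.mul_le_mul_left _ h5
        have e1 : 9 * ((u + 1) * (2 * k)) ^ 2 = 36 * (k ^ 2 * (u + 1) ^ 2) := by ring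
        rw [e1]
        have : 36 * (k ^ 2 * (u + 1) ^ 2) + 4 ≤ 44 * (k ^ 2 * u ^ 2) := by linarith only [h6, h7]
        omega
  · refine no_of_big hHA hB2 ?_ hY hj hj2
    have h1 : u ^ 10 ≤ u ^ k := Nat.pow_le_pow_right (by omega) hk10
    have h2 : 9 * ((u + 1) * (u + 1)) ^ 2 + 4 ≤ u ^ 10 := by
      have h3 : 64 * u ^ 4 ≤ u ^ 10 := by
        calc 64 * u ^ 4 = 2 ^ 6 * u ^ 4 := by norm_num
          _ ≤ u ^ 6 * u ^ 4 := Nat.mul_le_mul_right _ (Nat.pow_le_pow_left hu 6)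
          _ = u ^ 10 := by ring
      have h4 : (2 * (u + 1)) ^ 4 ≤ (3 * u) ^ 4 := Nat.pow_le_pow_left (by omega) 4
      have h5 : 2 ^ 4 ≤ u ^ 4 := Nat.pow_le_pow_left hu 4
      have e1 : (2 * (u + 1)) ^ 4 = 16 * ((u + 1) * (u + 1)) ^ 2 := by ring
      have e2 : (3 * u) ^ 4 = 81 * u ^ 4 := by ring
      rw [e1, e2] at h4
      omega
    omega

/-- **`n = 2 k + 1`, `k ≥ 2`** -/
theorem num_even_pred (hk : 2 ≤ k) (hT : a * M * Nat.gcd (2 * k + 1) (AA e 1 u) = u ^ (2 * k) - 1) : False := by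
  obtain ⟨Y, j, hY, hHY, haB, hHA, hA, hj, hj2, hj3⟩ := common e hu hM ha hd hH hMH (by omega) hT
  obtain ⟨hB1, hB2⟩ := B_le' e hu (k := k)
  have chk : ckPred k u = true → False := by
    intro hc
    have h1 := goY_of (e := e) (fun v => Nat.gcd (2 * k + 1) v) hc hu (by omega) hH
    have h2 := goY_spec _ _ h1 Y hY (by rw [hHY]; exact Nat.mul_le_mul_right _ hM) j hj hj2
    rw [h2] at hj3
    exact Bool.noConfusion hj3
  rcases Nat.lt_or_ge k 7 with hk7 | hk7
  · rcases Nat.eq_or_lt_of_le hk with rfl | hk3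
    · rcases Nat.lt_or_ge u 20 with hu3 | hu3
      · exact chk (List.all_eq_true.1 ckPred2 u (List.mem_range.2 hu3))
      · refine no_of_big hHA hB1 ?_ hY hj hj2
        have : 20 ^ 2 ≤ u ^ 2 := Nat.pow_le_pow_left hu3 2
        omega
    · rcases Nat.lt_or_ge u 12 with hu3 | hu3
      · have h1 := List.all_eq_true.1 (List.all_eq_true.1 ckPred3 (k - 3) (List.mem_range.2 (by omega))) u
          (List.mem_range.2 hu3)
        rw [show k - 3 + 3 = k by omega] at h1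
        exact chk h1
      · refine no_of_big hHA hB2 ?_ hY hj hj2
        have h1 : u ^ 3 ≤ u ^ k := Nat.pow_le_pow_right (by omega) (by omega)
        have h2 : 9 * (u + 1) ^ 2 + 4 ≤ u ^ 3 := by
          obtain ⟨t, rfl⟩ : ∃ t, u = 12 + t := ⟨u - 12, by omega⟩
          linarith only [Nat.zero_le (t ^ 3), _root_.sq_nonneg (↑t : ℤ), _root_.Nat.cast_nonneg (α := ℤ) (t)]
        omega
  · refine no_of_big hHA hB2 ?_ hY hj hj2
    have h1 : u ^ 7 ≤ u ^ k := Nat.pow_le_pow_right (by omega) hk7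
    have h2 : 9 * (u + 1) ^ 2 + 4 ≤ u ^ 7 := by
      have h3 : 32 * u ^ 2 ≤ u ^ 7 := by
        calc 32 * u ^ 2 = 2 ^ 5 * u ^ 2 := by norm_num
          _ ≤ u ^ 5 * u ^ 2 := Nat.mul_le_mul_right _ (Nat.pow_le_pow_left hu 5)
          _ = u ^ 7 := by ring
      nlinarith only [hu, h3]
    omega

/-- **`n = 4`, the top torus** -/
theorem num_even_four (hk : k = 2) (hModd : M % 2 = 1)
    (hT : a * M * (AA e 1 u * Nat.gcd (2 * k) (AA e 1 u)) = u ^ (2 * k) - 1) : (u : ℤ) = x := by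
  subst hk
  obtain ⟨Y, j, hY, hHY, haB, -, -, -, -, -⟩ := common e hu hM ha hd hH hMH (by omega) hT
  -- the data over `ℤ`
  have hA : AA e 2 u = u ^ 2 - 1 := by unfold AA; simp
  have hu2 : 1 ≤ u ^ 2 := Nat.one_le_pow _ _ (by omega)
  have hHv : H = u ^ 2 + 1 := by
    rcases H973.UF.AA_cases e hu (by omega) hH with ⟨h4, h5⟩ | ⟨h4, h5⟩
    · exact h5
    · omega
  have hMY : (M : ℤ) * Y = u ^ 2 + 1 := by
    rw [hHv] at hHY
    exact_mod_cast hHY.symm
  obtain ⟨g, hg⟩ : ∃ g, g = Nat.gcd (2 * 2) (AA e 1 u) := ⟨_, rfl⟩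
  rw [← hg] at haB
  have hg4 : g ≤ 4 := by rw [hg]; exact Nat.gcd_le_left _ (by norm_num)
  -- `a g = Y (u ± 1)`
  have hag : Y * (u - 1) ≤ a * g ∧ (g = 1 → Y * (u - 1) ≤ a) := by
    have key : Y * (u - 1) ≤ a * g := by
      cases e with
      | true =>
        rw [AA_one_true, hA] at haB
        obtain ⟨v, rfl⟩ : ∃ v, u = v + 1 := ⟨u - 1, by omega⟩
        have e1 : (v + 1) ^ 2 - 1 = v * (v + 2) := by
          rw [show (v + 1) ^ 2 = v * (v + 2) + 1 by ring, Nat.add_sub_cancel]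
        rw [e1, Nat.add_sub_cancel] at haB
        have h2 : v * (a * g) = v * (Y * (v + 2)) := by linarith only [haB]
        have h3 := Nat.eq_of_mul_eq_mul_left (by omega : 0 < v) h2
        rw [h3, Nat.add_sub_cancel]
        exact Nat.mul_le_mul_left _ (by omega)
      | false =>
        rw [AA_one_false, hA] at haB
        obtain ⟨v, rfl⟩ : ∃ v, u = v + 1 := ⟨u - 1, by omega⟩
        have e1 : (v + 1) ^ 2 - 1 = v * (v + 2) := by
          rw [show (v + 1) ^ 2 = v * (v + 2) + 1 by ring, Nat.add_sub_cancel]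
        rw [e1] at haB
        have h2 : (v + 2) * (a * g) = (v + 2) * (Y * v) := by linarith only [haB]
        have h3 := Nat.eq_of_mul_eq_mul_left (by omega : 0 < v + 2) h2
        rw [h3, Nat.add_sub_cancel]
    exact ⟨key, fun h1 => by rw [h1, mul_one] at key; exact key⟩
  have hg1 : u % 2 = 0 → g = 1 := by
    intro hu2
    have h1 : Nat.Coprime 2 (AA e 1 u) := by
      rw [Nat.coprime_two_left, Nat.odd_iff]
      cases e
      · rw [AA_one_false]; omega
      · rw [AA_one_true]; omega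
    rw [hg]
    exact (Nat.Coprime.mul_left h1 h1)
  have hYZ : (1 : ℤ) ≤ Y := by exact_mod_cast hY
  have huZ : (2 : ℤ) ≤ u := by exact_mod_cast hu
  have hagZ : (Y : ℤ) * (u - 1) ≤ 4 * a := by
    have h1 : Y * (u - 1) ≤ a * 4 := hag.1.trans (Nat.mul_le_mul_left _ hg4)
    have h2 : ((Y * (u - 1) : ℕ) : ℤ) ≤ ((a * 4 : ℕ) : ℤ) := by exact_mod_cast h1
    push_cast [Nat.cast_sub (by omega : 1 ≤ u)] at h2
    linarith only [h2]
  have hag1 : u % 2 = 0 → (Y : ℤ) * (u - 1) ≤ a := by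
    intro h0
    have h1 : Y * (u - 1) ≤ a := hag.2 (hg1 h0)
    have h2 : ((Y * (u - 1) : ℕ) : ℤ) ≤ ((a : ℕ) : ℤ) := by exact_mod_cast h1
    push_cast [Nat.cast_sub (by omega : 1 ≤ u)] at h2
    linarith only [h2]
  rcases hd with ⟨⟨h1, h2, h3⟩, h4⟩ | ⟨δ, ⟨h1, h2, h3, h4⟩, h5⟩
  · -- type I
    have h5 := Int.le_of_dvd (by omega) h4
    have hE : (Y : ℤ) * (x ^ 2 + 1) = 2 * (u ^ 2 + 1) := by rw [← h3, ← hMY]; ring
    rcases (by omega : (Y : ℤ) = 1 ∨ (Y : ℤ) = 2 ∨ 3 ≤ (Y : ℤ)) with h6 | h6 | h6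
    · exfalso
      rw [h6, mul_one] at hMY
      have hu0 : u % 2 = 0 := by
        rcases Nat.mod_two_eq_zero_or_one u with h7 | h7
        · exact h7
        · exfalso
          have h8 : M = u ^ 2 + 1 := by exact_mod_cast hMY
          have h9 : u ^ 2 % 2 = 1 := by rw [Nat.pow_mod, h7]
          omega
      have h7 := hag1 hu0
      rw [h6, one_mul] at h7 hE
      have hu6 : (u : ℤ) < 6 := by
        by_contra hcon
        push Not at hcon
        nlinarith only [hMY, h3, h5, h7, hcon]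
      have hu24 : u = 2 ∨ u = 4 := by omega
      rcases hu24 with rfl | rfl
      · norm_num at hE; linarith only [hM, h3, hE]
      · norm_num at hE
        have : x < 7 := by nlinarith only [h2, hE]
        have : x = 5 := by omega
        rw [this] at hE
        norm_num at hE
    · rw [h6] at hE
      have h7 : ((u : ℤ) - x) * (u + x) = 0 := by linarith only [hE]
      rcases mul_eq_zero.1 h7 with h8 | h8 <;> (clear * - h1 h8 hu h2; omega)
    · exfalso
      have h7 : 3 * ((u : ℤ) - 1) ≤ Y * (u - 1) := mul_le_mul_of_nonneg_right h6 (by omega)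
      have h8 : 3 * (x ^ 2 + 1) ≤ Y * (x ^ 2 + 1) := mul_le_mul_of_nonneg_right h6 (by positivity)
      exact sz_c huZ h2 (by linarith only [hagZ, h5, h7]) (by linarith only [hE, h8])
  · exfalso
    have hne : δ * (x - 1) ≠ 0 := by
      rcases h3 with ⟨rfl, -⟩ | ⟨rfl, -⟩ <;> (clear * - h1; omega)
    have h6 := Int.le_of_dvd (abs_pos.2 hne) ((dvd_abs _ _).2 h5)
    have hδ0 : 0 < δ := by rcases h3 with ⟨rfl, -⟩ | ⟨rfl, -⟩ <;> norm_num
    rw [abs_mul, abs_of_pos hδ0] at h6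
    have h7 : (Y : ℤ) * (u - 1) ≤ 2 * (δ * |x - 1|) := by linarith only [hagZ, h6]
    have hE : (Y : ℤ) * (x ^ 2 + x + 1) = δ * (u ^ 2 + 1) := by rw [← h4, ← hMY]; ring
    have hx0 : 0 < x ^ 2 + x + 1 := by rcases h2 with h2 | h2 <;> nlinarith only [h2, _root_.sq_nonneg (x : ℤ)]
    rcases h3 with ⟨rfl, -⟩ | ⟨rfl, -⟩
    · rcases (by omega : (Y : ℤ) = 1 ∨ 2 ≤ (Y : ℤ)) with h8 | h8
      · rw [h8] at hE
        exact sz_d huZ h2 (by linarith only [hE])
      · have h9 : 2 * ((u : ℤ) - 1) ≤ Y * (u - 1) := mul_le_mul_of_nonneg_right h8 (by omega)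
        have h10 : 2 * (x ^ 2 + x + 1) ≤ Y * (x ^ 2 + x + 1) := mul_le_mul_of_nonneg_right h8 (by (clear * - h4; omega))
        exact sz_a huZ h2 (by linarith only [hagZ, h6, h9]) (by linarith only [hE, h10])
    · -- `δ = 3`
      have hM3 : M % 4 = 3 := by
        obtain ⟨t, rfl⟩ : ∃ t, x = 4 * t + 3 := ⟨x / 4, by omega⟩
        have : 3 * (M : ℤ) = 4 * (4 * t ^ 2 + 7 * t + 3) + 1 := by linarith only [h4]
        (clear * - this; omega)
      have hMY' : M * Y = u ^ 2 + 1 := by exact_mod_cast hMY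
      have hY7 : 7 ≤ Y := by
        by_contra hcon
        push Not at hcon
        obtain ⟨m, hm⟩ : ∃ m, M = 4 * m + 3 := ⟨M / 4, by omega⟩
        have hs8 : u ^ 2 % 8 = 0 ∨ u ^ 2 % 8 = 1 ∨ u ^ 2 % 8 = 4 := by
          have : u % 8 = 0 ∨ u % 8 = 1 ∨ u % 8 = 2 ∨ u % 8 = 3 ∨ u % 8 = 4 ∨ u % 8 = 5 ∨ u % 8 = 6 ∨ u % 8 = 7 := by (clear * -; omega)
          rcases this with h | h | h | h | h | h | h | h <;> simp [Nat.pow_mod, h]
        have hs3 : u ^ 2 % 3 = 0 ∨ u ^ 2 % 3 = 1 := by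
          have : u % 3 = 0 ∨ u % 3 = 1 ∨ u % 3 = 2 := by (clear * -; omega)
          rcases this with h | h | h <;> simp [Nat.pow_mod, h]
        generalize u ^ 2 = w at hMY' hs8 hs3
        rw [hm] at hMY'
        interval_cases Y <;> (clear * - hs8 hMY' hs3; omega)
      have hY7Z : (7 : ℤ) ≤ Y := by exact_mod_cast hY7
      have h9 : 7 * ((u : ℤ) - 1) ≤ Y * (u - 1) := mul_le_mul_of_nonneg_right hY7Z (by omega)
      have h10 : 7 * (x ^ 2 + x + 1) ≤ Y * (x ^ 2 + x + 1) := mul_le_mul_of_nonneg_right hY7Z (by (clear * - h4; omega))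
      exact sz_b huZ h2 (by linarith only [hagZ, h6, h9]) (by linarith only [hE, h10])

end

end Cfsg.Agent.R2.Spec.X3.PL
end

private theorem dce_2198722fe143 : _root_.True := by
  try have : _root_.True := by simp only [_root_.Cfsg.Agent.R2.Spec.X3.PL.goJ.eq_def]
  try have : _root_.True := by simp only [_root_.Cfsg.Agent.R2.Spec.X3.PL.goY.eq_1]
  try have : _root_.True := by simp only [_root_.Cfsg.Agent.R2.Spec.X3.PL.goY.eq_2]
  try have : _root_.True := by simp only [_root_.Cfsg.Agent.R2.Spec.X3.PL.goJ.eq_2]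
  try have : _root_.True := by simp only [_root_.Cfsg.Agent.R2.Spec.X3.PL.goJ.eq_1]
  try have : _root_.True := by simp only [_root_.Nat.blt.eq_1]
  try have : _root_.True := by simp only [_root_.Cfsg.Agent.R2.Spec.X3.PL.goY.eq_def]
  exact _root_.True.intro
end

-- part: R2/Spec/X3/PL/RowOf
section
prune_inst 0x12020441840000000000004520018068000010000230001b800040000065900804007004ca01d02000c120018040040000000400040000004003000000201208029c40232740108200011800004400000000000000000000000000000041004000000000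
set_option linter.all false
open scoped Cfsg.Agent.FastGrp

/-!
# Packet P-L of box X3 (S3435): `PSL_n(u)`, `PSU_n(u)`, `n ≥ 4`, given the pair lemma (helper4)
-/

set_option autoImplicit false

namespace Cfsg.Agent.R2.Spec.X3.PL

open Cfsg Cfsg.Agent.H403 Cfsg.Agent.H403.NumTop Cfsg.Agent.H528.UF
open Cfsg.Agent.H410.UF (exists_blk exists_blk')
open Cfsg.Agent.H813.UF (near_odd data_true data_false)

/-- the pair lemma -/
def HasPair (p M : ℕ) (x : ℤ) (L : Type*) [Group L] : Prop :=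
  ∀ T N : ℕ, (∃ g : L, orderOf g = T) → M ∣ T → (∃ g : L, orderOf g = N) → N ≠ 0 → Nat.Coprime N M →
    ((T : ℤ) - N) ^ 2 ≤ 5 * T → PairOut p x T N

/-- the data of the odd case over `ℤ` -/
theorem data {e : Bool} {u h d T N : ℕ} (hu : 2 ≤ u) (hT : T * (AA e 1 u * d) = AA e (2 * h + 1) u)
    (hN : N * (AA e 1 u * d) = AA e (h + 1) u * AA e h u) :
    (xv e u - 1) * d * T = xv e u * (xv e u ^ h) ^ 2 - 1 ∧
      (xv e u - 1) * d * N = (xv e u * xv e u ^ h - 1) * (xv e u ^ h - 1) := by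
  cases e with
  | true => exact data_true hu hT hN
  | false => exact data_false hu hT hN

theorem dvd_xv {e : Bool} {u d : ℕ} (hu : 1 ≤ u) (hd : d ∣ AA e 1 u) : (d : ℤ) ∣ xv e u - 1 := by
  have h1 : (d : ℤ) ∣ (AA e 1 u : ℤ) := by exact_mod_cast hd
  cases e with
  | true =>
    rw [H813.UF.AA_true _ _ hu, pow_one] at h1
    exact h1
  | false =>
    rw [H813.UF.AA_false_odd _ _ odd_one, pow_one] at h1
    have e1 : xv false u - 1 = -((u : ℤ) + 1) := by
      unfold xv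
      simp
      ring
    rw [e1, dvd_neg]
    exact h1

theorem abs_xv {e : Bool} {u : ℕ} : |xv e u| = u := by
  unfold xv
  cases e <;> simp

theorem xv_cases (e : Bool) (u : ℕ) : (e = true ∧ xv e u = u) ∨ (e = false ∧ xv e u = -u) := by
  unfold xv
  cases e <;> simp

theorem no_div {z : ℤ} (h9 : z % 9 = 6) (h4 : z % 4 = 1) (hb : 9 ≤ z ∨ z ≤ -11) (hd : z ∣ 135) : False := by
  have h1 : z.natAbs ∈ Nat.divisors 135 := Nat.mem_divisors.2 ⟨by
    have := Int.natAbs_dvd_natAbs.2 hd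
    simpa using this, by norm_num⟩
  have h2 : Nat.divisors 135 = {1, 3, 5, 9, 15, 27, 45, 135} := by decide +kernel
  rw [h2] at h1
  simp only [Finset.mem_insert, Finset.mem_singleton] at h1
  omega

/-- **The exceptional family** `u = 3`, `x = (3 (-3) ^ h - 1) / 2`. -/
theorem no_fam {p M : ℕ} {x : ℤ} {S : Type*} [Group S] (h : Cand p x M S) {m N : ℕ} (hm : 1 ≤ m)
    (hx : 2 * x = 3 * (-3) ^ m - 1) (hx4 : x % 4 = 3) (hx7 : 7 ≤ x ∨ x ≤ -13) (hN : ∃ g : S, orderOf g = N)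
    (hNv : N + 1 = 3 ^ (2 * m)) : False := by
  obtain ⟨X, hX⟩ : ∃ X : ℤ, X = (-3) ^ m := ⟨_, rfl⟩
  rw [← hX] at hx
  have h3X : (3 : ℤ) ∣ X := by
    rw [hX]
    exact dvd_trans (by norm_num) (dvd_pow_self (-3 : ℤ) (by omega))
  obtain ⟨w, hw⟩ := h3X
  have hNZ : (N : ℤ) = X ^ 2 - 1 := by
    have h1 : ((N + 1 : ℕ) : ℤ) = ((3 ^ (2 * m) : ℕ) : ℤ) := by exact_mod_cast hNv
    push_cast at h1
    have h2 : X ^ 2 = 3 ^ (2 * m) := by
      rw [hX, ← pow_mul, mul_comm m 2, pow_mul, pow_mul]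
      norm_num
    linarith only [hNv, h2]
  -- the type
  have hty : TII x M 3 := by
    rcases h.typ with h1 | ⟨δ, h1⟩
    · have := h1.1
      omega
    · have h2 := h1.2.2.1
      rcases h2 with ⟨-, h2⟩ | ⟨h2, -⟩
      · (clear * - hx h2; omega)
      · rwa [h2] at h1
  have hM4 : 4 * (M : ℤ) = 3 * X ^ 2 + 1 := by
    have h1 := hty.2.2.2
    have h2 : 4 * (3 * (M : ℤ)) = 3 * (3 * X ^ 2 + 1) := by
      rw [h1]
      have : 4 * (x ^ 2 + x + 1) = (2 * x) ^ 2 + 2 * (2 * x) + 4 := by ring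
      rw [this, hx]
      ring
    linarith only [h2]
  have hcop : Nat.Coprime N M := by
    refine Nat.coprime_of_dvd fun s hs hsN hsM => ?_
    have h1 : (s : ℤ) ∣ N := by exact_mod_cast hsN
    have h2 : (s : ℤ) ∣ M := by exact_mod_cast hsM
    have h3 : (s : ℤ) ∣ 4 := by
      have := dvd_sub (Dvd.dvd.mul_left h2 4) (Dvd.dvd.mul_left h1 3)
      rwa [hM4, hNZ, show 3 * X ^ 2 + 1 - 3 * (X ^ 2 - 1) = 4 by ring] at this
    have h4 : s ∣ 2 ^ 2 := by exact_mod_cast h3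
    have h5 := (Nat.prime_dvd_prime_iff_eq hs Nat.prime_two).1 (hs.dvd_of_dvd_pow h4)
    have := h.M_odd
    rw [h5] at hsM
    (clear * - hsM this; omega)
  have h9N : 9 * (N : ℤ) = 4 * ((x - 1) * (x + 2)) := by
    rw [hNZ]
    have : 9 * (X ^ 2 - 1) = (3 * X) ^ 2 - 9 := by ring
    rw [this, show 3 * X = 2 * x + 1 by linarith only [hx]]
    ring
  have hz9 : (x + 2) % 9 = 6 := by (clear * - hx hw; omega)
  have hz : ∀ K : ℤ, K ∣ 135 → x + 2 ∣ K → False := fun K hK hd =>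
    no_div hz9 (by (clear * - hx4; omega)) (by (clear * - hx7; omega)) (hd.trans hK)
  have hx1 : x - 1 ≠ 0 := by (clear * - hx hw; omega)
  have hpc : IsCoprime (x + 2) (p : ℤ) := by
    rw [isCoprime_comm, (Nat.prime_iff_prime_int.1 h.hp).coprime_iff_not_dvd]
    intro h1
    have h2 := dvd_sub h1 h.p_dvd
    rw [show x + 2 - x = 2 by ring] at h2
    have := Int.le_of_dvd (by norm_num) h2
    have := h.h5
    omega
  have hdiv : x + 2 ∣ 9 * p → False := fun hd => hz 9 (by norm_num) (hpc.dvd_of_dvd_mul_right hd)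
  rcases h.freeII hN hcop hty with k | k | k | k | k
  · refine hz 45 (by norm_num) ?_
    obtain ⟨c, hc⟩ := k
    have h1 : 9 * ((x ^ 2 + 1) * (x + 1)) = (x + 2) * (8 * (x - 1) * c) := by
      rw [hc]
      linear_combination 2 * c * h9N
    refine ⟨9 * (x ^ 2 - x + 3) - 8 * (x - 1) * c, ?_⟩
    linear_combination -h1
  · refine hz 9 (by norm_num) ?_
    obtain ⟨c, hc⟩ := k
    have h1 : (x - 1) * (9 * (x + 1)) = (x - 1) * ((x + 2) * (4 * c)) := by
      linear_combination 9 * hc + c * h9N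
    have h2 := mul_left_cancel₀ hx1 h1
    exact ⟨9 - 4 * c, by linear_combination -h2⟩
  · refine hdiv ?_
    obtain ⟨c, hc⟩ := k
    have h1 : (x - 1) * (9 * (p * (x + 1))) = (x - 1) * ((x + 2) * (8 * c)) := by
      linear_combination 9 * hc + 2 * c * h9N
    have h2 := mul_left_cancel₀ hx1 h1
    exact ⟨9 * p - 8 * c, by linear_combination -h2⟩
  · refine hdiv ?_
    obtain ⟨c, hc⟩ := k
    have h1 : (x - 1) * (9 * (p : ℤ)) = (x - 1) * ((x + 2) * (4 * c)) := by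
      linear_combination 9 * hc + c * h9N
    exact ⟨4 * c, mul_left_cancel₀ hx1 h1⟩
  · refine hz 27 (by norm_num) ?_
    obtain ⟨c, hc⟩ := k
    have h1 : (x - 1) * 27 = (x - 1) * ((x + 2) * (8 * c)) := by
      linear_combination 9 * hc + 2 * c * h9N
    exact ⟨8 * c, mul_left_cancel₀ hx1 h1⟩

/-- `PSL₄(3)` has elements of order 9 -/
theorem exists_nine {F : Type*} [Field F] [Fintype F] (hF : Fintype.card F = 3) :
    ∃ g : Matrix.ProjectiveSpecialLinearGroup (Fin 4) F, orderOf g = 9 := by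
  have hp : Fact (Nat.Prime 3) := ⟨Nat.prime_three⟩
  obtain ⟨g, hg⟩ := H369.Ti.Elts.l43'
  let f := LieClassical.FieldTransfer.pslCongr (ι := Fin 4)
    (FiniteField.ringEquivOfCardEq (K := ZMod 3) (K' := F) (by rw [hF, ZMod.card]))
  exact ⟨f g, by rw [MulEquiv.orderOf_eq, hg]⟩

/-- **`PSL_n(u)`, `PSU_n(u)`, `n ≥ 4`** -/
theorem row_lin_of {F : Type*} [Field F] [Fintype F] {e : Bool} {n u : ℕ} {L : Type*} [Group L] [Finite L]
    (hL : H403.IsL L e n u F) (hF : Fintype.card F = u ^ (cond e 0 1 + 1)) (hn : 4 ≤ n) {p M : ℕ} {x : ℤ}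
    (hpF : (p : F) ≠ 0) (h : Cand p x M L) (hpair : HasPair p M x L) : False := by
  have hu := H528.UF.two_le hF hn
  have hM13 := h.M_ge
  have hModd := h.M_odd
  have hfar : ∀ r : ℕ, r.Prime → r ∣ M → Far L r := fun r hr hrM =>
    ⟨(h.prime_facts hr hrM).1, fun x hx => h.not_two_dvd hr hrM hx⟩
  have hMc : M ∣ Nat.card L := h.dvd_card dvd_rfl
  have hred := dvd_red hL hF hn hfar hMc
  obtain ⟨r, hr, hrM⟩ := h.exists_prime
  obtain ⟨g, hg⟩ := h.elt
  have hlin : Lin (AlgebraicClosure F) L e n u F := hL.lin hF (by omega)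
  have hg0 : orderOf g ≠ 0 := (orderOf_pos g).ne'
  have hA0 : ∀ i, 1 ≤ i → 0 < AA e i u := fun i hi => H410.UF.AA_pos hu e hi
  have hcop : ∀ j, 1 ≤ j → j + 2 ≤ n → Nat.Coprime M (AA e j u) := fun j hj hjn =>
    Nat.coprime_of_dvd fun s hs hsM hsA => not_low hL hF hn hs (hfar s hs hsM) hj hjn hsA
  have hc1 : Nat.Coprime M (AA e 1 u) := hcop 1 le_rfl (by omega)
  obtain ⟨d, hd⟩ : ∃ d, d = Nat.gcd n (AA e 1 u) := ⟨_, rfl⟩
  have hd1 : d ∣ AA e 1 u := hd ▸ Nat.gcd_dvd_right _ _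
  have hd0 : 0 < d := hd ▸ Nat.gcd_pos_of_pos_left _ (by omega)
  have hcd : Nat.Coprime M d := hc1.coprime_dvd_right hd1
  have hup : xv e u ≠ x := by
    intro h1
    apply hpF
    apply natCast_eq_zero h.hp
    rw [hF]
    refine Dvd.dvd.trans ?_ (dvd_pow_self u (Nat.succ_ne_zero _))
    have h2 := h.p_dvd
    rw [← h1, ← Int.dvd_natAbs] at h2
    have h3 : (xv e u).natAbs = u := by
      have := abs_xv (e := e) (u := u)
      rw [Int.abs_eq_natAbs] at this
      exact_mod_cast this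
    rw [h3] at h2
    exact_mod_cast h2
  have hyabs : 2 ≤ |xv e u| := by rw [abs_xv]; exact_mod_cast hu
  have hhalf : ∀ k : ℕ, 2 * k = n ∨ 2 * k + 1 = n → M ∣ AA e (2 * k) u →
      ∃ H : ℕ, H * AA e k u = u ^ (2 * k) - 1 ∧ M ∣ H := by
    intro k hk hMk
    obtain ⟨H, hH⟩ := exists_cof (e := e) (k := k) (u := u) (by omega)
    refine ⟨H, hH, ?_⟩
    rw [AA_even, ← hH] at hMk
    exact (hcop k (by omega) (by omega)).dvd_of_dvd_mul_right hMk
  have hdat : ∀ T : ℕ, (∃ g : L, orderOf g = T) → M ∣ T → ∃ a, T = a * M ∧ 1 ≤ a ∧ Dat x M a := by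
    intro T hT hMT
    obtain ⟨a, ha, -, ha1, hI, hII⟩ := h.tor hT hMT
    refine ⟨a, ha, ha1, ?_⟩
    rcases h.typ with h1 | ⟨δ, h1⟩
    · exact Or.inl ⟨h1, hI h1.1⟩
    · exact Or.inr ⟨δ, h1, hII δ h1⟩
  rcases order_cases hL hF hn hr (hfar r hr hrM) (hrM.trans hred) with ⟨hrn, hord⟩ | ⟨hrn, hord⟩
  · -- the Singer torus
    have h1 := H363.L4.Lin.dvd_top hlin hF (by omega) hr hord g (by rw [hg]; exact hrM) hg0
    rw [hg, ← hd] at h1
    obtain ⟨T, hT⟩ : AA e 1 u * d ∣ AA e n u := (dvd_mul_left _ _).trans h1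
    have hT' : T * (AA e 1 u * d) = AA e n u := by rw [hT, mul_comm]
    have hpos : 0 < AA e 1 u * d := Nat.mul_pos (hA0 1 le_rfl) hd0
    have hMT : M ∣ T := by
      rw [← hT'] at h1
      exact Nat.dvd_of_mul_dvd_mul_right hpos h1
    obtain ⟨t, ht⟩ := exists_topL hL hF hn
    rw [← hd, ← hT'] at ht
    obtain ⟨y, hy⟩ := exists_order_of_dvd (Nat.dvd_of_mul_dvd_mul_right hpos ht) (orderOf_pos t).ne'
    rcases Nat.even_or_odd n with hev | hodd
    · obtain ⟨k, hk⟩ : ∃ k, n = 2 * k := ⟨n / 2, by obtain ⟨m, hm⟩ := hev; omega⟩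
      obtain ⟨H, hH, hMH⟩ := hhalf k (Or.inl hk.symm) (by
        rw [← hk, ← hT']
        exact hMT.mul_right _)
      rw [hk, AA_even] at hT'
      rw [hd, hk] at hT'
      obtain ⟨a, rfl, ha1, hda⟩ := hdat T ⟨y, hy⟩ hMT
      rcases (by omega : k = 2 ∨ 3 ≤ k) with hk2 | hk3
      · have h2 := num_even_four e hu hM13 ha1 hda hH hMH hk2 hModd hT'
        apply hpF
        apply natCast_eq_zero h.hp
        rw [hF]
        refine Dvd.dvd.trans ?_ (dvd_pow_self u (Nat.succ_ne_zero _))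
        have h3 := h.p_dvd
        rw [← h2] at h3
        exact_mod_cast h3
      · exact num_even_top3 e hu hM13 ha1 hda hH hMH hk3 hT'
    · obtain ⟨k, hk⟩ : ∃ k, n = 2 * k + 1 := by obtain ⟨m, hm⟩ := hodd; exact ⟨m, hm⟩
      have hdn : d ∣ 2 * k + 1 := by rw [← hk, hd]; exact Nat.gcd_dvd_left _ _
      obtain ⟨N, hN⟩ : AA e 1 u * d ∣ AA e (k + 1) u * AA e k u :=
        Nat.mul_dvd_mul (H363.L4.AA_one_dvd (by omega)) (hd1.trans (H363.L4.AA_one_dvd (by omega)))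
      have hN' : N * (AA e 1 u * d) = AA e (k + 1) u * AA e k u := by rw [hN, mul_comm]
      obtain ⟨z, hz⟩ := exists_blk hL hF (by omega) (a := k + 1) (b := k) (by omega) (by omega) (by simp) (by omega)
      rw [← hN', ← hd] at hz
      obtain ⟨w, hw⟩ := exists_order_of_dvd (Nat.dvd_of_mul_dvd_mul_right hpos hz) (orderOf_pos z).ne'
      have hpos2 : 0 < AA e (k + 1) u * AA e k u := Nat.mul_pos (hA0 _ (by omega)) (hA0 _ (by omega))
      have hN0 : N ≠ 0 := by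
        rintro rfl
        rw [zero_mul] at hN'
        omega
      have hT0 : T ≠ 0 := by
        rintro rfl
        rw [zero_mul] at hT'
        have := hA0 n (by omega)
        omega
      have hNM : Nat.Coprime N M := by
        have h5 : Nat.Coprime M (AA e (k + 1) u * AA e k u) :=
          Nat.Coprime.mul_right (hcop _ (by omega) (by omega)) (hcop _ (by omega) (by omega))
        rw [← hN'] at h5
        exact (h5.coprime_dvd_right (dvd_mul_right _ _)).symm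
      rw [hk] at hT'
      have hK := near_odd e hu (by omega) hd1 hdn hT' hN'
      obtain ⟨h7, h8⟩ := data hu hT' hN'
      have hT13 : (13 : ℤ) ≤ T := by
        have := Nat.le_of_dvd (Nat.pos_of_ne_zero hT0) hMT
        omega
      have hdo : d % 2 = 1 := by
        obtain ⟨c, hc⟩ := hdn
        rcases Nat.mod_two_eq_zero_or_one d with h9 | h9
        · exfalso
          have : (d * c) % 2 = 0 := by rw [Nat.mul_mod, h9, zero_mul, Nat.zero_mod]
          omega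
        · exact h9
      rcases num_odd hyabs (dvd_xv (by omega) hd1) hdo (by omega) (by omega) h7 h8 hT13 hK
        (hpair T N ⟨y, hy⟩ hMT ⟨w, hw⟩ hN0 hNM hK) with c1 | c1 | c1 | c1 | ⟨c1, c2, c3, c4, c5⟩
      · exact hup c1
      · omega
      · omega
      · omega
      · -- the exceptional family
        obtain ⟨rfl, hu3⟩ : e = false ∧ u = 3 := by
          rcases xv_cases e u with ⟨he, hxv⟩ | ⟨he, hxv⟩
          · omega
          · exact ⟨he, by omega⟩
        subst hu3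
        obtain ⟨s, hs⟩ := exists_subL hL hF hn
        rw [← hd, c2, mul_one, show n - 1 = 2 * k by (clear * - hk; omega), AA_even] at hs
        obtain ⟨v, hv⟩ := exists_order_of_dvd hs (orderOf_pos s).ne'
        rw [c1] at c3
        exact no_fam h (by omega : 1 ≤ k) c3 c4 c5 ⟨v, hv⟩ (Nat.sub_add_cancel (Nat.one_le_pow _ _ (by norm_num)))
  · -- the torus of `GL_{n-1}`
    have h1 := H363.L4.Lin.dvd_pred hlin hF (by omega) hr hord g (by rw [hg]; exact hrM) hg0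
    rw [hg, ← hd] at h1
    obtain ⟨t, ht⟩ := exists_subL hL hF hn
    rw [← hd] at ht
    rcases Nat.even_or_odd n with hev | hodd
    · obtain ⟨k, hk⟩ : ∃ k, n = 2 * k + 2 := ⟨n / 2 - 1, by obtain ⟨m, hm⟩ := hev; (clear * - hn hm; omega)⟩
      have hk1 : n - 1 = 2 * k + 1 := by omega
      rw [hk1] at h1 ht
      obtain ⟨T, hT⟩ : AA e 1 u ∣ AA e (2 * k + 1) u := H363.L4.AA_one_dvd (by omega)
      have hT' : T * (AA e 1 u * 1) = AA e (2 * k + 1) u := by rw [hT, mul_one, mul_comm]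
      obtain ⟨N, hN⟩ : AA e 1 u ∣ AA e (k + 1) u * AA e k u := (H363.L4.AA_one_dvd (by omega)).mul_right _
      have hN' : N * (AA e 1 u * 1) = AA e (k + 1) u * AA e k u := by rw [hN, mul_one, mul_comm]
      have hMT : M ∣ T := by
        rw [hT] at h1
        exact hc1.dvd_of_dvd_mul_left ((dvd_mul_right _ _).trans h1)
      -- the whole torus
      obtain ⟨Q, hQ⟩ : d ∣ AA e (2 * k + 1) u := hd1.trans (H363.L4.AA_one_dvd (by omega))
      have hMQ : M ∣ Q := by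
        rw [hT] at h1
        have h2 : M ∣ d * Q := by rw [← hQ, hT]; exact hMT.mul_left _
        exact hcd.dvd_of_dvd_mul_left h2
      have hQt : Q ∣ orderOf t := by
        rw [hQ, mul_comm (orderOf t) d] at ht
        exact Nat.dvd_of_mul_dvd_mul_left hd0 ht
      obtain ⟨w2, hw2⟩ := exists_order_of_dvd hQt (orderOf_pos t).ne'
      have hTx : T ∣ orderOf t := by
        obtain ⟨c, hc⟩ := hd1
        rw [hT, hc, mul_comm (orderOf t) d, mul_assoc] at ht
        exact (dvd_mul_left _ _).trans (Nat.dvd_of_mul_dvd_mul_left hd0 ht)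
      obtain ⟨y, hy⟩ := exists_order_of_dvd hTx (orderOf_pos t).ne'
      obtain ⟨z, hz⟩ := exists_blk' hL hF (by omega) (a := k + 1) (b := k) (by omega) (by omega) (by simp) (by omega)
      rw [hN, mul_comm (AA e 1 u) N] at hz
      obtain ⟨w, hw⟩ := exists_order_of_dvd (Nat.dvd_of_mul_dvd_mul_right (hA0 1 le_rfl) hz) (orderOf_pos z).ne'
      have hpos2 : 0 < AA e (k + 1) u * AA e k u := Nat.mul_pos (hA0 _ (by omega)) (hA0 _ (by omega))
      have hN0 : N ≠ 0 := by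
        rintro rfl
        rw [zero_mul] at hN'
        omega
      have hT0 : T ≠ 0 := by
        rintro rfl
        rw [zero_mul] at hT'
        have := hA0 (2 * k + 1) (by omega)
        omega
      have hNM : Nat.Coprime N M := by
        have h5 : Nat.Coprime M (AA e (k + 1) u * AA e k u) :=
          Nat.Coprime.mul_right (hcop _ (by omega) (by omega)) (hcop _ (by omega) (by omega))
        rw [← hN'] at h5
        exact (h5.coprime_dvd_right (dvd_mul_right _ _)).symm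
      have hK := near_odd e hu (by omega) (one_dvd _) (one_dvd _) hT' hN'
      obtain ⟨h7, h8⟩ := data hu hT' hN'
      have hT13 : (13 : ℤ) ≤ T := by
        have := Nat.le_of_dvd (Nat.pos_of_ne_zero hT0) hMT
        omega
      rcases num_odd hyabs (dvd_xv (by omega) (one_dvd _)) (by norm_num) (by omega) (fun _ => rfl) h7 h8 hT13 hK
        (hpair T N ⟨y, hy⟩ hMT ⟨w, hw⟩ hN0 hNM hK) with c1 | ⟨c1, c2, c3⟩ | ⟨c1, c2, c3⟩ | ⟨c1, c2, c3⟩ | ⟨c1, c2, c3, c4, c5⟩
      · exact hup c1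
      · -- `L₄(3)`, `x = 5`
        obtain ⟨rfl, hu3⟩ : e = true ∧ u = 3 := by
          rcases xv_cases e u with ⟨he, hxv⟩ | ⟨he, hxv⟩
          · exact ⟨he, by omega⟩
          · omega
        subst hu3
        obtain ⟨f⟩ := hL
        obtain rfl : n = 4 := by omega
        obtain ⟨j, hj⟩ := exists_nine (F := F) (by rw [hF]; norm_num)
        have h9 := h.spec (f.symm j)
        have hp5 : p = 5 := by
          obtain ⟨m, hm1, hm⟩ := h.ex
          rw [c3] at hm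
          have h10 : p ∣ 5 := by
            rw [show (5 : ℤ).natAbs = 5 from rfl] at hm
            rw [hm]; exact dvd_pow_self p (by omega)
          exact (Nat.prime_dvd_prime_iff_eq h.hp (by norm_num)).1 h10
        rw [MulEquiv.orderOf_eq, hj, c3, hp5] at h9
        unfold Sp at h9
        rw [cc_one (by norm_num)] at h9
        norm_num at h9
      · -- `U₄(4)`, `x = 5`
        obtain ⟨rfl, hu4⟩ : e = false ∧ u = 4 := by
          rcases xv_cases e u with ⟨he, hxv⟩ | ⟨he, hxv⟩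
          · omega
          · exact ⟨he, by omega⟩
        subst hu4
        obtain rfl : k = 1 := by omega
        obtain rfl : n = 4 := by omega
        have hd' : d = 1 := by rw [hd]; decide
        have hQ65 : Q = 65 := by
          rw [hd', one_mul] at hQ
          rw [← hQ]
          decide
        rw [hQ65] at hw2 hMQ
        obtain ⟨a, ha, -, -, hI, -⟩ := h.tor ⟨w2, hw2⟩ hMQ
        have h9 := hI (by omega)
        have hM : M = 13 := by
          rcases h.typ with h10 | ⟨δ, h10, -⟩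
          · have := h10.2.2
            rw [c3] at this
            norm_num at this
            omega
          · omega
        rw [hM] at ha
        have ha5 : a = 5 := by omega
        rw [ha5, c3] at h9
        norm_num at h9
      · -- `L₄(9)`, `x = -17`
        obtain ⟨rfl, hu9⟩ : e = true ∧ u = 9 := by
          rcases xv_cases e u with ⟨he, hxv⟩ | ⟨he, hxv⟩
          · exact ⟨he, by omega⟩
          · omega
        subst hu9
        obtain rfl : k = 1 := by omega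
        obtain rfl : n = 4 := by omega
        have hd' : d = 4 := by rw [hd]; decide
        have hQ182 : Q = 182 := by
          rw [hd'] at hQ
          have h10 : AA true (2 * 1 + 1) 9 = 728 := by decide
          rw [h10] at hQ
          omega
        have := h.odd_of_M ⟨w2, hw2⟩ hMQ
        omega
      · -- the exceptional family
        obtain ⟨rfl, hu3⟩ : e = false ∧ u = 3 := by
          rcases xv_cases e u with ⟨he, hxv⟩ | ⟨he, hxv⟩
          · omega
          · exact ⟨he, by omega⟩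
        subst hu3
        obtain ⟨s, hs⟩ := exists_blk' hL hF (by omega) (a := 2 * k) (b := 1) (by omega) le_rfl (by simp) (by omega)
        have hs' := Nat.dvd_of_mul_dvd_mul_right (hA0 1 le_rfl) hs
        rw [AA_even] at hs'
        obtain ⟨v, hv⟩ := exists_order_of_dvd hs' (orderOf_pos s).ne'
        rw [c1] at c3
        exact no_fam h (by omega : 1 ≤ k) c3 c4 c5 ⟨v, hv⟩ (Nat.sub_add_cancel (Nat.one_le_pow _ _ (by norm_num)))
    · obtain ⟨k, hk⟩ : ∃ k, n = 2 * k + 1 := by obtain ⟨m, hm⟩ := hodd; exact ⟨m, hm⟩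
      have hk1 : n - 1 = 2 * k := by omega
      rw [hk1] at h1 ht
      obtain ⟨T, hT⟩ : d ∣ AA e (2 * k) u := (dvd_mul_left _ _).trans h1
      have hT' : T * d = AA e (2 * k) u := by rw [hT, mul_comm]
      have hMT : M ∣ T := by
        rw [← hT'] at h1
        exact Nat.dvd_of_mul_dvd_mul_right hd0 h1
      rw [← hT'] at ht
      obtain ⟨y, hy⟩ := exists_order_of_dvd (Nat.dvd_of_mul_dvd_mul_right hd0 ht) (orderOf_pos t).ne'
      obtain ⟨H, hH, hMH⟩ := hhalf k (Or.inr hk.symm) (by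
        rw [← hT']
        exact hMT.mul_right _)
      rw [AA_even, hd, hk] at hT'
      obtain ⟨a, rfl, ha1, hda⟩ := hdat T ⟨y, hy⟩ hMT
      exact num_even_pred e hu hM13 ha1 hda hH hMH (by omega) hT'

end Cfsg.Agent.R2.Spec.X3.PL
end

-- part: R2/Spec/X1/E6/I9/Small_mg
section
prune_inst 0x12030441c40000000000004100000042000010000208001e80002000a004302804001000c801002104c3280300400000000004000400000040030000002012080288200e0d90800000011801004400000000000000000000000000000000004000000000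
set_option linter.all false
open scoped Cfsg.Agent.FastGrp

-- part: R2/Spec/X1/E6/I9/Small
section
/-!
# `E₆(q)`, `²E₆(q)`, rows `A_k`, `PSL₂(u)`, sporadic groups, Tits group (helper977, S3480, S3481)
-/

set_option autoImplicit false

namespace Cfsg.Agent.R2.Spec.X1.E6.I9

open Cfsg Cfsg.Agent.R2.Spec.X1.E6 Cfsg.Agent.H72.F4I.Iso Cfsg.Agent.NotCT

section num

variable {D : Dat}

theorem three_n : (D.q : ℤ) ^ 6 - D.q ^ 3 + 1 ≤ 3 * D.n := by
  have h8 := D.hn
  have hd : (D.d : ℤ) ≤ 3 := by rcases D.hd with h | h <;> rw [h] <;> norm_num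
  have h9 : (D.d : ℤ) * D.n ≤ 3 * D.n := mul_le_mul_of_nonneg_right hd (by positivity)
  have h10 : (0 : ℤ) ≤ (D.q : ℤ) ^ 3 := by positivity
  rcases D.eps with h | h <;> rw [h] at h8 <;> linarith

theorem e_le : (D.e : ℤ) ≤ (D.q : ℤ) ^ 6 + D.q ^ 5 - D.q ^ 3 + D.q + 1 := by
  rw [D.he, D.hm]
  have h10 : (0 : ℤ) ≤ (D.q : ℤ) := by positivity
  rcases D.eps with h | h <;> rw [h]
  · linarith only []
  · nlinarith only [mul_nonneg h10 (sq_nonneg ((D.q : ℤ) ^ 2 - 1))]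

theorem m_lt_n : D.m + 3 < D.n := by
  rcases Nat.lt_or_ge D.q 3 with h | h
  · have hsm := small D (by omega)
    have hm := D.m_add
    have hq : D.q = 2 := by have := D.two_le; omega
    rw [hq] at hsm hm
    simp only [_root_.Int.reduceNeg, _root_.List.mem_cons, _root_.Prod.mk.injEq, _root_.true_and, _root_.Nat.reduceEqDiff, _root_.false_and, _root_.List.not_mem_nil, _root_.or_self, _root_.or_false] at hsm
    omega
  · have h3 : (3 : ℤ) ≤ D.q := by exact_mod_cast h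
    have h1 := three_n (D := D)
    have h2 := D.hm
    have h5 : (27 : ℤ) ≤ (D.q : ℤ) ^ 3 := by
      calc (27 : ℤ) = 3 ^ 3 := by norm_num
        _ ≤ (D.q : ℤ) ^ 3 := pow_le_pow_left₀ (by norm_num) h3 3
    have h6 : 9 * (D.q : ℤ) ^ 4 ≤ D.q ^ 6 := by
      have : (D.q : ℤ) ^ 6 = D.q ^ 2 * D.q ^ 4 := by ring
      rw [this]
      exact mul_le_mul_of_nonneg_right (by nlinarith only [h]) (by positivity)
    have h7 : 3 * (D.q : ℤ) ^ 3 ≤ D.q ^ 4 := by
      rw [pow_succ (D.q : ℤ) 3, mul_comm]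
      exact mul_le_mul_of_nonneg_left h3 (by positivity)
    have h8 : (0 : ℤ) ≤ (D.q : ℤ) ^ 2 := by positivity
    have h9 : ((D.m + 3 : ℕ) : ℤ) < D.n := by
      push_cast
      linarith only [h1, h2, h5, h6, h7, _root_.sq_nonneg (↑D.q : ℤ)]
    exact_mod_cast h9

/-- `n²` is large -/
theorem sq_lt : 2 * D.e + 1 < D.n ^ 2 := by
  rcases Nat.lt_or_ge D.q 3 with h | h
  · have hsm := small D (by omega)
    have hq : D.q = 2 := by have := D.two_le; omega
    have he := e_le (D := D)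
    rw [hq] at hsm he
    simp only [_root_.Int.reduceNeg, _root_.List.mem_cons, _root_.Prod.mk.injEq, _root_.true_and, _root_.Nat.reduceEqDiff, _root_.false_and, _root_.List.not_mem_nil, _root_.or_self, _root_.or_false] at hsm
    push_cast at he
    have he' : D.e ≤ 91 := by
      have : (D.e : ℤ) ≤ 91 := by linarith
      exact_mod_cast this
    rcases hsm with ⟨-, -, hn⟩ | ⟨-, -, hn⟩ <;> rw [hn] <;> omega
  · have h3 : (3 : ℤ) ≤ D.q := by exact_mod_cast h
    have h1 := three_n (D := D)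
    have h2 := e_le (D := D)
    obtain ⟨x, hx⟩ : ∃ x : ℤ, (D.q : ℤ) ^ 6 = x := ⟨_, rfl⟩
    have h5 : (729 : ℤ) ≤ x := by
      rw [← hx]
      calc (729 : ℤ) = 3 ^ 6 := by norm_num
        _ ≤ (D.q : ℤ) ^ 6 := pow_le_pow_left₀ (by norm_num) h3 6
    have h6 : 27 * (D.q : ℤ) ^ 3 ≤ x := by
      rw [← hx]
      have : (D.q : ℤ) ^ 6 = D.q ^ 3 * D.q ^ 3 := by ring
      rw [this]
      refine mul_le_mul_of_nonneg_right ?_ (by positivity)
      calc (27 : ℤ) = 3 ^ 3 := by norm_num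
        _ ≤ (D.q : ℤ) ^ 3 := pow_le_pow_left₀ (by norm_num) h3 3
    have h7 : 3 * (D.q : ℤ) ^ 5 ≤ x := by
      rw [← hx, pow_succ (D.q : ℤ) 5, mul_comm]
      exact mul_le_mul_of_nonneg_left h3 (by positivity)
    have h8 : (D.q : ℤ) ≤ D.q ^ 3 := by
      have : (D.q : ℤ) ^ 3 = D.q ^ 2 * D.q := by ring
      rw [this]
      nlinarith only [h]
    have h9 : (D.e : ℤ) ≤ 2 * x := by rw [hx] at h2; linarith
    have h10 : x ≤ 6 * D.n := by rw [hx] at h1; linarith
    have h11 : ((2 * D.e + 1 : ℕ) : ℤ) < ((D.n ^ 2 : ℕ) : ℤ) := by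
      push_cast
      nlinarith only [h1, h2, hx, h5, h6, h7, h8]
    exact_mod_cast h11

end num

section alt

variable {D : Dat} {k : ℕ}

/-- **Row `A_k`.** -/
theorem row_alt (h : Sit D (alternatingGroup (Fin k))) : False := by
  have h1 := alt_row (isoN h)
  obtain ⟨t, ht, htm⟩ := Nat.exists_prime_and_dvd (show D.m ≠ 1 by have := D.m_ge; omega)
  have h13 := D.prime_m_ge ht htm
  have h2 : k < t + 4 := by
    by_contra hcon
    exact h.not_two_m ht htm (H376.Coc.alt_adj_two (m := k) ht (by omega) (by omega))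
  have h3 := Nat.le_of_dvd D.pos_m htm
  have h4 := m_lt_n (D := D)
  omega

end alt

section psl2

variable {D : Dat} {F : Type*} [Field F] [Fintype F]

/-- **Row `PSL₂(u)`.** -/
theorem row_psl2 (h4 : 4 ≤ Fintype.card F) (h : Sit D (Matrix.ProjectiveSpecialLinearGroup (Fin 2) F)) : False := by
  obtain ⟨l, hl⟩ := CharP.exists F
  have hlp : Fact l.Prime := ⟨CharP.char_is_prime F l⟩
  obtain ⟨f, hlp', hf⟩ := FiniteField.card F l
  have hspec := S2475.result (F := F) l h4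
  obtain ⟨u, hu⟩ : ∃ u, Fintype.card F = u := ⟨_, rfl⟩
  rw [hu] at hspec h4 hf
  have hin : ∀ N : ℕ, (N ∣ l ∨ N ∣ (u - 1) / Nat.gcd 2 (u - 1) ∨ N ∣ (u + 1) / Nat.gcd 2 (u - 1)) ↔
      ∃ x : Matrix.ProjectiveSpecialLinearGroup (Fin 2) F, orderOf x = N := fun N => by
    have := Set.ext_iff.1 hspec N
    exact this.symm
  have hfin : Finite (Matrix.ProjectiveSpecialLinearGroup (Fin 2) F) := inferInstance
  have hn19 := D.one_lt_n
  have hm13 := D.m_ge
  obtain ⟨s, hs, hsn⟩ := Nat.exists_prime_and_dvd (show D.n ≠ 1 by omega)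
  obtain ⟨t, ht, htm⟩ := Nat.exists_prime_and_dvd (show D.m ≠ 1 by omega)
  have hon := (hin _).2 h.on
  have hom := (hin _).2 h.om
  have hd : (u % 2 = 0 ∧ Nat.gcd 2 (u - 1) = 1) ∨ (u % 2 = 1 ∧ Nat.gcd 2 (u - 1) = 2) := by
    rcases Nat.mod_two_eq_zero_or_one u with h2 | h2
    · refine Or.inl ⟨h2, ?_⟩
      have : ¬ 2 ∣ u - 1 := by omega
      exact (Nat.Prime.coprime_iff_not_dvd Nat.prime_two).2 this
    · refine Or.inr ⟨h2, Nat.gcd_eq_left (by omega)⟩
  have hu1 := (hin _).1 (Or.inr (Or.inl (dvd_refl ((u - 1) / Nat.gcd 2 (u - 1)))))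
  have hu2 := (hin _).1 (Or.inr (Or.inr (dvd_refl ((u + 1) / Nat.gcd 2 (u - 1)))))
  have hll := (hin _).1 (Or.inl (dvd_refl l))
  have hlu : l ∣ u := by rw [hf]; exact dvd_pow_self l f.ne_zero
  -- the two halves
  obtain ⟨g, hg, hA, hB⟩ : ∃ g, (g = 1 ∨ g = 2) ∧ g * ((u - 1) / Nat.gcd 2 (u - 1)) + 1 = u ∧
      g * ((u + 1) / Nat.gcd 2 (u - 1)) = u + 1 := by
    rcases hd with ⟨h1, h2⟩ | ⟨h1, h2⟩
    · exact ⟨1, Or.inl rfl, by rw [h2]; (clear * - h4; omega), by rw [h2]; omega⟩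
    · exact ⟨2, Or.inr rfl, by rw [h2]; (clear * - h1; omega), by rw [h2]; omega⟩
  obtain ⟨A, hA'⟩ : ∃ A, (u - 1) / Nat.gcd 2 (u - 1) = A := ⟨_, rfl⟩
  obtain ⟨B, hB'⟩ : ∃ B, (u + 1) / Nat.gcd 2 (u - 1) = B := ⟨_, rfl⟩
  rw [hA'] at hon hom hu1 hA
  rw [hB'] at hon hom hu2 hB
  have hnm : ∀ {C : ℕ}, D.n ∣ C → D.m ∣ C → (∃ x : Matrix.ProjectiveSpecialLinearGroup (Fin 2) F, orderOf x = C) →
      False := fun {C} h1 h2 h3 => h.not_both h3 hs (hsn.trans h1) hsn ht (htm.trans h2) htm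
  have hgm : ∀ {C : ℕ}, D.m ∣ C → (D.m : ℤ) ∣ C := fun {C} h => Int.natCast_dvd_natCast.2 h
  have hodd2 : ∀ {a : ℤ}, (D.m : ℤ) ∣ 2 * a → (D.m : ℤ) ∣ a := fun {a} h => by
    have h1 : IsCoprime (D.m : ℤ) 2 := by
      have := Nat.isCoprime_iff_coprime.2 ((Nat.Prime.coprime_iff_not_dvd Nat.prime_two).2 D.m_odd).symm
      exact_mod_cast this
    exact h1.dvd_of_dvd_mul_left h
  rcases hon with hn | hn | hn
  · -- `n` is the characteristic
    have hnl : D.n = l := by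
      rcases (Nat.dvd_prime hlp').1 hn with h2 | h2
      · omega
      · exact h2
    -- `m` divides `A` or `B`
    obtain ⟨C, δ, hCx, hmC, hCu, hδ⟩ : ∃ (C : ℕ) (δ : ℤ), (∃ x : Matrix.ProjectiveSpecialLinearGroup (Fin 2) F, orderOf x = C) ∧
        D.m ∣ C ∧ (g : ℤ) * C = u + δ ∧ (δ = 1 ∨ δ = -1) := by
      rcases hom with h1 | h1 | h1
      · exact (hnm hn h1 hll).elim
      · refine ⟨A, -1, hu1, h1, ?_, Or.inr rfl⟩
        have : ((g * A + 1 : ℕ) : ℤ) = u := by rw [hA]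
        push_cast at this
        linarith only [hA]
      · refine ⟨B, 1, hu2, h1, ?_, Or.inl rfl⟩
        have : ((g * B : ℕ) : ℤ) = ((u + 1 : ℕ) : ℤ) := by rw [hB]
        push_cast at this
        linarith only [hB]
    have hf1 : (f : ℕ) = 1 := by
      by_contra hne
      have hf2 : 2 ≤ (f : ℕ) := by have := f.pos; omega
      have h1 : D.n ^ 2 ≤ u := by
        rw [hf, ← hnl]
        exact Nat.pow_le_pow_right (by omega) hf2
      have h2 : C ∣ D.e := h.dvd_e hCx ht (htm.trans hmC) htm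
      have he0 : 0 < D.e := Nat.pos_of_ne_zero fun h => D.e_odd (h ▸ dvd_zero _)
      have h3 := Nat.le_of_dvd he0 h2
      have h4 : (u : ℤ) ≤ 2 * C + 1 := by
        have hC0 : (0 : ℤ) ≤ C := by (clear * -; positivity)
        rcases hg with rfl | rfl <;> rcases hδ with rfl | rfl <;> push_cast at hCu <;> linarith only [hCu]
      have h5 : u ≤ 2 * C + 1 := by exact_mod_cast h4
      have h6 := sq_lt (D := D)
      (clear * - h1 h3 h4 h6; omega)
    have hun : u = D.n := by rw [hf, hf1, pow_one, hnl]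
    have h1 : (D.m : ℤ) ∣ 1 * D.n + δ := by
      rw [one_mul, ← hun, ← hCu]
      exact Dvd.dvd.mul_left (hgm hmC) _
    exact dead_one (D := D) one_pos hδ (Or.inl rfl) h1
  · -- `n = A`
    have hnA : D.n = A := Nat.dvd_antisymm hn (h.dvd_n hu1 hs (hsn.trans hn) hsn)
    have hA1 : (g : ℤ) * D.n + 1 = u := by
      rw [hnA]
      exact_mod_cast hA
    rcases hom with h1 | h1 | h1
    · have hml : D.m = l := by
        rcases (Nat.dvd_prime hlp').1 h1 with h2 | h2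
        · omega
        · exact h2
      have h2 : (D.m : ℤ) ∣ g * D.n + 1 := by
        rw [hA1]
        exact hgm (hml ▸ hlu)
      by_cases h19 : D.n = 19 ∧ g = 2
      · have h3 : u = 39 := by
          rw [h19.1, h19.2] at hA1
          have : (u : ℤ) = 39 := by rw [← hA1]; norm_num
          exact_mod_cast this
        have h5 : 3 ∣ l ^ (f : ℕ) := by
          rw [← hf, h3]
          norm_num
        have h6 := (Nat.prime_dvd_prime_iff_eq Nat.prime_three hlp').1 (Nat.prime_three.dvd_of_dvd_pow h5)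
        omega
      · rcases hg with rfl | rfl
        · exact dead_one (D := D) (A := 1) (B := 1) one_pos (Or.inl rfl) (Or.inl rfl) (by simpa only [_root_.one_mul, _root_.Nat.cast_one] using h2)
        · rcases Nat.lt_or_ge D.q 3 with hq | hq
          · have hsm := small D (by omega)
            have hm := D.hm
            have hq2 : D.q = 2 := by have := D.two_le; omega
            rw [hq2] at hsm hm
            norm_num at hm
            rw [hm] at h2
            simp only [_root_.Int.reduceNeg, _root_.List.mem_cons, _root_.Prod.mk.injEq, _root_.true_and, _root_.Nat.reduceEqDiff, _root_.false_and, _root_.List.not_mem_nil, _root_.or_self, _root_.or_false] at hsm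
            rcases hsm with ⟨-, -, h3⟩ | ⟨-, -, h3⟩
            · rw [h3] at h2
              norm_num at h2
            · exact h19 ⟨h3, rfl⟩
          · refine dead_one (D := D) (A := 2) (B := 1) two_pos (Or.inl rfl) (Or.inr ?_) (by simpa using h2)
            have : (3 : ℤ) ≤ D.q := by exact_mod_cast hq
            linarith only [hq]
    · exact (hnm hn h1 hu1).elim
    · have h2 : (D.m : ℤ) ∣ g * D.n + 2 := by
        have h3 : (g : ℤ) * B = g * D.n + 2 := by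
          have : ((g * B : ℕ) : ℤ) = ((u + 1 : ℕ) : ℤ) := by rw [hB]
          push_cast at this
          linarith only [hB, hA1]
        rw [← h3]
        exact Dvd.dvd.mul_left (hgm h1) _
      rcases hg with rfl | rfl
      · exact dead_two (D := D) (B := 2) (Or.inl rfl) (by simpa using h2)
      · refine dead_one (D := D) (A := 1) (B := 1) one_pos (Or.inl rfl) (Or.inl rfl) (hodd2 ?_)
        have : (2 : ℤ) * (1 * D.n + 1) = (2 : ℕ) * D.n + 2 := by push_cast; ring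
        rwa [this]
  · -- `n = B`
    have hnB : D.n = B := Nat.dvd_antisymm hn (h.dvd_n hu2 hs (hsn.trans hn) hsn)
    have hB1 : (g : ℤ) * D.n = u + 1 := by
      rw [hnB]
      exact_mod_cast hB
    rcases hom with h1 | h1 | h1
    · have hml : D.m = l := by
        rcases (Nat.dvd_prime hlp').1 h1 with h2 | h2
        · omega
        · exact h2
      have h2 : (D.m : ℤ) ∣ g * D.n + -1 := by
        rw [hB1]
        simpa using hgm (hml ▸ hlu)
      rcases hg with rfl | rfl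
      · exact dead_one (D := D) (A := 1) (B := -1) one_pos (Or.inr rfl) (Or.inl rfl) (by simpa using h2)
      · exact dead_AB (D := D) (A := 2) (B := -1) (by norm_num) (by norm_num) (by norm_num) (by decide) (by simpa using h2)
    · have h2 : (D.m : ℤ) ∣ g * D.n + -2 := by
        have h3 : (g : ℤ) * A = g * D.n + -2 := by
          have : ((g * A + 1 : ℕ) : ℤ) = u := by rw [hA]
          push_cast at this
          linarith only [hA, hB1]
        rw [← h3]
        exact Dvd.dvd.mul_left (hgm h1) _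
      rcases hg with rfl | rfl
      · exact dead_two (D := D) (B := -2) (Or.inr rfl) (by simpa only [_root_.one_mul, _root_.Int.reduceNeg, _root_.Nat.cast_one] using h2)
      · refine dead_one (D := D) (A := 1) (B := -1) one_pos (Or.inr rfl) (Or.inl rfl) (hodd2 ?_)
        have : (2 : ℤ) * (1 * D.n + -1) = (2 : ℕ) * D.n + -2 := by push_cast; ring
        rwa [this]
    · exact (hnm hn h1 hu2).elim

end psl2

section spor

variable {D : Dat}

theorem n_le_three (h : D.n ≤ 703) : D.q ≤ 3 := by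
  by_contra hcon
  push Not at hcon
  have h3 : (4 : ℤ) ≤ D.q := by exact_mod_cast hcon
  have h1 := three_n (D := D)
  have h5 : (64 : ℤ) ≤ (D.q : ℤ) ^ 3 := by
    calc (64 : ℤ) = 4 ^ 3 := by norm_num
      _ ≤ (D.q : ℤ) ^ 3 := pow_le_pow_left₀ (by norm_num) h3 3
  have h6 : (D.q : ℤ) ^ 6 = D.q ^ 3 * D.q ^ 3 := by ring
  have h7 : (D.n : ℤ) ≤ 703 := by exact_mod_cast h
  nlinarith only [h, h1, h5]

theorem coprime_r {r : ℕ} (hr : r.Prime) (h1 : r % 18 ≠ 1) (k : ℕ) : Nat.Coprime D.n (r ^ k) :=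
  Nat.Coprime.pow_right _ (Nat.Coprime.symm ((Nat.Prime.coprime_iff_not_dvd hr).2 fun hd => h1 (D.prime_n hr hd)))

theorem dvd_lcm (hd : D.n ∣ 2 ^ 46 * 3 ^ 20 * 5 ^ 9 * 7 ^ 6 * 11 ^ 3 * 13 ^ 3 * 17 ^ 1 * 23 ^ 1 * 29 ^ 1 *
    31 ^ 1 * 41 ^ 1 * 43 ^ 1 * 47 ^ 1 * 59 ^ 1 * 67 ^ 1 * 71 ^ 1 * 703) : D.n ∣ 703 := by
  refine Nat.Coprime.dvd_of_dvd_mul_left ?_ hd
  have c : ∀ {r : ℕ}, r.Prime → r % 18 ≠ 1 → ∀ k, Nat.Coprime D.n (r ^ k) := fun hr h1 k => coprime_r hr h1 k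
  exact ((((((((((((((((c (by norm_num) (by norm_num) _).mul_right (c (by norm_num) (by norm_num) _)).mul_right
    (c (by norm_num) (by norm_num) _)).mul_right (c (by norm_num) (by norm_num) _)).mul_right
    (c (by norm_num) (by norm_num) _)).mul_right (c (by norm_num) (by norm_num) _)).mul_right
    (c (by norm_num) (by norm_num) _)).mul_right (c (by norm_num) (by norm_num) _)).mul_right
    (c (by norm_num) (by norm_num) _)).mul_right (c (by norm_num) (by norm_num) _)).mul_right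
    (c (by norm_num) (by norm_num) _)).mul_right (c (by norm_num) (by norm_num) _)).mul_right
    (c (by norm_num) (by norm_num) _)).mul_right (c (by norm_num) (by norm_num) _)).mul_right
    (c (by norm_num) (by norm_num) _)).mul_right (c (by norm_num) (by norm_num) _))

theorem row_card {S : Type*} [Group S] [Finite S] (h : Sit D S) {N : ℕ} (hN : Nat.card S = N)
    (hd : N ∣ 2 ^ 46 * 3 ^ 20 * 5 ^ 9 * 7 ^ 6 * 11 ^ 3 * 13 ^ 3 * 17 ^ 1 * 23 ^ 1 * 29 ^ 1 *
      31 ^ 1 * 41 ^ 1 * 43 ^ 1 * 47 ^ 1 * 59 ^ 1 * 67 ^ 1 * 71 ^ 1 * 703)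
    (h2 : ¬ 703 ∣ N ∧ (¬ 13 ∣ N ∨ ¬ 17 ∣ N ∨ ¬ 19 ∣ N ∨ 31 ∣ N)) : False := by
  have hnN : D.n ∣ N := hN ▸ h.n_dvd_card
  have h3 : D.n ∣ 703 := dvd_lcm (hnN.trans hd)
  have h5 := Nat.le_of_dvd (by norm_num) h3
  have hq := n_le_three h5
  have hsm := small D (by omega)
  have hmN : D.m ∣ N := hN ▸ h.m_dvd_card
  have hm := D.m_add
  have ho8 := h.o8
  have hprm := h.prm
  obtain ⟨n, hn'⟩ : ∃ n, D.n = n := ⟨_, rfl⟩
  obtain ⟨m, hm'⟩ : ∃ m, D.m = m := ⟨_, rfl⟩
  rw [hn'] at hnN h3 hsm h5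
  rw [hm'] at hmN hm
  simp only [List.mem_cons, List.not_mem_nil, or_false, Prod.mk.injEq] at hsm
  rcases hsm with ⟨h6, h8, -, h7⟩ | ⟨h6, h8, -, h7⟩ | ⟨h6, -, -, h7⟩ | ⟨h6, -, -, h7⟩ | ⟨h6, -, -, h7⟩ |
    ⟨h6, -, -, h7⟩ | ⟨h6, -, -, h7⟩ | ⟨h6, -, -, h7⟩ | ⟨h6, -, -, h7⟩ | ⟨h6, -, -, h7⟩ | ⟨h6, -, -, h7⟩ |
    ⟨h6, -, -, h7⟩ |
        ⟨h6, -, -, h7⟩ | ⟨h6, -, -, h7⟩
  · rw [h7] at h3; norm_num at h3
  · -- `²E₆(2)`
    rw [h6] at hm ho8 hprm
    rw [h8] at hprm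
    have hm13 : m = 13 := by omega
    rw [hm13] at hmN
    rw [h7] at hnN
    obtain ⟨x, hx⟩ := ho8 (by norm_num)
    have h17 : 17 ∣ N := by
      rw [← hN]
      have := orderOf_dvd_natCard x
      rw [hx] at this
      exact this
    rcases h2.2 with h2 | h2 | h2 | h2
    · exact h2 hmN
    · exact h2 h17
    · exact h2 hnN
    · have h9 := hprm 31 (by norm_num) (hN ▸ h2)
      norm_num at h9
  · rw [h7] at h3; norm_num at h3
  · exact h2.1 (h7 ▸ hnN)
  all_goals omega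

/-- **Row: the Tits group.** -/
theorem row_tits {S : Type*} [Group S] [Finite S] (h : Sit D S) (hS : Lie.IsoTits S) : False :=
  row_card h (Orders.tits hS) (by decide +kernel) (by decide +kernel)

/-- **Row: the sporadic groups.** -/
theorem row_spor {S : Type*} [Group S] [Finite S] (h : Sit D S) (hS : IsSporadicGroup S) : False := by
  rcases hS with hS | hS | hS | hS | hS | hS | hS | hS | hS | hS | hS | hS | hS | hS | hS | hS | hS | hS | hS | hS | hS | hS |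
    hS | hS | hS | hS
  · exact row_card h (Orders.m11 hS) (by decide +kernel) (by decide +kernel)
  · exact row_card h (Orders.m12 hS) (by decide +kernel) (by decide +kernel)
  · exact row_card h (Orders.m22 hS) (by decide +kernel) (by decide +kernel)
  · exact row_card h (Orders.m23 hS) (by decide +kernel) (by decide +kernel)
  · exact row_card h (Orders.m24 hS) (by decide +kernel) (by decide +kernel)
  · exact row_card h (Orders.j1 hS) (by decide +kernel) (by decide +kernel)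
  · exact row_card h (Orders.j2 hS) (by decide +kernel) (by decide +kernel)
  · exact row_card h (Orders.j3 hS) (by decide +kernel) (by decide +kernel)
  · exact row_card h (Orders.j4 hS) (by decide +kernel) (by decide +kernel)
  · exact row_card h (Orders.co1 hS) (by decide +kernel) (by decide +kernel)
  · exact row_card h (Orders.co2 hS) (by decide +kernel) (by decide +kernel)
  · exact row_card h (Orders.co3 hS) (by decide +kernel) (by decide +kernel)
  · exact row_card h (Orders.mcl hS) (by decide +kernel) (by decide +kernel)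
  · exact row_card h (Orders.hs hS) (by decide +kernel) (by decide +kernel)
  · exact row_card h (Orders.suz hS) (by decide +kernel) (by decide +kernel)
  · exact row_card h (Orders.he hS) (by decide +kernel) (by decide +kernel)
  · exact row_card h (Orders.ru hS) (by decide +kernel) (by decide +kernel)
  · exact row_card h (Orders.on hS) (by decide +kernel) (by decide +kernel)
  · exact row_card h (Orders.ly hS) (by decide +kernel) (by decide +kernel)
  · exact row_card h (Orders.fi22 hS) (by decide +kernel) (by decide +kernel)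
  · exact row_card h (Orders.fi23 hS) (by decide +kernel) (by decide +kernel)
  · exact row_card h (Orders.fi24 hS) (by decide +kernel) (by decide +kernel)
  · exact row_card h (Orders.hn hS) (by decide +kernel) (by decide +kernel)
  · exact row_card h (Orders.th hS) (by decide +kernel) (by decide +kernel)
  · exact row_card h (Orders.b hS) (by decide +kernel) (by decide +kernel)
  · exact row_card h (Orders.m hS) (by decide +kernel) (by decide +kernel)

end spor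

end Cfsg.Agent.R2.Spec.X1.E6.I9
end

-- part: R2/Spec/X1/E6/ERE8
section
/-!
# Identification of `E₆(q)`, `²E₆(q)`: the rows of `E₇(u)`, `E₈(u)` (helper77, statements S3480, S3481)
-/

set_option autoImplicit false
set_option linter.unusedSectionVars false

namespace Cfsg.Agent.R2.Spec.X1.E6.ERE8

open Cfsg Cfsg.Lie
open Cfsg.Agent.R2.Spec.X1.E6 Cfsg.Agent.H129 Cfsg.Agent.H129.CycT Cfsg.Agent.R2.Spec.X1.E6.ERBase Cfsg.Agent.R2.Spec.X1.E6.ERF4
open Cfsg.Agent.R2.Spec.X1.E6.ERSz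
open Cfsg.Agent.H378.ExcAdj Cfsg.Agent.H378.CycTab Cfsg.Agent.H72.F4I

universe u

/-! ### the polynomials -/

/-- `Φ₁₅` -/
def P15 (v : ℤ) : ℤ := 1 - v + v ^ 3 - v ^ 4 + v ^ 5 - v ^ 7 + v ^ 8
/-- `Φ₂₀` -/
def P20 (v : ℤ) : ℤ := 1 - v ^ 2 + v ^ 4 - v ^ 6 + v ^ 8
/-- `Φ₂₄` -/
def P24 (v : ℤ) : ℤ := 1 - v ^ 4 + v ^ 8
/-- `Φ₃₀` -/
def P30 (v : ℤ) : ℤ := 1 + v - v ^ 3 - v ^ 4 - v ^ 5 + v ^ 7 + v ^ 8
/-- `Φ₂₀ - Φ₁₅` -/
def X1 (v : ℤ) : ℤ := v * (v ^ 2 - 1) ^ 2 * (v ^ 2 - v + 1)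
/-- `Φ₂₄ - Φ₁₅` -/
def X2 (v : ℤ) : ℤ := v * (v ^ 2 - 1) ^ 2 * (v ^ 2 + 1)
/-- `Φ₃₀ - Φ₂₀` -/
def X3 (v : ℤ) : ℤ := v * (v ^ 2 - 1) ^ 2 * (v ^ 2 + v + 1)
/-- `q (q² - 1)²` -/
def Q5 (q : ℤ) : ℤ := q * (q ^ 2 - 1) ^ 2

theorem le_p {v : ℤ} (hv : 3 ≤ v) : 542 * P30 v ≤ 1000 * P15 v := by
  obtain ⟨w, rfl⟩ : ∃ w : ℕ, v = (w : ℤ) + 3 := ⟨(v - 3).toNat, by omega⟩
  have h : 1000 * P15 ((w : ℤ) + 3) - 542 * P30 ((w : ℤ) + 3) =
      7658 + 759480 * (w : ℤ) + 1885356 * (w : ℤ) ^ 2 + 1995720 * (w : ℤ) ^ 3 + 1162342 * (w : ℤ) ^ 4 + 402600 * (w : ℤ) ^ 5 + 83034 * (w : ℤ) ^ 6 + 9450 * (w : ℤ) ^ 7 + 458 * (w : ℤ) ^ 8 := by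
    rw [P15, P30]
    ring
  have h' : (0 : ℤ) < 7658 + 759480 * (w : ℤ) + 1885356 * (w : ℤ) ^ 2 + 1995720 * (w : ℤ) ^ 3 + 1162342 * (w : ℤ) ^ 4 + 402600 * (w : ℤ) ^ 5 + 83034 * (w : ℤ) ^ 6 + 9450 * (w : ℤ) ^ 7 + 458 * (w : ℤ) ^ 8 := by (clear * -; positivity)
  linarith

theorem le_15 {v : ℤ} (hv : 3 ≤ v) : P15 v ≤ P20 v := by
  obtain ⟨w, rfl⟩ : ∃ w : ℕ, v = (w : ℤ) + 3 := ⟨(v - 3).toNat, by omega⟩
  have h : P20 ((w : ℤ) + 3) - P15 ((w : ℤ) + 3) =
      1344 + 3424 * (w : ℤ) + 3716 * (w : ℤ) ^ 2 + 2228 * (w : ℤ) ^ 3 + 797 * (w : ℤ) ^ 4 + 170 * (w : ℤ) ^ 5 + 20 * (w : ℤ) ^ 6 + 1 * (w : ℤ) ^ 7 := by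
    rw [P15, P20]
    ring
  have h' : (0 : ℤ) < 1344 + 3424 * (w : ℤ) + 3716 * (w : ℤ) ^ 2 + 2228 * (w : ℤ) ^ 3 + 797 * (w : ℤ) ^ 4 + 170 * (w : ℤ) ^ 5 + 20 * (w : ℤ) ^ 6 + 1 * (w : ℤ) ^ 7 := by (clear * -; positivity)
  linarith

theorem le_20 {v : ℤ} (hv : 3 ≤ v) : P20 v ≤ P24 v := by
  obtain ⟨w, rfl⟩ : ∃ w : ℕ, v = (w : ℤ) + 3 := ⟨(v - 3).toNat, by omega⟩
  have h : P24 ((w : ℤ) + 3) - P20 ((w : ℤ) + 3) =
      576 + 1248 * (w : ℤ) + 1108 * (w : ℤ) ^ 2 + 516 * (w : ℤ) ^ 3 + 133 * (w : ℤ) ^ 4 + 18 * (w : ℤ) ^ 5 + 1 * (w : ℤ) ^ 6 := by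
    rw [P20, P24]
    ring
  have h' : (0 : ℤ) < 576 + 1248 * (w : ℤ) + 1108 * (w : ℤ) ^ 2 + 516 * (w : ℤ) ^ 3 + 133 * (w : ℤ) ^ 4 + 18 * (w : ℤ) ^ 5 + 1 * (w : ℤ) ^ 6 := by (clear * -; positivity)
  linarith

theorem le_24 {v : ℤ} (hv : 3 ≤ v) : P24 v ≤ P30 v := by
  obtain ⟨w, rfl⟩ : ∃ w : ℕ, v = (w : ℤ) + 3 := ⟨(v - 3).toNat, by omega⟩
  have h : P30 ((w : ℤ) + 3) - P24 ((w : ℤ) + 3) =
      1920 + 4672 * (w : ℤ) + 4824 * (w : ℤ) ^ 2 + 2744 * (w : ℤ) ^ 3 + 930 * (w : ℤ) ^ 4 + 188 * (w : ℤ) ^ 5 + 21 * (w : ℤ) ^ 6 + 1 * (w : ℤ) ^ 7 := by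
    rw [P24, P30]
    ring
  have h' : (0 : ℤ) < 1920 + 4672 * (w : ℤ) + 4824 * (w : ℤ) ^ 2 + 2744 * (w : ℤ) ^ 3 + 930 * (w : ℤ) ^ 4 + 188 * (w : ℤ) ^ 5 + 21 * (w : ℤ) ^ 6 + 1 * (w : ℤ) ^ 7 := by (clear * -; positivity)
  linarith

theorem lt_X {v : ℤ} (hv : 3 ≤ v) : (v + 1) * v ^ 2 * (v + 2) ^ 2 < X1 v := by
  obtain ⟨w, rfl⟩ : ∃ w : ℕ, v = (w : ℤ) + 3 := ⟨(v - 3).toNat, by omega⟩
  have h : X1 ((w : ℤ) + 3) - ((w : ℤ) + 3 + 1) * ((w : ℤ) + 3) ^ 2 * ((w : ℤ) + 3 + 2) ^ 2 =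
      444 + 2239 * (w : ℤ) + 3100 * (w : ℤ) ^ 2 + 2070 * (w : ℤ) ^ 3 + 777 * (w : ℤ) ^ 4 + 169 * (w : ℤ) ^ 5 + 20 * (w : ℤ) ^ 6 + 1 * (w : ℤ) ^ 7 := by
    rw [X1]
    ring
  have h' : (0 : ℤ) < 444 + 2239 * (w : ℤ) + 3100 * (w : ℤ) ^ 2 + 2070 * (w : ℤ) ^ 3 + 777 * (w : ℤ) ^ 4 + 169 * (w : ℤ) ^ 5 + 20 * (w : ℤ) ^ 6 + 1 * (w : ℤ) ^ 7 := by (clear * -; positivity)
  linarith

theorem le_a {v : ℤ} (hv : 3 ≤ v) : P20 v ≤ (v + 2) * X1 v := by
  obtain ⟨w, rfl⟩ : ∃ w : ℕ, v = (w : ℤ) + 3 := ⟨(v - 3).toNat, by omega⟩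
  have h : ((w : ℤ) + 3 + 2) * X1 ((w : ℤ) + 3) - P20 ((w : ℤ) + 3) =
      815 + 2324 * (w : ℤ) + 2754 * (w : ℤ) ^ 2 + 1776 * (w : ℤ) ^ 3 + 677 * (w : ℤ) ^ 4 + 153 * (w : ℤ) ^ 5 + 19 * (w : ℤ) ^ 6 + 1 * (w : ℤ) ^ 7 := by
    rw [X1, P20]
    ring
  have h' : (0 : ℤ) < 815 + 2324 * (w : ℤ) + 2754 * (w : ℤ) ^ 2 + 1776 * (w : ℤ) ^ 3 + 677 * (w : ℤ) ^ 4 + 153 * (w : ℤ) ^ 5 + 19 * (w : ℤ) ^ 6 + 1 * (w : ℤ) ^ 7 := by (clear * -; positivity)
  linarith

theorem le_b {v : ℤ} (hv : 3 ≤ v) : P30 v ≤ (v + 2) * X2 v := by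
  obtain ⟨w, rfl⟩ : ∃ w : ℕ, v = (w : ℤ) + 3 := ⟨(v - 3).toNat, by omega⟩
  have h : ((w : ℤ) + 3 + 2) * X2 ((w : ℤ) + 3) - P30 ((w : ℤ) + 3) =
      1199 + 3220 * (w : ℤ) + 3610 * (w : ℤ) ^ 2 + 2204 * (w : ℤ) ^ 3 + 795 * (w : ℤ) ^ 4 + 170 * (w : ℤ) ^ 5 + 20 * (w : ℤ) ^ 6 + 1 * (w : ℤ) ^ 7 := by
    rw [X2, P30]
    ring
  have h' : (0 : ℤ) < 1199 + 3220 * (w : ℤ) + 3610 * (w : ℤ) ^ 2 + 2204 * (w : ℤ) ^ 3 + 795 * (w : ℤ) ^ 4 + 170 * (w : ℤ) ^ 5 + 20 * (w : ℤ) ^ 6 + 1 * (w : ℤ) ^ 7 := by (clear * -; positivity)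
  linarith

theorem le_X2 {v : ℤ} (hv : 3 ≤ v) : X1 v ≤ X2 v := by
  obtain ⟨w, rfl⟩ : ∃ w : ℕ, v = (w : ℤ) + 3 := ⟨(v - 3).toNat, by omega⟩
  have h : X2 ((w : ℤ) + 3) - X1 ((w : ℤ) + 3) =
      576 + 1248 * (w : ℤ) + 1108 * (w : ℤ) ^ 2 + 516 * (w : ℤ) ^ 3 + 133 * (w : ℤ) ^ 4 + 18 * (w : ℤ) ^ 5 + 1 * (w : ℤ) ^ 6 := by
    rw [X1, X2]
    ring
  have h' : (0 : ℤ) < 576 + 1248 * (w : ℤ) + 1108 * (w : ℤ) ^ 2 + 516 * (w : ℤ) ^ 3 + 133 * (w : ℤ) ^ 4 + 18 * (w : ℤ) ^ 5 + 1 * (w : ℤ) ^ 6 := by (clear * -; positivity)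
  linarith

theorem le_X3 {v : ℤ} (hv : 3 ≤ v) : X2 v ≤ X3 v := by
  obtain ⟨w, rfl⟩ : ∃ w : ℕ, v = (w : ℤ) + 3 := ⟨(v - 3).toNat, by omega⟩
  have h : X3 ((w : ℤ) + 3) - X2 ((w : ℤ) + 3) =
      576 + 1248 * (w : ℤ) + 1108 * (w : ℤ) ^ 2 + 516 * (w : ℤ) ^ 3 + 133 * (w : ℤ) ^ 4 + 18 * (w : ℤ) ^ 5 + 1 * (w : ℤ) ^ 6 := by
    rw [X2, X3]
    ring
  have h' : (0 : ℤ) < 576 + 1248 * (w : ℤ) + 1108 * (w : ℤ) ^ 2 + 516 * (w : ℤ) ^ 3 + 133 * (w : ℤ) ^ 4 + 18 * (w : ℤ) ^ 5 + 1 * (w : ℤ) ^ 6 := by (clear * -; positivity)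
  linarith

theorem q_one {v : ℤ} (hv : 3 ≤ v) : 1000 * Q5 v < 626 * (v ^ 6 - v ^ 3 + 1) := by
  obtain ⟨w, rfl⟩ : ∃ w : ℕ, v = (w : ℤ) + 3 := ⟨(v - 3).toNat, by omega⟩
  have h : 626 * (((w : ℤ) + 3) ^ 6 - ((w : ℤ) + 3) ^ 3 + 1) - 1000 * Q5 ((w : ℤ) + 3) =
      248078 + 543806 * (w : ℤ) + 502956 * (w : ℤ) ^ 2 + 249414 * (w : ℤ) ^ 3 + 69510 * (w : ℤ) ^ 4 + 10268 * (w : ℤ) ^ 5 + 626 * (w : ℤ) ^ 6 := by
    rw [Q5]
    ring
  have h' : (0 : ℤ) < 248078 + 543806 * (w : ℤ) + 502956 * (w : ℤ) ^ 2 + 249414 * (w : ℤ) ^ 3 + 69510 * (w : ℤ) ^ 4 + 10268 * (w : ℤ) ^ 5 + 626 * (w : ℤ) ^ 6 := by (clear * -; positivity)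
  linarith

theorem q_two {v : ℤ} (hv : 4 ≤ v) : 1626 * Q5 v < 626 * (v ^ 6 - v ^ 3 + 1) := by
  obtain ⟨w, rfl⟩ : ∃ w : ℕ, v = (w : ℤ) + 4 := ⟨(v - 4).toNat, by omega⟩
  have h : 626 * (((w : ℤ) + 4) ^ 6 - ((w : ℤ) + 4) ^ 3 + 1) - 1626 * Q5 ((w : ℤ) + 4) =
      1061258 + 1889286 * (w : ℤ) + 1394712 * (w : ℤ) ^ 2 + 543746 * (w : ℤ) ^ 3 + 117720 * (w : ℤ) ^ 4 + 13398 * (w : ℤ) ^ 5 + 626 * (w : ℤ) ^ 6 := by
    rw [Q5]
    ring
  have h' : (0 : ℤ) < 1061258 + 1889286 * (w : ℤ) + 1394712 * (w : ℤ) ^ 2 + 543746 * (w : ℤ) ^ 3 + 117720 * (w : ℤ) ^ 4 + 13398 * (w : ℤ) ^ 5 + 626 * (w : ℤ) ^ 6 := by (clear * -; positivity)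
  linarith

theorem q_three {v : ℤ} (hv : 4 ≤ v) : 3000 * Q5 v < 794 * (v ^ 6 - v ^ 3 + 1) := by
  obtain ⟨w, rfl⟩ : ∃ w : ℕ, v = (w : ℤ) + 4 := ⟨(v - 4).toNat, by omega⟩
  have h : 794 * (((w : ℤ) + 4) ^ 6 - ((w : ℤ) + 4) ^ 3 + 1) - 3000 * Q5 ((w : ℤ) + 4) =
      502202 + 1285224 * (w : ℤ) + 1191432 * (w : ℤ) ^ 2 + 541526 * (w : ℤ) ^ 3 + 130560 * (w : ℤ) ^ 4 + 16056 * (w : ℤ) ^ 5 + 794 * (w : ℤ) ^ 6 := by
    rw [Q5]
    ring
  have h' : (0 : ℤ) < 502202 + 1285224 * (w : ℤ) + 1191432 * (w : ℤ) ^ 2 + 541526 * (w : ℤ) ^ 3 + 130560 * (w : ℤ) ^ 4 + 16056 * (w : ℤ) ^ 5 + 794 * (w : ℤ) ^ 6 := by (clear * -; positivity)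
  linarith

theorem p_ge {v : ℤ} (hv : 3 ≤ v) : 4560 < P15 v := by
  obtain ⟨w, rfl⟩ : ∃ w : ℕ, v = (w : ℤ) + 3 := ⟨(v - 3).toNat, by omega⟩
  have h : P15 ((w : ℤ) + 3) - 4560 =
      1 + 12716 * (w : ℤ) + 15534 * (w : ℤ) ^ 2 + 10852 * (w : ℤ) ^ 3 + 4739 * (w : ℤ) ^ 4 + 1324 * (w : ℤ) ^ 5 + 231 * (w : ℤ) ^ 6 + 23 * (w : ℤ) ^ 7 + 1 * (w : ℤ) ^ 8 := by
    rw [P15]
    ring
  have h' : (0 : ℤ) < 1 + 12716 * (w : ℤ) + 15534 * (w : ℤ) ^ 2 + 10852 * (w : ℤ) ^ 3 + 4739 * (w : ℤ) ^ 4 + 1324 * (w : ℤ) ^ 5 + 231 * (w : ℤ) ^ 6 + 23 * (w : ℤ) ^ 7 + 1 * (w : ℤ) ^ 8 := by (clear * -; positivity)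
  linarith

/-! ### the equations -/

/-- the difference is large -/
theorem core {v q d ε n X : ℤ} (hv : 3 ≤ v) (hq : 3 ≤ q) (hd : 1 ≤ d) (hε : ε = 1 ∨ ε = -1)
    (hX1 : X1 v ≤ X) (hX2 : n ≤ (v + 2) * X) (h : d * X = Q5 q) (hn : d * n = q ^ 6 + ε * q ^ 3 + 1) : False := by
  have hX0 : 0 ≤ X := by
    refine le_trans ?_ hX1
    rw [X1]
    have : 0 ≤ v ^ 2 - v + 1 := by nlinarith only []
    (clear * - hv this; positivity)
  have h1 : v + 2 ≤ q := by
    by_contra hc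
    have h2 : q ≤ v + 1 := by omega
    have h3 : q ^ 2 - 1 ≤ v * (v + 2) := by nlinarith only [hq, hc]
    have h4 : 0 ≤ q ^ 2 - 1 := by nlinarith only [hq]
    have h5 : (q ^ 2 - 1) ^ 2 ≤ (v * (v + 2)) ^ 2 := pow_le_pow_left₀ h4 h3 2
    have h6 : Q5 q ≤ (v + 1) * (v * (v + 2)) ^ 2 := by
      rw [Q5]
      exact mul_le_mul h2 h5 (sq_nonneg _) (by linarith)
    have h7 : (v + 1) * (v * (v + 2)) ^ 2 = (v + 1) * v ^ 2 * (v + 2) ^ 2 := by ring
    have h8 := lt_X hv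
    have h9 : X ≤ d * X := by nlinarith only [hd, hX0]
    linarith
  have h2 : d * n ≤ d * ((v + 2) * X) := mul_le_mul_of_nonneg_left hX2 (by linarith)
  have h3 : d * ((v + 2) * X) = (v + 2) * Q5 q := by rw [← h]; ring
  have hQ : 0 ≤ Q5 q := by rw [← h]; positivity
  have h4 : (v + 2) * Q5 q ≤ q * Q5 q := mul_le_mul_of_nonneg_right h1 hQ
  have h5 : q * Q5 q = q ^ 6 - 2 * q ^ 4 + q ^ 2 := by rw [Q5]; ring
  have h6 : q ^ 3 * 3 ≤ q ^ 4 := by
    have : q ^ 4 = q ^ 3 * q := by ring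
    rw [this]
    exact mul_le_mul_of_nonneg_left hq (by positivity)
  have h7 : q ^ 2 * 3 ≤ q ^ 3 := by
    have : q ^ 3 = q ^ 2 * q := by ring
    rw [this]
    exact mul_le_mul_of_nonneg_left hq (by positivity)
  have h8 : 0 ≤ q ^ 2 := sq_nonneg _
  rcases hε with rfl | rfl <;> linarith

/-- the difference is small -/
theorem core' {v q d ε n : ℤ} (hv : 3 ≤ v) (hq : 3 ≤ q) (hd : 1 ≤ d) (hd3 : d ≤ 3) (hε : ε = 1 ∨ ε = -1)
    (hn20 : P20 v ≤ n) (h : d * (v ^ 2 * (v ^ 2 - 1) ^ 2) = Q5 q) (hn : d * n = q ^ 6 + ε * q ^ 3 + 1) : False := by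
  obtain ⟨r, hr⟩ : ∃ r, r = v ^ 2 := ⟨_, rfl⟩
  have hr9 : 9 ≤ r := by rw [hr]; nlinarith only [hv]
  rw [← hr] at h
  have h1 : q + 1 ≤ r := by
    by_contra hc
    have h2 : r ≤ q := by omega
    have h3 : (r - 1) ^ 2 ≤ (q - 1) ^ 2 := pow_le_pow_left₀ (by linarith) (by linarith) 2
    have h4 : r * (r - 1) ^ 2 ≤ q * (q - 1) ^ 2 := mul_le_mul h2 h3 (sq_nonneg _) (by linarith)
    have h5 : d * (r * (r - 1) ^ 2) ≤ 3 * (q * (q - 1) ^ 2) := by
      calc d * (r * (r - 1) ^ 2) ≤ 3 * (r * (r - 1) ^ 2) := mul_le_mul_of_nonneg_right hd3 (by (clear * - hr9; positivity))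
        _ ≤ _ := mul_le_mul_of_nonneg_left h4 (by norm_num)
    have h6 : Q5 q = (q + 1) ^ 2 * (q * (q - 1) ^ 2) := by rw [Q5]; ring
    have h7 : 0 < q * (q - 1) ^ 2 := by
      have : 0 < q - 1 := by linarith
      positivity
    have h8 : 16 * (q * (q - 1) ^ 2) ≤ (q + 1) ^ 2 * (q * (q - 1) ^ 2) :=
      mul_le_mul_of_nonneg_right (by linarith only [hr9, hc, _root_.sq_nonneg (q - 1 : ℤ)]) h7.le
    linarith
  have hP : P20 v = r * (r - 1) ^ 2 * (r + 1) + (2 * r * (r - 1) + 1) := by rw [P20, hr]; ring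
  have hQ : 0 ≤ Q5 q := by rw [Q5]; (clear * - hq; positivity)
  have h2 : (q + 2) * Q5 q ≤ (r + 1) * Q5 q := mul_le_mul_of_nonneg_right (by linarith) hQ
  have h3 : d * P20 v = (r + 1) * Q5 q + d * (2 * r * (r - 1) + 1) := by rw [hP, ← h]; ring
  have h4 : d * P20 v ≤ d * n := mul_le_mul_of_nonneg_left hn20 (by linarith)
  have h5 : 1 ≤ d * (2 * r * (r - 1) + 1) := by
    have : 1 ≤ 2 * r * (r - 1) + 1 := by linarith only [hr9, _root_.sq_nonneg (r - 1 : ℤ)]
    nlinarith only [hd, hr9, _root_.sq_nonneg (r - 1 : ℤ), _root_.sq_nonneg (v : ℤ)]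
  have h6 : (q + 2) * Q5 q = q ^ 6 + 2 * q ^ 5 - 2 * q ^ 4 - 4 * q ^ 3 + q ^ 2 + 2 * q := by rw [Q5]; ring
  have h7 : q ^ 4 * 3 ≤ q ^ 5 := by
    have : q ^ 5 = q ^ 4 * q := by ring
    rw [this]
    exact mul_le_mul_of_nonneg_left hq (by positivity)
  have h8 : q ^ 3 * 3 ≤ q ^ 4 := by
    have : q ^ 4 = q ^ 3 * q := by ring
    rw [this]
    exact mul_le_mul_of_nonneg_left hq (by positivity)
  have h9 : 0 ≤ q ^ 3 := by positivity
  have h10 : 0 ≤ q ^ 2 := by positivity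
  rcases hε with rfl | rfl <;> linarith

theorem not_five {x ε : ℤ} (hε : ε = 1 ∨ ε = -1) : ¬ (5 : ℤ) ∣ x ^ 2 + ε * x + 1 := by
  intro h
  obtain ⟨k, hk⟩ : ∃ k : ℤ, x = 5 * k ∨ x = 5 * k + 1 ∨ x = 5 * k + 2 ∨ x = 5 * k + 3 ∨ x = 5 * k + 4 :=
    ⟨x / 5, by omega⟩
  rcases hε with rfl | rfl <;> rcases hk with rfl | rfl | rfl | rfl | rfl <;> ring_nf at h <;> (clear * - h; omega)

/-- **The numbers.** -/
theorem num {D : Dat} {v a : ℕ} (hv : 2 ≤ v)
    (hn : (D.n : ℤ) = P15 v ∨ (D.n : ℤ) = P20 v ∨ (D.n : ℤ) = P24 v ∨ (D.n : ℤ) = P30 v)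
    (ha : (a : ℤ) = P15 v ∨ (a : ℤ) = P20 v ∨ (a : ℤ) = P24 v ∨ (a : ℤ) = P30 v) (hm : D.m ∣ a)
    (he : a ∣ D.e) : False := by
  have hne := mne hm
  have hne' : (a : ℤ) ≠ D.n := by exact_mod_cast hne
  -- `3 ≤ v`, `3 ≤ q`
  have hv3 : 3 ≤ v := by
    by_contra hc
    obtain rfl : v = 2 := by omega
    have h1 : D.n = 151 ∨ D.n = 205 ∨ D.n = 241 ∨ D.n = 331 := by
      rw [P15, P20, P24, P30] at hn
      norm_num at hn
      omega
    by_cases hq : D.q < 8
    · rcases tab D hq with h | h | h | h | h | h | h | h | h | h <;> omega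
    · have := n_ge (D := D) (by omega)
      omega
  have hvz : (3 : ℤ) ≤ v := by exact_mod_cast hv3
  have l1 := le_15 hvz
  have l2 := le_20 hvz
  have l3 := le_24 hvz
  have l4 := le_p hvz
  have hn15 : P15 v ≤ D.n := by rcases hn with h | h | h | h <;> linarith only [h, l1, l2, l3]
  have hn30 : (D.n : ℤ) ≤ P30 v := by rcases hn with h | h | h | h <;> linarith only [l1, l2, l3, h]
  have ha15 : P15 v ≤ a := by rcases ha with h | h | h | h <;> linarith only [h, l1, l2, l3]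
  have ha30 : (a : ℤ) ≤ P30 v := by rcases ha with h | h | h | h <;> linarith only [l1, l2, l3, h]
  have h4561 := p_ge hvz
  have hq5 : 5 ≤ D.q := by
    by_contra hc
    rcases tab D (by omega) with h | h | h | h | h | h | h | h | h | h <;> (clear * - l4 hn15 hn30 h4561 h hc; omega)
  have hqz : (5 : ℤ) ≤ D.q := by exact_mod_cast hq5
  obtain ⟨l, hl⟩ := he
  have hlz : (l : ℤ) * a = D.d * D.n + D.ε * Q5 D.q := by
    have h1 : (D.e : ℤ) = a * l := by exact_mod_cast hl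
    have h2 : (l : ℤ) * a = D.e := by rw [h1]; ring
    rw [h2, D.he, D.hm, D.hn, Q5]
    have h3 := D.eps_sq
    ring
  have hl2 : l % 2 = 1 := by
    by_contra hc
    have h1 : 2 ∣ l := by omega
    exact D.e_odd (hl ▸ h1.mul_left _)
  have hQ : 0 ≤ Q5 D.q := by rw [Q5]; (clear * - hq5; positivity)
  have hεQ : D.ε * Q5 D.q ≤ Q5 D.q := by rcases D.eps with h | h <;> rw [h] <;> linarith only [hQ]
  have hεQ' : -Q5 D.q ≤ D.ε * Q5 D.q := by rcases D.eps with h | h <;> rw [h] <;> linarith only [hQ]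
  have hN := D.hn
  have hNge : (D.q : ℤ) ^ 6 - (D.q : ℤ) ^ 3 + 1 ≤ D.d * D.n := by
    have : 0 ≤ (D.q : ℤ) ^ 3 := by positivity
    rw [hN]
    rcases D.eps with h | h <;> rw [h] <;> linarith only [this]
  have hla : ∀ c : ℤ, c ≤ l → c * a ≤ l * a := fun c hc => mul_le_mul_of_nonneg_right hc (by (clear * -; positivity))
  have key : l = D.d := by
    rcases D.hd with hd | hd
    · rw [hd] at hlz hNge ⊢
      push_cast at hlz hNge
      by_contra hc
      have h1 := hla 3 (by omega)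
      have h2 := q_one (v := D.q) (by linarith only [hq5])
      linarith only [l4, hn30, ha15, hεQ, hlz, hNge, h1, h2]
    · rw [hd] at hlz hNge ⊢
      push_cast at hlz hNge
      by_contra hc
      have h3 : l = 1 ∨ l = 5 ∨ 7 ≤ l := by (clear * - hl2 hc; omega)
      rcases h3 with rfl | rfl | h3
      · have h2 := q_two (v := D.q) (by linarith only [hq5])
        push_cast at hlz
        linarith only [l4, hn15, ha30, hεQ', hNge, h2, hlz]
      · exfalso
        have h5 : 5 ∣ D.e := hl ▸ Dvd.intro_left _ rfl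
        have h6 : (5 : ℤ) ∣ ((D.q : ℤ) ^ 2 + D.ε * D.q + 1) * D.m := by
          rw [← D.he]
          exact_mod_cast h5
        have hp5 : Prime (5 : ℤ) := Nat.prime_iff_prime_int.1 Nat.prime_five
        rcases hp5.dvd_mul.1 h6 with h7 | h7
        · exact not_five D.eps h7
        · have h8 : 5 ∣ D.m := by exact_mod_cast h7
          have := D.prime_m Nat.prime_five h8
          omega
      · have h1 := hla 7 (by exact_mod_cast h3)
        have h2 := q_three (v := D.q) (by linarith only [hq5])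
        linarith only [l4, hn30, ha15, hlz, hεQ, hNge, h1, h2]
  rw [key] at hlz
  have hd1 := d_ge D
  have habs : (D.d : ℤ) * |(a : ℤ) - D.n| = Q5 D.q := by
    have h1 : (D.d : ℤ) * (a - D.n) = D.ε * Q5 D.q := by linarith only [hlz]
    have h2 : |(D.d : ℤ) * (a - D.n)| = |D.ε * Q5 D.q| := by rw [h1]
    rw [abs_mul, abs_mul, D.eps_abs, one_mul, abs_of_nonneg hQ, abs_of_nonneg (by linarith only [hd1] : (0 : ℤ) ≤ D.d)] at h2
    exact h2
  have hX2 := le_X2 hvz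
  have hX3 := le_X3 hvz
  have hXb := le_b hvz
  have hXa := le_a hvz
  have hv2 : (0 : ℤ) ≤ v + 2 := by linarith only [hv3]
  have hX0 : 0 ≤ X2 v := by rw [X2]; (clear * - hv; positivity)
  have big : X2 v ≤ |(a : ℤ) - D.n| → False := fun h =>
    core hvz (by linarith only [hq5]) hd1 D.eps (hX2.trans h)
      (hn30.trans (hXb.trans (mul_le_mul_of_nonneg_left h hv2))) habs hN
  have mid : |(a : ℤ) - D.n| = X1 v → (D.n : ℤ) ≤ P20 v → False := fun h h' =>
    core hvz (by linarith only [hq5]) hd1 D.eps h.ge (by rw [h]; exact h'.trans hXa) habs hN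
  have small : |(a : ℤ) - D.n| = v ^ 2 * (v ^ 2 - 1) ^ 2 → P20 v ≤ D.n → False := fun h h' =>
    core' hvz (by linarith only [hq5]) hd1 (d_le D) D.eps h' (h ▸ habs) hN
  have e1 : P20 v - P15 v = X1 v := by rw [P20, P15, X1]; ring
  have e2 : P24 v - P15 v = X2 v := by rw [P24, P15, X2]; ring
  have e3 : P30 v - P24 v = X2 v := by rw [P30, P24, X2]; ring
  have e4 : P30 v - P20 v = X3 v := by rw [P30, P20, X3]; ring
  have e5 : P24 v - P20 v = v ^ 2 * (v ^ 2 - 1) ^ 2 := by rw [P24, P20]; ring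
  have e6 : P30 v - P15 v = X2 v + X2 v := by linarith only [e2, e3]
  rcases hn with hn | hn | hn | hn <;> rcases ha with ha | ha | ha | ha
  · exact hne' (by rw [ha, hn])
  · refine mid ?_ (by linarith only [l1, hn])
    rw [ha, hn, abs_of_nonneg (by linarith only [l1]), e1]
  · refine big ?_
    rw [ha, hn, abs_of_nonneg (by linarith only [l1, l2]), e2]
  · refine big ?_
    rw [ha, hn, abs_of_nonneg (by linarith only [l1, l2, l3]), e6]
    linarith only [hX0]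
  · refine mid ?_ hn.le
    rw [ha, hn, abs_sub_comm, abs_of_nonneg (by linarith only [l1]), e1]
  · exact hne' (by rw [ha, hn])
  · refine small ?_ hn.ge
    rw [ha, hn, abs_of_nonneg (by linarith only [l2]), e5]
  · refine big ?_
    rw [ha, hn, abs_of_nonneg (by linarith only [l2, l3]), e4]
    exact hX3
  · refine big ?_
    rw [ha, hn, abs_sub_comm, abs_of_nonneg (by linarith only [l1, l2]), e2]
  · refine small ?_ (by linarith only [l2, hn])
    rw [ha, hn, abs_sub_comm, abs_of_nonneg (by linarith only [l2]), e5]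
  · exact hne' (by rw [ha, hn])
  · refine big ?_
    rw [ha, hn, abs_of_nonneg (by linarith only [l3]), e3]
  · refine big ?_
    rw [ha, hn, abs_sub_comm, abs_of_nonneg (by linarith only [l1, l2, l3]), e6]
    linarith only [hX0]
  · refine big ?_
    rw [ha, hn, abs_sub_comm, abs_of_nonneg (by linarith only [l2, l3]), e4]
    exact hX3
  · refine big ?_
    rw [ha, hn, abs_sub_comm, abs_of_nonneg (by linarith only [l3]), e3]
  · exact hne' (by rw [ha, hn])

/-! ### the rows -/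

variable {F : Type u} [Field F] [Fintype F]

/-- **`E₈(u)`** -/
theorem row_E8 {D : Dat} (h : Sit D ↥(chevE8.group F)) : False := by
  obtain ⟨v, hv⟩ : ∃ v, Fintype.card F = v := ⟨_, rfl⟩
  have hcu : Nat.card F = v := by rw [Nat.card_eq_fintype_card, hv]
  have hv2 : 2 ≤ v := by rw [← hv]; exact Fintype.one_lt_card
  have hn : (D.n : ℤ) = P15 v ∨ (D.n : ℤ) = P20 v ∨ (D.n : ℤ) = P24 v ∨ (D.n : ℤ) = P30 v :=
    e8_row hv (isoN h) fun h5 => by
      have := D.prime_n Nat.prime_five h5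
      omega
  obtain ⟨t, ht, htm, ht13, htc⟩ := h.exists_prime_m
  have h1 := ((adj_E8 F ht htc).resolve_left (ne_two htm)).resolve_left (h.not_adj_two_m htm)
  rw [hcu] at h1
  obtain ⟨w, rfl⟩ : ∃ w, v = w + 2 := ⟨v - 2, by omega⟩
  obtain ⟨N15, hN15⟩ := H528.TDRow.E78.nn15 w
  obtain ⟨N20, hN20⟩ := H528.TDRow.E78.nn20 w
  obtain ⟨N24, hN24⟩ := H528.TDRow.E78.nn24 w
  obtain ⟨N30, hN30⟩ := H528.TDRow.E78.nn30 w
  have x15 : CycExact ↥(chevE8.group F) N15 := exact_E8_15 hv hN15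
  have x24 : CycExact ↥(chevE8.group F) N24 := exact_E8_24 hv hN24
  have x30 : CycExact ↥(chevE8.group F) N30 := exact_E8_30 hv hN30
  rcases h1 with h1 | h1 | h1 | h1
  · have hd := dvd15 ht h1
    have hd' : t ∣ N15 := by
      rw [← Int.natCast_dvd_natCast, hN15]
      rw [pv15] at hd
      refine hd.trans (dvd_of_eq ?_)
      ring
    obtain ⟨h2, h3⟩ := exact' h x15 ht hd' htm
    exact num hv2 hn (Or.inl hN15) h2 h3
  · obtain ⟨T20, hT20c, hT20, hT20'⟩ := H528.TDRow.E78.torus_E8_20 (F := F) hv hN20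
    have hd := dvd20 ht h1
    have hd' : t ∣ N20 := by
      rw [← Int.natCast_dvd_natCast, hN20]
      rw [pv20] at hd
      refine hd.trans (dvd_of_eq ?_)
      ring
    obtain ⟨h2, h3⟩ := h.card_dvd hT20c ht (by rw [hT20]; exact hd') (hT20' t ht hd' (by omega)) htm
    rw [hT20] at h2 h3
    exact num hv2 hn (Or.inr (Or.inl hN20)) h2 h3
  · have hd := dvd24 ht h1
    have hd' : t ∣ N24 := by
      rw [← Int.natCast_dvd_natCast, hN24]
      rw [pv24] at hd
      refine hd.trans (dvd_of_eq ?_)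
      ring
    obtain ⟨h2, h3⟩ := exact' h x24 ht hd' htm
    exact num hv2 hn (Or.inr (Or.inr (Or.inl hN24))) h2 h3
  · have hd := dvd30 ht h1
    have hd' : t ∣ N30 := by
      rw [← Int.natCast_dvd_natCast, hN30]
      rw [pv30] at hd
      refine hd.trans (dvd_of_eq ?_)
      ring
    obtain ⟨h2, h3⟩ := exact' h x30 ht hd' htm
    exact num hv2 hn (Or.inr (Or.inr (Or.inr hN30))) h2 h3

/-- **`E₇(u)`** -/
theorem row_E7 {D : Dat} (h : Sit D ↥(chevE7.group F)) : False := by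
  obtain ⟨v, hv⟩ : ∃ v, Fintype.card F = v := ⟨_, rfl⟩
  have hn := e7_row hv (isoN h)
  have hq8 : D.q < 8 := by
    by_contra hc
    have := n_ge (D := D) (by omega)
    omega
  rcases hn with ⟨rfl, hn⟩ | ⟨rfl, hn⟩
  · have hq : D.q = 2 ∧ D.ε = 1 := by
      rcases tab D hq8 with h | h | h | h | h | h | h | h | h | h <;> (clear * - h hn; omega)
    have hc := S1064.result hv
    have h3 : 127 ∣ Nat.card ↥(chevE7.group F) := by
      norm_num only [_root_.one_mul] at hc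
      rw [hc]
      norm_num
    have := h.prm 127 (by norm_num) h3
    rw [hq.1, hq.2] at this
    revert this
    norm_num
  · have hq : D.q = 3 ∧ D.ε = 1 := by
      rcases tab D hq8 with h | h | h | h | h | h | h | h | h | h <;> (clear * - hn h; omega)
    have hc := S1064.result hv
    have h3 : 1093 ∣ Nat.card ↥(chevE7.group F) := by
      have h4 : 1093 ∣ 2 * Nat.card ↥(chevE7.group F) := by
        norm_num only [] at hc
        rw [hc]
        norm_num
      exact (Nat.Coprime.dvd_of_dvd_mul_left (by norm_num) h4)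
    have := h.prm 1093 (by norm_num) h3
    rw [hq.1, hq.2] at this
    revert this
    norm_num

end Cfsg.Agent.R2.Spec.X1.E6.ERE8
end

private theorem dce_db031d37bc4c : _root_.True := by
  try have : _root_.True := by simp only [_root_.Cfsg.Agent.R2.Spec.X1.E6.ERE8.P20.eq_1]
  try have : _root_.True := by simp only [_root_.Cfsg.Agent.R2.Spec.X1.E6.ERE8.P30.eq_1]
  try have : _root_.True := by simp only [_root_.Cfsg.Agent.R2.Spec.X1.E6.ERE8.X1.eq_1]
  try have : _root_.True := by simp only [_root_.Cfsg.Agent.R2.Spec.X1.E6.ERE8.Q5.eq_1]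
  try have : _root_.True := by simp only [_root_.Cfsg.Agent.R2.Spec.X1.E6.ERE8.X2.eq_1]
  try have : _root_.True := by simp only [_root_.Cfsg.Agent.R2.Spec.X1.E6.ERE8.X3.eq_1]
  try have : _root_.True := by simp only [_root_.Cfsg.Agent.R2.Spec.X1.E6.ERE8.P24.eq_1]
  try have : _root_.True := by simp only [_root_.Cfsg.Agent.R2.Spec.X1.E6.ERE8.P15.eq_1]
  exact _root_.True.intro
end
end
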